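import Mathlib
import Cfsg.Agent.CHEV.QuadPair6
import Cfsg.Agent.SOLV.OddOrderCor
import Cfsg.Agent.SOLV.Coprime

/-! Quadratic elements and coprime automorphisms, part A: `sl₂`-triples, the torus element of a
triple, and the regular action of the unipotent radical on the gradings of a flag. -/

set_option autoImplicit false

namespace CL.QFix

open CL.Quad Cfsg LinearMap Module Matrix
open scoped MatrixGroups

variable {k : Type*} [Field k] {M : Type*} [AddCommGroup M] [Module k M]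
variable {G : Subgroup (M →ₗ[k] M)ˣ} {α β : M →ₗ[k] M}

/-- an `sl₂`-triple of quadratic elements -/
structure Tri (G : Subgroup (M →ₗ[k] M)ˣ) (α β : M →ₗ[k] M) : Prop where
  l : α ∈ Qe G
  r : β ∈ Qe G
  aba : α * β * α = α
  bab : β * α * β = β

theorem Tri.symm (h : Tri G α β) : Tri G β α := ⟨h.r, h.l, h.bab, h.aba⟩

theorem Tri.mono {H : Subgroup (M →ₗ[k] M)ˣ} (h : Tri H α β) (hH : H ≤ G) : Tri G α β :=
  ⟨Qe.mono hH h.l, Qe.mono hH h.r, h.aba, h.bab⟩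

theorem Tri.cj (h : Tri G α β) {g : (M →ₗ[k] M)ˣ} (hg : g ∈ G) : Tri G (cj g α) (cj g β) :=
  ⟨Qe.cj h.l hg, Qe.cj h.r hg, by rw [← cj_mul, ← cj_mul, h.aba],
    by rw [← cj_mul, ← cj_mul, h.bab]⟩

theorem Tri.opp (h : Tri G α β) : Opp α β := opp_of_partner h.aba h.bab

theorem Tri.sl (h : Tri G α β) : SLData (algebraMap k (M →ₗ[k] M)).toAddMonoidHom α β :=
  slData_of_partner h.l.1 h.r.1 h.aba h.bab

theorem Tri.hom_val (h : Tri G α β) (g : SL(2, k)) : (h.sl.hom g : M →ₗ[k] M) =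
    1 - α * β - β * α + g 0 0 • (α * β) + g 0 1 • α + g 1 0 • β + g 1 1 • (β * α) := by
  rw [h.sl.hom_val]
  simp [Algebra.smul_def]

theorem Tri.range_le (h : Tri G α β) : h.sl.hom.range ≤ G :=
  range_le_of_elem _
    (fun r => Qe.mem h.l r (by rw [h.sl.hom_E12]; simp [Algebra.smul_def]))
    (fun r => Qe.mem h.r r (by rw [h.sl.hom_E21]; simp [Algebra.smul_def]))

theorem Tri.hom_mem (h : Tri G α β) (g : SL(2, k)) : h.sl.hom g ∈ G := h.range_le ⟨g, rfl⟩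

theorem Tri.injective (h : Tri G α β) (h0 : α ≠ 0) : Function.Injective h.sl.hom :=
  h.sl.injective fun x hx => by
    have : x • α = 0 := by simpa [Algebra.smul_def] using hx
    exact (smul_eq_zero.1 this).resolve_right h0

/-- the diagonal matrix -/
def dg (t : kˣ) : SL(2, k) := Dg (t : k) (t⁻¹ : kˣ) t.mul_inv

theorem dg_mul (s t : kˣ) : dg (s * t) = dg s * dg t := by
  apply sl_ext <;> simp [dg, mul_ent, Dg_00, Dg_01, Dg_10, Dg_11, mul_comm]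

theorem dg_one : dg (1 : kˣ) = 1 := by
  apply sl_ext <;> simp [dg, Dg_00, Dg_01, Dg_10, Dg_11, one_00, one_01, one_10, one_11]

/-- the diagonal torus -/
def dgHom : kˣ →* SL(2, k) := ⟨⟨dg, dg_one⟩, dg_mul⟩

/-- the torus of a triple -/
noncomputable def Tri.tor (h : Tri G α β) : kˣ →* (M →ₗ[k] M)ˣ := h.sl.hom.comp dgHom

theorem Tri.tor_val (h : Tri G α β) (t : kˣ) : (h.tor t : M →ₗ[k] M) =
    1 + ((t : k) - 1) • (α * β) + (((t⁻¹ : kˣ) : k) - 1) • (β * α) := by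
  have : (h.tor t : M →ₗ[k] M) = (h.sl.hom (dg t) : M →ₗ[k] M) := rfl
  rw [this, h.hom_val]
  simp only [dg, Dg_00, Dg_01, Dg_10, Dg_11, zero_smul, add_zero, sub_smul, one_smul]
  abel

theorem Tri.tor_mem (h : Tri G α β) (t : kˣ) : h.tor t ∈ G := h.hom_mem _

theorem Tri.tor_congr {H : Subgroup (M →ₗ[k] M)ˣ} {α' β' : M →ₗ[k] M} (h : Tri G α β)
    (h' : Tri H α' β') (e1 : α * β = α' * β') (e2 : β * α = β' * α') (t : kˣ) :
    h.tor t = h'.tor t := Units.ext (by rw [h.tor_val, h'.tor_val, e1, e2])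

theorem Tri.tor_cj (h : Tri G α β) {H : Subgroup (M →ₗ[k] M)ˣ} {g : (M →ₗ[k] M)ˣ}
    (h' : Tri H (Quad.cj g α) (Quad.cj g β)) (t : kˣ) : h'.tor t = g * h.tor t * g⁻¹ :=
  Units.ext (by
    rw [cj_val, h'.tor_val, h.tor_val, cj_add, cj_add, cj_one, cj_smul, cj_smul, cj_mul, cj_mul])

section simp
variable (h : Tri G α β)
include h

theorem Tri.aa (w : M →ₗ[k] M) : α * (α * w) = 0 := by rw [← mul_assoc, h.l.1, zero_mul]
theorem Tri.bb (w : M →ₗ[k] M) : β * (β * w) = 0 := h.symm.aa w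
theorem Tri.aba' : α * (β * α) = α := by rw [← mul_assoc, h.aba]
theorem Tri.bab' : β * (α * β) = β := h.symm.aba'
theorem Tri.abaw (w : M →ₗ[k] M) : α * (β * (α * w)) = α * w := by
  rw [← mul_assoc, ← mul_assoc, h.aba]
theorem Tri.babw (w : M →ₗ[k] M) : β * (α * (β * w)) = β * w := h.symm.abaw w

end simp

/-- `x` commutes with the grading of the triple -/
def Cm (x α β : M →ₗ[k] M) : Prop := x * (α * β) = α * β * x ∧ x * (β * α) = β * α * x

theorem Cm.symm {x : M →ₗ[k] M} (h : Cm x α β) : Cm x β α := ⟨h.2, h.1⟩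

theorem Cm.of_comm {x : M →ₗ[k] M} (h1 : x * α = α * x) (h2 : x * β = β * x) : Cm x α β :=
  ⟨by rw [← mul_assoc, h1, mul_assoc, h2, mul_assoc],
    by rw [← mul_assoc, h2, mul_assoc, h1, mul_assoc]⟩

theorem Cm.tor (h : Tri G α β) {x : M →ₗ[k] M} (hx : Cm x α β) (t : kˣ) :
    x * h.tor t = h.tor t * x := by
  rw [h.tor_val]
  simp only [mul_add, add_mul, mul_one, one_mul, mul_smul_comm, smul_mul_assoc, hx.1, hx.2]

theorem Tri.cm_of_tor (h : Tri G α β) {t : kˣ} (ht : (t : k) ^ 2 ≠ 1) {x : M →ₗ[k] M}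
    (hx : x * h.tor t = h.tor t * x) : Cm x α β := by
  have key : ∀ {α β : M →ₗ[k] M} (h : Tri G α β) {t : kˣ}, (t : k) ^ 2 ≠ 1 →
      x * h.tor t = h.tor t * x → x * (α * β) = α * β * x := by
    intro α β h t ht hx
    have e : ((h.tor t : M →ₗ[k] M) - 1) * ((h.tor t : M →ₗ[k] M) - ((t⁻¹ : kˣ) : k) • 1) =
        (((t : k) - 1) * ((t : k) - ((t⁻¹ : kˣ) : k))) • (α * β) := by
      rw [h.tor_val]
      simp only [mul_add, add_mul, mul_sub, sub_mul, mul_one, one_mul, mul_smul_comm,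
        smul_mul_assoc, mul_assoc, h.aa, h.bb, h.abaw, h.babw, h.aba', h.bab', mul_zero, smul_zero]
      have := t.mul_inv
      module
    have hc : Commute x (((h.tor t : M →ₗ[k] M) - 1) *
        ((h.tor t : M →ₗ[k] M) - ((t⁻¹ : kˣ) : k) • 1)) :=
      ((Commute.sub_right hx (Commute.one_right x))).mul_right
        (Commute.sub_right hx ((Commute.one_right x).smul_right _))
    rw [e] at hc
    have h1 : (t : k) - 1 ≠ 0 := fun e => ht (by rw [sub_eq_zero.1 e, one_pow])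
    have h2 : (t : k) - ((t⁻¹ : kˣ) : k) ≠ 0 := fun e => ht (by
      rw [pow_two]; nth_rewrite 2 [sub_eq_zero.1 e]; exact t.mul_inv)
    have := hc.eq
    rw [mul_smul_comm, smul_mul_assoc] at this
    exact smul_right_injective _ (mul_ne_zero h1 h2) this
  refine ⟨key h ht hx, key h.symm (t := t⁻¹) (fun e => ht ?_) ?_⟩
  · rw [← Units.val_pow_eq_pow_val, Units.val_eq_one, inv_pow, inv_eq_one] at e
    rw [← Units.val_pow_eq_pow_val, e, Units.val_one]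
  · have : h.symm.tor t⁻¹ = h.tor t := Units.ext (by rw [h.tor_val, h.symm.tor_val, inv_inv]; abel)
    rw [this]; exact hx

theorem Tri.tor_mul_a (h : Tri G α β) (t : kˣ) : h.tor t * α = (t : k) • α := by
  rw [h.tor_val]
  simp only [add_mul, one_mul, smul_mul_assoc, mul_assoc, h.aba', h.l.1, mul_zero, smul_zero]
  module

theorem Tri.a_mul_tor (h : Tri G α β) (t : kˣ) : α * h.tor t = ((t⁻¹ : kˣ) : k) • α := by
  rw [h.tor_val]
  simp only [mul_add, mul_one, mul_smul_comm, h.aba', h.aa, smul_zero]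
  module

theorem Tri.cj_tor_a (h : Tri G α β) (t : kˣ) : Quad.cj (h.tor t) α = ((t : k) ^ 2) • α := by
  rw [Quad.cj, h.tor_mul_a, ← map_inv, smul_mul_assoc, h.a_mul_tor, inv_inv, smul_smul, pow_two]

/-- the partner is determined by the grading -/
theorem Tri.eq_of_grading {H : Subgroup (M →ₗ[k] M)ˣ} {β' : M →ₗ[k] M} (h : Tri G α β)
    (h' : Tri H α β') (e1 : α * β = α * β') (e2 : β * α = β' * α) : β = β' := by
  calc β = β * (α * β) := h.bab'.symm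
    _ = β' * α * β' := by rw [e1, ← mul_assoc, e2]
    _ = β' := h'.bab

theorem cj_eq_iff {g : (M →ₗ[k] M)ˣ} {x : M →ₗ[k] M} : cj g x = x ↔ g * x = x * g :=
  ⟨fun h => by
    conv_rhs => rw [← h]
    simp [cj, mul_assoc], cj_of_comm⟩

theorem Tri.cj_r_of_cm (h : Tri G α β) {g : (M →ₗ[k] M)ˣ} (hg : Cm (g : M →ₗ[k] M) α β) {c : k}
    (hc : Quad.cj g α = c • α) : c • Quad.cj g β = β := by
  have e1 : α * (c • Quad.cj g β) = α * β := by
    rw [mul_smul_comm, ← smul_mul_assoc, ← hc, ← cj_mul, cj_of_comm hg.1]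
  have e2 : (c • Quad.cj g β) * α = β * α := by
    rw [smul_mul_assoc, ← mul_smul_comm, ← hc, ← cj_mul, cj_of_comm hg.2]
  have e3 : (c • Quad.cj g β) * α * (c • Quad.cj g β) = c • Quad.cj g β := by
    rw [smul_mul_assoc, ← mul_smul_comm, ← hc, mul_smul_comm, ← cj_mul, ← cj_mul, h.bab]
  calc c • Quad.cj g β = (c • Quad.cj g β) * α * (c • Quad.cj g β) := e3.symm
    _ = β * α * β := by rw [e2, mul_assoc, e1, mul_assoc]
    _ = β := h.bab

/-- `x` acts on the flag of `α` with weights `t, 1, t⁻¹` -/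
def Fl (α : M →ₗ[k] M) (t : kˣ) (x : M →ₗ[k] M) : Prop :=
  (∀ m ∈ range α, x m = (t : k) • m) ∧ (∀ m ∈ ker α, x m - m ∈ range α) ∧
    ∀ m, x m - ((t⁻¹ : kˣ) : k) • m ∈ ker α

theorem Fl.congr {α' : M →ₗ[k] M} {t : kˣ} {x : M →ₗ[k] M} (h : Fl α t x)
    (h1 : range α = range α') (h2 : ker α = ker α') : Fl α' t x := by
  unfold Fl at h ⊢
  rwa [← h1, ← h2]

theorem Tri.fl (h : Tri G α β) (t : kˣ) : Fl α t (h.tor t) := by
  refine ⟨?_, fun m hm => ?_, fun m => ?_⟩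
  · rintro _ ⟨m, rfl⟩
    exact congrArg (fun f : M →ₗ[k] M => f m) (h.tor_mul_a t)
  · rw [h.tor_val]
    refine ⟨((t : k) - 1) • β m, ?_⟩
    simp [mem_ker.1 hm]
  · have := congrArg (fun f : M →ₗ[k] M => f m) (h.a_mul_tor t)
    simp only [Module.End.mul_apply, LinearMap.smul_apply] at this
    rw [mem_ker, map_sub, this, map_smul, sub_self]

theorem Fl.cj {t : kˣ} {x : M →ₗ[k] M} (h : Fl α t x) (g : (M →ₗ[k] M)ˣ) :
    Fl (cj g α) t (cj g x) := by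
  have e : ∀ m, Quad.cj g x ((g : M →ₗ[k] M) m) = (g : M →ₗ[k] M) (x m) := fun m => by
    have : Quad.cj g x * g = g * x := by simp [Quad.cj, mul_assoc]
    exact congrArg (fun f : M →ₗ[k] M => f m) this
  unfold Fl
  rw [range_cj, ker_cj]
  refine ⟨?_, ?_, fun m => ?_⟩
  · rintro _ ⟨m, hm, rfl⟩
    rw [e, h.1 m hm, map_smul]
  · rintro _ ⟨m, hm, rfl⟩
    exact ⟨_, h.2.1 m hm, by rw [e, map_sub]⟩
  · obtain ⟨m, rfl⟩ : ∃ m', (g : M →ₗ[k] M) m' = m :=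
      ⟨(g⁻¹ : (M →ₗ[k] M)ˣ).1 m, by rw [← Module.End.mul_apply, Units.mul_inv]; rfl⟩
    exact ⟨_, h.2.2 m, by rw [e, map_sub, map_smul]⟩

theorem Fl.mul_inv (hα : α * α = 0) {t : kˣ} {x : M →ₗ[k] M} {y : (M →ₗ[k] M)ˣ} (hx : Fl α t x)
    (hy : Fl α t y) : x * (y⁻¹ : (M →ₗ[k] M)ˣ) - 1 ∈ flagJ (range α) (ker α) := by
  have hle : range α ≤ ker α := mul_eq_zero_iff.1 hα
  have e : ∀ m, (y : M →ₗ[k] M) ((y⁻¹ : (M →ₗ[k] M)ˣ).1 m) = m := fun m => by
    rw [← Module.End.mul_apply, Units.mul_inv]; rfl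
  have e' : ∀ m, (x * (y⁻¹ : (M →ₗ[k] M)ˣ) - 1 : M →ₗ[k] M) m =
      x ((y⁻¹ : (M →ₗ[k] M)ˣ).1 m) - (y : M →ₗ[k] M) ((y⁻¹ : (M →ₗ[k] M)ˣ).1 m) := fun m => by
    rw [e]; rfl
  have k1 : ∀ m ∈ ker α, (y⁻¹ : (M →ₗ[k] M)ˣ).1 m ∈ ker α := by
    intro m hm
    have := hy.2.2 ((y⁻¹ : (M →ₗ[k] M)ˣ).1 m)
    rw [e] at this
    have h2 := (ker α).sub_mem hm this
    rw [sub_sub_cancel] at h2
    exact ((ker α).smul_mem_iff (t⁻¹ : kˣ).ne_zero).1 h2
  refine ⟨?_, ?_, ?_⟩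
  · rintro _ ⟨m, rfl⟩
    rw [e']
    have := (ker α).sub_mem (hx.2.2 ((y⁻¹ : (M →ₗ[k] M)ˣ).1 m)) (hy.2.2 ((y⁻¹ : (M →ₗ[k] M)ˣ).1 m))
    rwa [sub_sub_sub_cancel_right] at this
  · rintro _ ⟨m, hm, rfl⟩
    rw [e']
    have := (range α).sub_mem (hx.2.1 _ (k1 m hm)) (hy.2.1 _ (k1 m hm))
    rwa [sub_sub_sub_cancel_right] at this
  · intro m hm
    have k2 : (y⁻¹ : (M →ₗ[k] M)ˣ).1 m ∈ range α := by
      have := hy.2.1 _ (k1 m (hle hm))
      rw [e] at this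
      have h2 := (range α).sub_mem hm this
      rwa [sub_sub_cancel] at h2
    rw [mem_ker, e', hx.1 _ k2, hy.1 _ k2, sub_self]

/-- the unipotent radical of the flag of `α` -/
def Ug (G : Subgroup (M →ₗ[k] M)ˣ) (α : M →ₗ[k] M) : Subgroup (M →ₗ[k] M)ˣ :=
  G ⊓ onePlus (flagJ (range α) (ker α)) (flagJ_mul _ _) ⟨3, flagJ_cube _ _⟩

theorem mem_Ug {u : (M →ₗ[k] M)ˣ} :
    u ∈ Ug G α ↔ u ∈ G ∧ (u : M →ₗ[k] M) - 1 ∈ flagJ (range α) (ker α) := Iff.rfl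

theorem flagJ_mul_a {n : M →ₗ[k] M} (hn : n ∈ flagJ (range α) (ker α)) : n * α = 0 :=
  mul_eq_zero_iff.2 hn.2.2

theorem a_mul_flagJ {n : M →ₗ[k] M} (hn : n ∈ flagJ (range α) (ker α)) : α * n = 0 :=
  mul_eq_zero_iff.2 hn.1

theorem Ug_cj {u : (M →ₗ[k] M)ˣ} (hu : u ∈ Ug G α) : cj u α = α := by
  apply cj_of_comm
  have h1 := flagJ_mul_a hu.2
  have h2 := a_mul_flagJ hu.2
  rw [sub_mul, one_mul, sub_eq_zero] at h1
  rw [mul_sub, mul_one, sub_eq_zero] at h2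
  rw [h1, h2]

theorem flagJ_cj {n : M →ₗ[k] M} (hn : n ∈ flagJ (range α) (ker α)) (g : (M →ₗ[k] M)ˣ) :
    cj g n ∈ flagJ (range (cj g α)) (ker (cj g α)) := by
  have e : ∀ m, cj g n ((g : M →ₗ[k] M) m) = (g : M →ₗ[k] M) (n m) := fun m => by
    have : cj g n * g = g * n := by simp [cj, mul_assoc]
    exact congrArg (fun f : M →ₗ[k] M => f m) this
  refine ⟨mul_eq_zero_iff.1 (by rw [← cj_mul, a_mul_flagJ hn, cj_zero]), ?_,
    mul_eq_zero_iff.1 (by rw [← cj_mul, flagJ_mul_a hn, cj_zero])⟩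
  rw [range_cj, ker_cj]
  rintro _ ⟨_, ⟨m, hm, rfl⟩, rfl⟩
  exact ⟨_, hn.2.1 ⟨m, hm, rfl⟩, (e m).symm⟩

/-- `g` preserves the flag of `α` -/
def Pres (g : (M →ₗ[k] M)ˣ) (α : M →ₗ[k] M) : Prop :=
  range (cj g α) = range α ∧ ker (cj g α) = ker α

theorem Pres.of_smul {g : (M →ₗ[k] M)ˣ} {c : k} (hc : c ≠ 0) (h : cj g α = c • α) : Pres g α := by
  unfold Pres
  rw [h, LinearMap.range_smul _ _ hc, LinearMap.ker_smul _ _ hc]
  exact ⟨rfl, rfl⟩

theorem Pres.of_eq {g : (M →ₗ[k] M)ˣ} (h : cj g α = α) : Pres g α := by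
  unfold Pres; rw [h]; exact ⟨rfl, rfl⟩

theorem conj_mem_Ug {g u : (M →ₗ[k] M)ˣ} (hg : g ∈ Subgroup.normalizer (G : Set (M →ₗ[k] M)ˣ))
    (hp : Pres g α) (hu : u ∈ Ug G α) : g * u * g⁻¹ ∈ Ug G α := by
  refine ⟨(Subgroup.mem_normalizer_iff.1 hg u).1 hu.1, ?_⟩
  have := flagJ_cj hu.2 g
  rw [hp.1, hp.2, ← cj_val_sub_one] at this
  exact this

theorem Tri.eq_zero_of_cm (h : Tri G α β) {n : M →ₗ[k] M} (hn : n ∈ flagJ (range α) (ker α))
    (hc : Cm n α β) : n = 0 := by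
  have h1 := flagJ_mul_a hn
  have h2 := a_mul_flagJ hn
  have e1 : α * β * n = 0 := by rw [← hc.1, ← mul_assoc, h1, zero_mul]
  have e2 : n * (β * α) = 0 := by rw [hc.2, mul_assoc, h2, mul_zero]
  ext m
  have hm : m - β (α m) ∈ ker α := by
    have := congrArg (fun f : M →ₗ[k] M => f m) h.aba
    simp only [Module.End.mul_apply] at this
    rw [mem_ker, map_sub, this, sub_self]
  obtain ⟨v, hv⟩ := hn.2.1 ⟨_, hm, rfl⟩
  have e3 : n (β (α m)) = 0 := congrArg (fun f : M →ₗ[k] M => f m) e2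
  rw [map_sub, e3, sub_zero] at hv
  have e4 : α (β (n m)) = 0 := congrArg (fun f : M →ₗ[k] M => f m) e1
  have e5 : α (β (α v)) = α v := congrArg (fun f : M →ₗ[k] M => f v) h.aba
  rw [LinearMap.zero_apply, ← e4, ← hv, e5]

theorem Tri.pres_tor (h : Tri G α β) (t : kˣ) : Pres (h.tor t) α :=
  Pres.of_smul (pow_ne_zero 2 t.ne_zero) (h.cj_tor_a t)

/-- the unipotent radical is transitive on the elements acting on the flag as the torus does -/
theorem Tri.exists_conj [Finite G] (h : Tri G α β) {t : kˣ} (ht : (t : k) ^ 2 ≠ 1)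
    {x : (M →ₗ[k] M)ˣ} (hx : x ∈ G) (hf : Fl α t x) :
    ∃ u ∈ Ug G α, x = u * h.tor t * u⁻¹ := by
  have : Finite (Ug G α) := CL.finite_of_le (inf_le_left : Ug G α ≤ G)
  have hn : h.tor t ∈ Subgroup.normalizer (G : Set (M →ₗ[k] M)ˣ) :=
    Subgroup.le_normalizer (h.tor_mem t)
  let f : Ug G α → Ug G α := fun u => ⟨u * (h.tor t * u⁻¹ * (h.tor t)⁻¹),
    mul_mem u.2 (conj_mem_Ug hn (h.pres_tor t) (inv_mem u.2))⟩
  have hinj : Function.Injective f := by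
    intro u v huv
    have e : (u : (M →ₗ[k] M)ˣ) * (h.tor t * u⁻¹ * (h.tor t)⁻¹) =
      v * (h.tor t * v⁻¹ * (h.tor t)⁻¹) := congrArg Subtype.val huv
    have e2 : ((v⁻¹ * u : Ug G α) : (M →ₗ[k] M)ˣ) * h.tor t =
        h.tor t * ((v⁻¹ * u : Ug G α) : (M →ₗ[k] M)ˣ) := by
      simp only [Subgroup.coe_mul, Subgroup.coe_inv] at e ⊢
      calc (v : (M →ₗ[k] M)ˣ)⁻¹ * u * h.tor t =
          (v : (M →ₗ[k] M)ˣ)⁻¹ * (u * (h.tor t * (u : (M →ₗ[k] M)ˣ)⁻¹ * (h.tor t)⁻¹)) *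
            h.tor t * u := by group
        _ = _ := by rw [e]; group
    have e3 := congrArg Units.val e2
    rw [Units.val_mul, Units.val_mul] at e3
    have e4 := h.eq_zero_of_cm (v⁻¹ * u).2.2 (h.cm_of_tor ht (by rw [sub_mul, mul_sub, e3]; simp))
    have e5 : v⁻¹ * u = 1 := Subtype.ext (eq_one_iff_sub.2 e4)
    exact (inv_mul_eq_one.1 e5).symm
  obtain ⟨u, hu⟩ := Finite.injective_iff_surjective.1 hinj ⟨x * (h.tor t)⁻¹,
    mem_Ug.2 ⟨G.mul_mem hx (G.inv_mem (h.tor_mem t)), by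
      rw [Units.val_mul]; exact Fl.mul_inv h.l.1 hf (h.fl t)⟩⟩
  refine ⟨u, u.2, ?_⟩
  have e : (u : (M →ₗ[k] M)ˣ) * (h.tor t * u⁻¹ * (h.tor t)⁻¹) = x * (h.tor t)⁻¹ :=
    congrArg Subtype.val hu
  rw [← mul_assoc, ← mul_assoc, mul_left_inj] at e
  rw [← e, Subgroup.coe_inv]

/-- Glauberman's lemma for the conjugation action on endomorphisms -/
theorem fix_cj (A K : Subgroup (M →ₗ[k] M)ˣ) [Finite A] [Finite K]
    (hAK : A ≤ Subgroup.normalizer (K : Set (M →ₗ[k] M)ˣ))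
    (hcop : (Nat.card A).Coprime (Nat.card K)) (x : M →ₗ[k] M)
    (hx : ∀ a ∈ A, ∃ g ∈ K, cj a x = cj g x) : ∃ g ∈ K, ∀ a ∈ A, cj a (cj g x) = cj g x := by
  letI : MulAction (M →ₗ[k] M)ˣ (M →ₗ[k] M) :=
    { smul := cj, one_smul := one_cj, mul_smul := fun a b x => (cj_cj a b x).symm }
  exact CL.coprime_fixed_point A K hAK hcop (CL.isSolvable_or_of_coprime A K hcop) x hx

theorem le_normalizer_of_conj {Γ : Type*} [Group Γ] {A K : Subgroup Γ}
    (h : ∀ a ∈ A, ∀ x ∈ K, a * x * a⁻¹ ∈ K) : A ≤ Subgroup.normalizer (K : Set Γ) := by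
  intro a ha
  rw [Subgroup.mem_normalizer_iff]
  refine fun x => ⟨h a ha x, fun hx => ?_⟩
  simpa [mul_assoc] using h _ (A.inv_mem ha) _ hx

theorem Tri.exists_fix [Finite G] (h : Tri G α β) {t : kˣ} (ht : (t : k) ^ 2 ≠ 1)
    (A : Subgroup (M →ₗ[k] M)ˣ) [Finite A]
    (hAG : A ≤ Subgroup.normalizer (G : Set (M →ₗ[k] M)ˣ))
    (hcop : (Nat.card A).Coprime (Nat.card (Ug G α))) (hp : ∀ a ∈ A, Pres a α) :
    ∃ β', Tri G α β' ∧ ∀ a ∈ A, Cm (a : M →ₗ[k] M) α β' := by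
  have : Finite (Ug G α) := CL.finite_of_le (inf_le_left : Ug G α ≤ G)
  obtain ⟨u, hu, hfix⟩ := fix_cj A (Ug G α)
    (le_normalizer_of_conj fun a ha x hx => conj_mem_Ug (hAG ha) (hp a ha) hx) hcop
    (h.tor t) fun a ha => by
      obtain ⟨u, hu, e⟩ := h.exists_conj ht
        ((Subgroup.mem_normalizer_iff.1 (hAG ha) _).1 (h.tor_mem t))
        (by rw [cj_val]; exact ((h.fl t).cj a).congr (hp a ha).1 (hp a ha).2)
      exact ⟨u, hu, by rw [← cj_val, e, cj_val]⟩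
  have h' := h.cj hu.1
  have h'' : Tri G α (Quad.cj u β) := by rwa [Ug_cj hu] at h'
  refine ⟨_, h'', fun a ha => h''.cm_of_tor ht ?_⟩
  have e : h''.tor t = u * h.tor t * u⁻¹ := by
    rw [← h.tor_cj h']
    exact h''.tor_congr h' (by rw [Ug_cj hu]) (by rw [Ug_cj hu]) t
  rw [e, cj_val]
  exact cj_eq_iff.1 (hfix a ha)

theorem isPGroup_Ug {p : ℕ} [hp : Fact p.Prime] [CharP k p] (hp3 : 3 ≤ p) :
    IsPGroup p (Ug G α) := by
  intro u
  refine ⟨1, Subtype.ext (Units.ext ?_)⟩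
  by_cases hM : Nontrivial (M →ₗ[k] M)
  · have : CharP (M →ₗ[k] M) p := charP_of_injective_algebraMap (algebraMap k _).injective p
    have h1 : ((u : (M →ₗ[k] M)ˣ) : M →ₗ[k] M) - 1 ∈ flagJ (range α) (ker α) := u.2.2
    have h2 := Submodule.pow_mem_pow _ h1 3
    rw [flagJ_cube, Submodule.mem_bot] at h2
    have h3 := sub_pow_char_of_commute (p := p) (Commute.one_right ((u : (M →ₗ[k] M)ˣ) : M →ₗ[k] M))
    rw [pow_eq_zero_of_le hp3 h2, one_pow, eq_comm, sub_eq_zero] at h3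
    simpa using h3
  · rw [not_nontrivial_iff_subsingleton] at hM
    exact Subsingleton.elim _ _

end CL.QFix
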