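import Mathlib
import Cfsg.Agent.SIG.QFixA
import Cfsg.Agent.SOLV.CoprimeSylow
import Cfsg.Agent.SOLV.Basic

/-! Quadratic elements and coprime automorphisms, part B: the Jacobson--Morozov property. -/

set_option autoImplicit false

namespace CL.QFix

open CL.Quad Cfsg LinearMap Module Polynomial
open scoped MatrixGroups commutatorElement

variable {k : Type*} [Field k] {M : Type*} [AddCommGroup M] [Module k M]
variable {G : Subgroup (M →ₗ[k] M)ˣ} {α β : M →ₗ[k] M}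

/-- every quadratic element lies in a triple -/
def JM (G : Subgroup (M →ₗ[k] M)ˣ) : Prop := ∀ α ∈ Qe G, ∃ β, Tri G α β

theorem finite_units [Finite M] : Finite (M →ₗ[k] M)ˣ := by
  have : Finite (M →ₗ[k] M) := DFunLike.finite _
  infer_instance

theorem rk_mul_le_left [FiniteDimensional k M] (x y : M →ₗ[k] M) : rk (x * y) ≤ rk x :=
  Submodule.finrank_mono (range_mul_le _ _)

theorem rk_mul_le_right [FiniteDimensional k M] (x y : M →ₗ[k] M) : rk (x * y) ≤ rk y := by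
  have := rk_mul_add x y
  omega

theorem Tri.ne_zero (h : Tri G α β) (h0 : α ≠ 0) : β ≠ 0 := by
  rintro rfl
  exact h0 (by simpa using h.aba.symm)

theorem Tri.qd [FiniteDimensional k M] (h : Tri G α β) (hα : α ∈ Qd G) : β ∈ Qd G :=
  Qd.of_rk_le hα h.r (h.ne_zero hα.2.1) (by
    rw [← h.bab]; exact (rk_mul_le_left _ _).trans (rk_mul_le_right _ _))

/-- every root element has an opposite root element -/
def HO (G : Subgroup (M →ₗ[k] M)ˣ) : Prop := ∀ α ∈ Qd G, ∃ β ∈ Qd G, Opp α β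

theorem JM.ho [FiniteDimensional k M] (h : JM G) : HO G := fun α hα => by
  obtain ⟨β, hβ⟩ := h α hα.1
  exact ⟨β, hβ.qd hα, hβ.opp⟩

theorem Qe_cent {t : (M →ₗ[k] M)ˣ} :
    α ∈ Qe (G ⊓ Subgroup.centralizer {t}) ↔ α ∈ Qe G ∧ cj t α = α := by
  refine ⟨fun h => ⟨Qe.mono inf_le_left h, ?_⟩, fun h => ⟨h.1.1, fun c => ?_⟩⟩
  · have := Subgroup.mem_centralizer_singleton_iff.1 (Qe.un_mem h).2
    rw [← un_sub_one α h.1, ← cj_val_sub_one, ← this, mul_inv_cancel_right]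
  · refine ⟨un _ (Qe.smul h.1 c).1, ⟨Qe.un_mem (Qe.smul h.1 c), ?_⟩, rfl⟩
    refine Subgroup.mem_centralizer_singleton_iff.2 (Units.ext ?_)
    rw [Units.val_mul, Units.val_mul, un_val, add_mul, mul_add, smul_mul_assoc, mul_smul_comm,
      cj_eq_iff.1 h.2, one_mul, mul_one]

theorem cj_zpowers {t : (M →ₗ[k] M)ˣ} (hp : Pres t α) : ∀ a ∈ Subgroup.zpowers t, Pres a α := by
  let S : Subgroup (M →ₗ[k] M)ˣ :=
    { carrier := {a | Pres a α}
      one_mem' := Pres.of_eq (one_cj α)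
      mul_mem' := fun {a b} ha hb => by
        unfold Pres at *
        simp only [Set.mem_setOf_eq] at *
        rw [← cj_cj, range_cj, ker_cj, hb.1, hb.2, ← range_cj, ← ker_cj]
        exact ha
      inv_mem' := fun {a} ha => by
        unfold Pres at *
        simp only [Set.mem_setOf_eq] at *
        constructor
        · rw [range_cj, ← ha.1, ← range_cj, cj_inv_cj]; rw [ha.1]
        · rw [ker_cj, ← ha.2, ← ker_cj, cj_inv_cj]; rw [ha.2] }
  exact fun a ha => (Subgroup.zpowers_le.2 (show t ∈ S from hp) ha : a ∈ S)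

theorem card_units_coprime (p : ℕ) [Fact p.Prime] [Finite k] [CharP k p] :
    (Nat.card kˣ).Coprime p := by
  have := Fintype.ofFinite k
  obtain ⟨n, -, hn⟩ := FiniteField.card k p
  rw [Nat.card_units, Nat.card_eq_fintype_card, hn]
  have h1 : 1 ≤ p ^ (n : ℕ) := Nat.one_le_pow _ _ (Fact.out : p.Prime).pos
  refine Nat.Coprime.coprime_dvd_right (dvd_pow_self p n.ne_zero) ?_
  exact (Nat.coprime_self_sub_left h1).2 (by simp)

theorem three_le_of_two_ne (p : ℕ) [hp : Fact p.Prime] [CharP k p] (hk2 : (2 : k) ≠ 0) : 3 ≤ p := by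
  have h1 := hp.out.two_le
  rcases h1.lt_or_eq with h | h
  · exact h
  · subst h
    exact absurd (by exact_mod_cast CharP.cast_eq_zero k 2) hk2

theorem Tri.tor_pow [Finite k] (h : Tri G α β) (t : kˣ) : h.tor t ^ Nat.card kˣ = 1 := by
  rw [← map_pow, pow_card_eq_one', map_one]

theorem exists_unit (hk2 : (2 : k) ≠ 0) (hk3 : Nat.card k ≠ 3) : ∃ t : kˣ, (t : k) ^ 2 ≠ 1 := by
  obtain ⟨a, h1, h2⟩ := exists_sq_ne_one hk2 hk3
  exact ⟨Units.mk0 a h1, h2⟩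

section Fin

variable (p : ℕ) [Fact p.Prime] [Finite k] [CharP k p] [Finite M]
  (hk2 : (2 : k) ≠ 0) (hk3 : Nat.card k ≠ 3)
include hk2

theorem coprime_Ug {A : Subgroup (M →ₗ[k] M)ˣ} (hA : (Nat.card A).Coprime p) :
    (Nat.card A).Coprime (Nat.card (Ug G α)) := by
  have := finite_units (k := k) (M := M)
  exact CL.coprime_card_of_isPGroup (isPGroup_Ug (three_le_of_two_ne p hk2)) hA

omit [Finite M] hk2 in
theorem coprime_zpowers {t : (M →ₗ[k] M)ˣ} (ht : t ^ Nat.card kˣ = 1) :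
    (Nat.card (Subgroup.zpowers t)).Coprime p := by
  rw [Nat.card_zpowers]
  exact (card_units_coprime p).coprime_dvd_left (orderOf_dvd_of_pow_eq_one ht)

include hk3 p

theorem Tri.exists_fix' (h : Tri G α β) (A : Subgroup (M →ₗ[k] M)ˣ)
    (hAG : A ≤ Subgroup.normalizer (G : Set (M →ₗ[k] M)ˣ)) (hA : (Nat.card A).Coprime p)
    (hp : ∀ a ∈ A, Pres a α) : ∃ β', Tri G α β' ∧ ∀ a ∈ A, Cm (a : M →ₗ[k] M) α β' := by
  have := finite_units (k := k) (M := M)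
  obtain ⟨t, ht⟩ := exists_unit hk2 hk3
  exact h.exists_fix ht A hAG (coprime_Ug p hk2 hA) hp

theorem Tri.exists_fix_elt (h : Tri G α β) {t : (M →ₗ[k] M)ˣ}
    (hG : t ∈ Subgroup.normalizer (G : Set (M →ₗ[k] M)ˣ)) (ht : t ^ Nat.card kˣ = 1)
    (hp : Pres t α) : ∃ β', Tri G α β' ∧ Cm (t : M →ₗ[k] M) α β' := by
  obtain ⟨β', h1, h2⟩ := h.exists_fix' p hk2 hk3 (Subgroup.zpowers t) (Subgroup.zpowers_le.2 hG)
    (coprime_zpowers p ht) (cj_zpowers hp)
  exact ⟨β', h1, h2 t (Subgroup.mem_zpowers t)⟩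

theorem JM.cent (h : JM G) {t : (M →ₗ[k] M)ˣ}
    (hG : t ∈ Subgroup.normalizer (G : Set (M →ₗ[k] M)ˣ)) (ht : t ^ Nat.card kˣ = 1) :
    JM (G ⊓ Subgroup.centralizer {t}) := by
  intro α hα
  obtain ⟨h1, h2⟩ := Qe_cent.1 hα
  obtain ⟨β, hβ⟩ := h α h1
  obtain ⟨β', h3, h4⟩ := hβ.exists_fix_elt p hk2 hk3 hG ht (Pres.of_eq h2)
  have := h3.cj_r_of_cm h4 (c := 1) (by rw [h2, one_smul])
  rw [one_smul] at this
  exact ⟨β', hα, Qe_cent.2 ⟨h3.r, this⟩, h3.aba, h3.bab⟩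

end Fin

section FD

variable [FiniteDimensional k M] (hk2 : (2 : k) ≠ 0) (hk3 : Nat.card k ≠ 3)
include hk2 hk3

theorem aba_mem_lie {x : M →ₗ[k] M} (hα : α ∈ Qe G) (hx : x ∈ Qe G) : α * x * α ∈ lie G α := by
  have hm := aeval_mul_mem_lie hk2 hk3 hα hx X
  rwa [aeval_X, z_mul hα.1] at hm

/-- splitting off a root element -/
theorem exists_split {ξ : M →ₗ[k] M} (hξ : ξ ∈ Qe G) (hβ : β ∈ Qd G) (h : β * ξ * β ≠ 0) :
    ∃ γ δ, γ ∈ Qd G ∧ γ ∈ lie G ξ ∧ Tri G γ δ ∧ (ξ - γ) * δ = 0 ∧ δ * (ξ - γ) = 0 ∧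
      rk (ξ - γ) < rk ξ := by
  obtain ⟨s, hs⟩ := exists_inv_of_ne hk2 hk3 hβ hξ h
  have hm := aeval_mul_mem_lie hk2 hk3 hξ hβ.1 (s * X)
  have hzα : ξ * (ξ * β + β * ξ) = (ξ * β + β * ξ) * ξ := comm_z_left hξ.1
  have hzβ : β * (ξ * β + β * ξ) = (ξ * β + β * ξ) * β := by
    rw [add_comm]; exact comm_z_left hβ.1.1
  have e1 : (ξ * β + β * ξ) * ξ = ξ * β * ξ := z_mul hξ.1
  rw [add_comm] at hs
  rw [map_mul, aeval_X] at hm
  generalize ξ * β + β * ξ = z at *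
  have cα : ξ * aeval z s = aeval z s * ξ := comm_aeval hzα s
  have cβ : β * aeval z s = aeval z s * β := comm_aeval hzβ s
  have h1 : aeval z s * z * ξ * β = ξ * β := by
    rw [mul_assoc _ z, ← hzα, ← mul_assoc, ← cα, mul_assoc, mul_assoc, ← mul_assoc _ z, hs]
  have h2 : β * (aeval z s * z * ξ) = β * ξ := by
    rw [← mul_assoc, ← mul_assoc, cβ, mul_assoc _ β, hzβ, ← mul_assoc, hs]
  have hαβ : ξ * β ≠ 0 := fun e => h (by rw [mul_assoc, e, mul_zero])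
  have hq : aeval z s * z * ξ ∈ Qd G := by
    refine Qd.of_rk_le hβ hm.1 (fun e => hαβ (by rw [← h1, e, zero_mul])) ?_
    rw [mul_assoc, e1, ← mul_assoc, ← mul_assoc]
    exact (rk_mul_le_left _ _).trans (rk_mul_le_right _ _)
  have ho : Opp β (aeval z s * z * ξ) := (opp_iff hk2 hk3 hβ hq).2 (by rwa [h2])
  obtain ⟨δ, hδ, a1, a2⟩ := ho.symm.partner hk2 hk3 hq hβ (self_mem_lie hq.1) hq.2.1
  have b1 : (ξ - aeval z s * z * ξ) * β = 0 := by rw [sub_mul, h1, sub_self]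
  refine ⟨_, δ, hq, hm, ⟨hq.1, hδ.1, a1, a2⟩, mul_zero_of_range b1 (lie.range_le hδ),
    mul_zero_of_ker (by rw [mul_sub, h2, sub_self]) (lie.ker_le hδ), ?_⟩
  have hm0 : ξ - aeval z s * z * ξ ∈ lie G ξ := Submodule.sub_mem _ (self_mem_lie hξ) hm
  by_contra hle
  have := ker_eq_of_le_of_rk (lie.ker_le hm0) (not_lt.1 hle)
  exact hαβ (mul_zero_of_ker b1 this.ge)

variable (hO : HO G)
include hO

theorem comm_of_null' (hα : α ∈ Qe G) (h : ∀ β ∈ Qd G, β * α * β = 0) (hβ : β ∈ Qd G) :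
    α * β = β * α := by
  have Pcj : ∀ {x : M →ₗ[k] M} {g : (M →ₗ[k] M)ˣ}, g ∈ G → (∀ γ ∈ Qd G, γ * x * γ = 0) →
      ∀ γ ∈ Qd G, γ * cj g x * γ = 0 := by
    intro x g hg hx γ hγ
    have := hx _ (Qd.cj hγ (G.inv_mem hg))
    rw [← cj_eq_zero (g := g), cj_mul, cj_mul, cj_cj_inv] at this
    exact this
  have P0 : ∀ {x : M →ₗ[k] M}, x ∈ Qe G → rk x ≤ rk β → (∀ γ ∈ Qd G, γ * x * γ = 0) → x = 0 := by
    intro x hx hr hP
    by_contra h0
    have hq := Qd.of_rk_le hβ hx h0 hr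
    obtain ⟨γ, hγ, ho⟩ := hO _ hq
    exact ho.symm.ne_zero hγ.2.1 (hP γ hγ)
  have h1 := h β hβ
  have Pδ : ∀ γ ∈ Qd G, γ * (α * β - β * α) * γ = 0 := by
    intro γ hγ
    have a1 := Pcj (Qe.un_mem hβ.1) h γ hγ
    have a2 := h γ hγ
    simp only [cj, un_val, un_inv_val] at a1
    have : γ * (α * β - β * α) * γ = γ * α * γ - γ * ((1 + β) * α * (1 - β)) * γ
      - γ * (β * α * β) * γ := by noncomm_ring
    rw [this, a1, a2, h1]; simp
  have h2 : α * β * α = 0 := by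
    have hm := aba_mem_lie hk2 hk3 hα hβ.1
    refine P0 hm.1 ((rk_mul_le_left _ _).trans (rk_mul_le_right _ _)) fun γ hγ => ?_
    have a1 := Pcj (Qe.un_mem hα) Pδ γ hγ
    have a2 := Pδ γ hγ
    simp only [cj, un_val, un_inv_val] at a1
    have : (2 : k) • (γ * (α * β * α) * γ) = γ * (α * β - β * α) * γ -
        γ * ((1 + α) * (α * β - β * α) * (1 - α)) * γ + γ * (α * α) * β * (1 - α) * γ
        + γ * (1 + α) * β * (α * α) * γ := by
      rw [two_smul]; noncomm_ring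
    rw [a1, a2, hα.1] at this
    exact (smul_eq_zero.1 (by simpa using this)).resolve_left hk2
  refine sub_eq_zero.1 (P0 (comm_mem_Qe hα hβ.1 h2 h1) ?_ Pδ)
  have a2 : range (β * α) ≤ range β ⊓ ker α :=
    le_inf (range_mul_le _ _) (mul_eq_zero_iff.1 (by rw [← mul_assoc, h2]))
  have b2 := rk_mul_add α β
  have b5 := rk_sub_le (α * β) (β * α)
  have b6 := Submodule.finrank_sup_add_finrank_inf_eq (range (α * β)) (range (β * α))
  have b8 := Submodule.finrank_mono a2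
  unfold rk at *
  omega

theorem Qe_cent_of_null' (hα : α ∈ Qe G) (h : ∀ β ∈ Qd G, β * α * β = 0) :
    α ∈ Qe (G ⊓ Subgroup.centralizer (gen (quadraticRootSubgroups G) : Set (M →ₗ[k] M)ˣ)) := by
  refine ⟨hα.1, fun c => ⟨un _ (Qe.smul hα c).1, ⟨Qe.un_mem (Qe.smul hα c), ?_⟩, rfl⟩⟩
  have : gen (quadraticRootSubgroups G) ≤ Subgroup.centralizer {un _ (Qe.smul hα c).1} := by
    refine gen_le fun B hB g hg => ?_
    obtain ⟨β, hβ, rfl⟩ := mem_roots.1 hB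
    rw [Subgroup.mem_centralizer_singleton_iff, val_comm_iff, un_sub_one]
    by_cases h0 : (g : M →ₗ[k] M) - 1 = 0
    · simp [h0]
    · rw [mul_smul_comm, smul_mul_assoc, comm_of_null' hk2 hk3 hO hα h (lie.qd hβ hg h0)]
  intro g hg
  exact Subgroup.mem_centralizer_singleton_iff.1 (this hg)

theorem C2_mem_comp_left (h : C2 G α β) :
    rootGrp G (α * β - β * α) ∈ comp G (rootGrp G α) := by
  obtain ⟨δ', hδ', ho⟩ := hO _ (h.qd hk2 hk3)
  obtain ⟨g, hg, h1, h2⟩ := h.exists_mid hk2 hk3 hδ' ho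
  have := Qd.cj hδ' (rootGrp_le _ hg)
  exact comp_trans (h1.mem_comp hk2 hk3 h.left this) (h2.symm.mem_comp hk2 hk3 this (h.qd hk2 hk3))

theorem C2_mem_comp_right (h : C2 G α β) :
    rootGrp G (α * β - β * α) ∈ comp G (rootGrp G β) := by
  have := C2_mem_comp_left hk2 hk3 hO h.symm
  rwa [← neg_sub, rootGrp_congr (lie_congr (range_neg _) (ker_neg _))] at this

theorem mem_comp_of_ne_bot' {A B : Subgroup (M →ₗ[k] M)ˣ} (hA : A ∈ quadraticRootSubgroups G)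
    (hB : B ∈ quadraticRootSubgroups G) (h : ⁅A, B⁆ ≠ ⊥) : B ∈ comp G A := by
  obtain ⟨α, hα, rfl⟩ := mem_roots.1 hA
  obtain ⟨β, hβ, rfl⟩ := mem_roots.1 hB
  rcases trichotomy hk2 hk3 hα hβ with h' | h' | h'
  · exact h'.mem_comp hk2 hk3 hα hβ
  · exact absurd h' h
  · exact comp_trans (C2_mem_comp_left hk2 hk3 hO h')
      (comp_symm hB (C2_mem_comp_right hk2 hk3 hO h'))

theorem comp_commute' {A B : Subgroup (M →ₗ[k] M)ˣ} (hA : A ∈ quadraticRootSubgroups G)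
    (hB : B ∈ quadraticRootSubgroups G) (h : B ∉ comp G A) :
    ⁅gen (comp G A), gen (comp G B)⁆ = ⊥ := by
  refine gen_commutator_eq_bot fun C hC D hD => ?_
  by_contra hne
  have := mem_comp_of_ne_bot' hk2 hk3 hO hC.1 hD.1 hne
  exact h (comp_trans (comp_trans hC this) (comp_symm hB hD))

end FD

section Fin

variable (p : ℕ) [Fact p.Prime] [Finite k] [CharP k p] [Finite M]
  (hk2 : (2 : k) ≠ 0) (hk3 : Nat.card k ≠ 3)
include p hk2 hk3

theorem Tri.add {γ δ ξ δ' : M →ₗ[k] M} (h : Tri G γ δ) (h' : Tri G ξ δ') (a1 : ξ * γ = 0)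
    (a2 : γ * ξ = 0) (a3 : ξ * δ = 0) (a4 : δ * ξ = 0) : ∃ β, Tri G (γ + ξ) β := by
  obtain ⟨t, ht⟩ := exists_unit hk2 hk3
  have hc : Cm ξ γ δ := Cm.of_comm (by rw [a1, a2]) (by rw [a3, a4])
  obtain ⟨ε, h1, h2⟩ := h'.exists_fix_elt p hk2 hk3 (Subgroup.le_normalizer (h.tor_mem t))
    (h.tor_pow t) (Pres.of_eq (cj_of_comm (hc.tor h t).symm))
  have h3 := h1.cj_r_of_cm h2 (c := 1) (by rw [one_smul, cj_of_comm (hc.tor h t).symm])
  rw [one_smul] at h3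
  have h4 := h.cm_of_tor ht (cj_eq_iff.1 h3).symm
  have key : ∀ {γ δ : M →ₗ[k] M}, Tri G γ δ → Cm ε γ δ → ξ * γ = 0 → γ * ξ = 0 →
      ε * γ = 0 ∧ γ * ε = 0 := by
    intro γ δ h h4 a1 a2
    constructor
    · calc ε * γ = ε * ξ * (ε * (γ * δ)) * γ := by
            rw [← mul_assoc, h1.bab, mul_assoc, h.aba]
        _ = 0 := by rw [h4.1, mul_assoc ε ξ, ← mul_assoc ξ, ← mul_assoc ξ, a1]; simp
    · calc γ * ε = γ * (δ * γ * ε) * ξ * ε := by
            rw [← mul_assoc, h.aba', mul_assoc γ, mul_assoc γ, h1.bab]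
        _ = 0 := by
            rw [← h4.2, mul_assoc γ, mul_assoc ε, mul_assoc δ, a2]; simp
  obtain ⟨b1, b2⟩ := key h h4 a1 a2
  obtain ⟨b3, b4⟩ := key h.symm h4.symm a3 a4
  refine ⟨δ + ε, Qe.add h.l h'.l a2 a1, Qe.add h.r h1.r b4 b3, ?_, ?_⟩
  · simp only [add_mul, mul_add, a3, b2, add_zero, zero_add, h.aba, h1.aba, mul_assoc γ δ ξ, a4,
      mul_assoc ξ ε γ, b1, mul_zero]
  · simp only [add_mul, mul_add, a4, b1, add_zero, zero_add, h.bab, h1.bab, mul_assoc δ γ ε, b2,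
      mul_assoc ε ξ δ, a3, mul_zero]

theorem jm_of_NU_aux (n : ℕ) : ∀ G : Subgroup (M →ₗ[k] M)ˣ, Nat.card G = n → NU k G → JM G := by
  have := finite_units (k := k) (M := M)
  induction n using Nat.strong_induction_on with
  | _ n ih =>
  intro G hn hN ξ hξ
  have hO : HO G := fun α hα => exists_opp hk2 hk3 hN hα
  induction hr : rk ξ using Nat.strong_induction_on generalizing ξ with
  | _ m ihm =>
  by_cases h0 : ξ = 0
  · subst h0
    exact ⟨0, hξ, hξ, by simp, by simp⟩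
  by_cases h : ∀ β ∈ Qd G, β * ξ * β = 0
  · have h1 := Qe_cent_of_null' hk2 hk3 hO hξ h
    set D := G ⊓ Subgroup.centralizer (gen (quadraticRootSubgroups G) : Set (M →ₗ[k] M)ˣ)
    have hD : D < G := by
      refine lt_of_le_of_ne inf_le_left fun e => ?_
      have e' : G ≤ D := e.ge
      obtain ⟨α, hα⟩ := exists_Qd hξ h0
      obtain ⟨β, hβ, ho⟩ := hO α hα
      have h2 : un α hα.1.1 ∈ D := e' (Qe.un_mem hα.1)
      have h3 := val_comm_iff.1 (h2.2 _ (le_gen (rootGrp_mem_roots hβ)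
        (un_mem_rootGrp (self_mem_lie hβ.1) hβ.1.1)))
      rw [un_sub_one, un_sub_one] at h3
      exact ho.ne_zero hα.2.1 (by rw [← h3, mul_assoc, hα.1.1, mul_zero])
    have hND : NU k D := hN.of_normal inf_le_left fun g hg x hx =>
      ⟨G.mul_mem (G.mul_mem hg hx.1) (G.inv_mem hg), fun y hy => by
        have := hx.2 _ (gen_roots_normal (G.inv_mem hg) hy)
        calc y * (g * x * g⁻¹) = g * (g⁻¹ * y * g⁻¹⁻¹ * x) * g⁻¹ := by group
          _ = _ := by rw [this]; group⟩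
    obtain ⟨β, hβ⟩ := ih _ (hn ▸ CL.card_lt_of_lt hD) D rfl hND ξ h1
    exact ⟨β, hβ.mono inf_le_left⟩
  push Not at h
  obtain ⟨β, hβ, h⟩ := h
  obtain ⟨γ, δ, -, a2, a3, a4, a5, a6⟩ := exists_split hk2 hk3 hξ hβ h
  have hm : ξ - γ ∈ lie G ξ := Submodule.sub_mem _ (self_mem_lie hξ) a2
  obtain ⟨δ', h'⟩ := ihm _ (hr ▸ a6) _ hm.1 rfl
  have := a3.add p hk2 hk3 h' (lie.mul_zero hm a2) (lie.mul_zero a2 hm) a4 a5
  rwa [add_sub_cancel] at this

theorem jm_of_NU (hN : NU k G) : JM G := jm_of_NU_aux p hk2 hk3 _ G rfl hN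

end Fin

end CL.QFix
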