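import Mathlib

/-! Quadratic elements and coprime automorphisms, part C: the norm map for commuting conjugates,
two counting lemmas, and anticommuting elements of a finite special Jordan division algebra. -/

set_option autoImplicit false

namespace CL.QFix

open Subgroup

theorem noncommProd_reindex {ι Γ : Type*} [Fintype ι] [Monoid Γ] (e : ι ≃ ι) (f : ι → Γ) (comm)
    (comm') : Finset.univ.noncommProd (fun i => f (e i)) comm' = Finset.univ.noncommProd f comm := by
  unfold Finset.noncommProd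
  congr 1
  conv_rhs => rw [← Finset.map_univ_equiv e]
  rw [Finset.map_val, Multiset.map_map]
  rfl

/-- the norm map of a subgroup whose distinct conjugates commute -/
theorem exists_norm {Γ : Type*} [Group Γ] (R R₁ K : Subgroup Γ) [Finite R]
    (h : ∀ ρ ∈ R, ρ ∉ R₁ → ∀ x ∈ K, ∀ y ∈ K, Commute (ρ * x * ρ⁻¹) y) :
    ∃ φ : ↥(K ⊓ centralizer (R₁ : Set Γ)) →* Γ, (∀ c, φ c ∈ centralizer (R : Set Γ)) ∧
      (∀ c : ↥(K ⊓ centralizer (R₁ : Set Γ)), (c : Γ)⁻¹ * φ c ∈ centralizer (K : Set Γ)) ∧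
      ∀ H : Subgroup Γ, (∀ ρ ∈ R, ∀ x ∈ K, ρ * x * ρ⁻¹ ∈ H) → ∀ c, φ c ∈ H := by
  classical
  let Q := R ⧸ R₁.subgroupOf R
  have : Fintype Q := Fintype.ofFinite Q
  let C := K ⊓ centralizer (R₁ : Set Γ)
  let ϕ : Q → C →* Γ := fun q => (MulAut.conj (q.out : Γ)).toMonoidHom.comp C.subtype
  have hϕ : ∀ (ρ : R) (c : C), ϕ (QuotientGroup.mk ρ) c = ρ * c * (ρ : Γ)⁻¹ := by
    intro ρ c
    obtain ⟨s, hs⟩ := QuotientGroup.mk_out_eq_mul (R₁.subgroupOf R) ρ
    have h1 : (((s : R) : Γ)) * c = c * ((s : R) : Γ) := c.2.2 _ s.2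
    show (((QuotientGroup.mk ρ : Q).out : R) : Γ) * c * (((QuotientGroup.mk ρ : Q).out : R) : Γ)⁻¹ = _
    rw [hs, Subgroup.coe_mul, mul_assoc (ρ : Γ), h1]
    group
  have hcomm : Pairwise fun i j : Q => ∀ x y, Commute (ϕ i x) (ϕ j y) := by
    intro i j hij x y
    obtain ⟨a, rfl⟩ := QuotientGroup.mk_surjective i
    obtain ⟨b, rfl⟩ := QuotientGroup.mk_surjective j
    rw [hϕ, hϕ]
    have h1 : ((b⁻¹ * a : R) : Γ) ∉ R₁ := fun e =>
      hij (QuotientGroup.eq.2 (show b⁻¹ * a ∈ R₁.subgroupOf R from e)).symm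
    have h2 := (h _ (b⁻¹ * a).2 h1 x x.2.1 y y.2.1).map (MulAut.conj (b : Γ))
    simpa [mul_assoc] using h2
  let φ : C →* Γ := (MonoidHom.noncommPiCoprod ϕ hcomm).comp (Pi.constMonoidHom Q C)
  have hc2 : ∀ c : C, ((Finset.univ : Finset Q) : Set Q).Pairwise
      (Function.onFun Commute fun q => ϕ q c) := fun c _ _ _ _ h => hcomm h _ _
  have hφ : ∀ c, φ c = Finset.univ.noncommProd (fun q => ϕ q c) (hc2 c) :=
    fun c => rfl
  refine ⟨φ, fun c ρ hρ => ?_, fun c => ?_, fun H hH c => ?_⟩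
  · have e : ∀ q : Q, MulAut.conj ρ (ϕ q c) = ϕ ((⟨ρ, hρ⟩ : R) • q) c := by
      intro q
      obtain ⟨a, rfl⟩ := QuotientGroup.mk_surjective q
      rw [MulAction.Quotient.smul_mk, hϕ, hϕ]
      simp [mul_assoc]
    have h1 : MulAut.conj ρ (φ c) = φ c := by
      rw [hφ]
      refine (Finset.map_noncommProd _ _ _ (MulAut.conj ρ)).trans ?_
      simp only [e]
      exact noncommProd_reindex (MulAction.toPerm (⟨ρ, hρ⟩ : R)) (fun q => ϕ q c) _ _
    rw [MulAut.conj_apply, mul_inv_eq_iff_eq_mul] at h1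
    exact h1
  · rw [hφ, ← Finset.mul_noncommProd_erase _ (Finset.mem_univ (QuotientGroup.mk 1 : Q)), hϕ]
    simp only [OneMemClass.coe_one, one_mul, inv_one, mul_one, inv_mul_cancel_left]
    refine Subgroup.noncommProd_mem _ _ fun q hq y hy => ?_
    obtain ⟨a, rfl⟩ := QuotientGroup.mk_surjective q
    rw [hϕ]
    refine (h _ a.2 (fun e => (Finset.mem_erase.1 hq).1 ?_) _ c.2.1 y hy).symm
    exact (QuotientGroup.eq.2 (by simpa [Subgroup.mem_subgroupOf] using e)).symm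
  · rw [hφ]
    refine Subgroup.noncommProd_mem _ _ fun q _ => ?_
    obtain ⟨a, rfl⟩ := QuotientGroup.mk_surjective q
    rw [hϕ]
    exact hH _ a.2 _ c.2.1

theorem card_le_two_mul {X Y : Type*} [Fintype X] [DecidableEq Y] (f : X → Y) (σ : X → X)
    (hf : ∀ x x', f x = f x' → x' = x ∨ x' = σ x) :
    Fintype.card X ≤ 2 * (Finset.univ.image f).card := by
  classical
  refine Finset.card_le_mul_card_image _ 2 fun a ha => ?_
  obtain ⟨x, -, rfl⟩ := Finset.mem_image.1 ha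
  refine le_trans (Finset.card_le_card (t := {x, σ x}) fun y hy => ?_) Finset.card_le_two
  simpa using hf x y (Finset.mem_filter.1 hy).2.symm

theorem exists_eq_of_fibers {X : Type*} [Finite X] (hodd : Odd (Nat.card X)) (f g σ : X → X)
    (hf : ∀ x x', f x = f x' → x' = x ∨ x' = σ x) (hg : ∀ x x', g x = g x' → x' = x ∨ x' = σ x) :
    ∃ x y, f x = g y := by
  classical
  have := Fintype.ofFinite X
  by_contra hcon
  push Not at hcon
  have h1 := card_le_two_mul f σ hf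
  have h2 := card_le_two_mul g σ hg
  have h3 : Disjoint (Finset.univ.image f) (Finset.univ.image g) := by
    rw [Finset.disjoint_left]
    intro a ha hb
    obtain ⟨x, -, rfl⟩ := Finset.mem_image.1 ha
    obtain ⟨y, -, e⟩ := Finset.mem_image.1 hb
    exact hcon x y e.symm
  have h4 := Finset.card_le_univ (Finset.univ.image f ∪ Finset.univ.image g)
  rw [Finset.card_union_of_disjoint h3] at h4
  rw [Nat.card_eq_fintype_card] at hodd
  obtain ⟨n, hn⟩ := hodd
  omega

theorem two_classes {X : Type*} [Finite X] {r : X → X → Prop} (hr : Equivalence r)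
    (f : X → X → X) (σ : X → X) (h1 : ∀ c a, r c (f c a))
    (hf : ∀ c x x', f c x = f c x' → x' = x ∨ x' = σ x) (a b c : X) : r a b ∨ r b c ∨ r a c := by
  classical
  have := Fintype.ofFinite X
  by_contra hcon
  push Not at hcon
  have key : ∀ {a b : X}, ¬ r a b → Disjoint (Finset.univ.image (f a)) (Finset.univ.image (f b)) := by
    intro a b hab
    rw [Finset.disjoint_left]
    intro z ha hb
    obtain ⟨x, -, rfl⟩ := Finset.mem_image.1 ha
    obtain ⟨y, -, e⟩ := Finset.mem_image.1 hb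
    exact hab (hr.trans (h1 a x) (hr.symm (e ▸ h1 b y)))
  have h2 := card_le_two_mul (f a) σ (hf a)
  have h3 := card_le_two_mul (f b) σ (hf b)
  have h4 := card_le_two_mul (f c) σ (hf c)
  have h5 := Finset.card_le_univ (Finset.univ.image (f a) ∪ Finset.univ.image (f b) ∪
    Finset.univ.image (f c))
  rw [Finset.card_union_of_disjoint (Finset.disjoint_union_left.2 ⟨key hcon.2.2, key hcon.2.1⟩),
    Finset.card_union_of_disjoint (key hcon.1)] at h5
  have h6 : 0 < Fintype.card X := Fintype.card_pos_iff.2 ⟨a⟩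
  omega

/-- a finite special Jordan division algebra has no anticommuting non-zero elements -/
theorem jordan_anticomm {k A : Type*} [Field k] [Finite k] [Ring A] [Algebra k A]
    (hk2 : (2 : k) ≠ 0) (hodd : Odd (Nat.card k)) (J : Submodule k A) [Finite J] {e : A}
    (he : e ∈ J) (hl : ∀ x ∈ J, e * x = x) (hr : ∀ x ∈ J, x * e = x) (hsq : ∀ x ∈ J, x * x ∈ J)
    (hd : ∀ x ∈ J, ∀ y ∈ J, x * y = 0 → x = 0 ∨ y = 0) {u v : A} (hu : u ∈ J) (hv : v ∈ J)
    (h : u * v + v * u = 0) : u = 0 ∨ v = 0 := by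
  by_contra hcon
  push Not at hcon
  obtain ⟨hu0, hv0⟩ := hcon
  have two : ∀ x : A, x + x = 0 → x = 0 := fun x hx =>
    (smul_eq_zero.1 (by rw [two_smul, hx] : (2 : k) • x = 0)).resolve_left hk2
  have jmul : ∀ x ∈ J, ∀ y ∈ J, Commute x y → x * y ∈ J := by
    intro x hx y hy hc
    have h1 := J.sub_mem (J.sub_mem (hsq _ (J.add_mem hx hy)) (hsq _ hx)) (hsq _ hy)
    have h2 : (x + y) * (x + y) - x * x - y * y = (2 : k) • (x * y) := by
      rw [two_smul, add_mul, mul_add, mul_add, ← hc.eq]; abel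
    rwa [h2, J.smul_mem_iff hk2] at h1
  let K : Submodule k A :=
    { carrier := {x | x ∈ J ∧ Commute x u ∧ Commute x v ∧
        ∀ y ∈ J, Commute y u → Commute y v → Commute x y}
      zero_mem' := ⟨J.zero_mem, Commute.zero_left _, Commute.zero_left _,
        fun _ _ _ _ => Commute.zero_left _⟩
      add_mem' := fun ha hb => ⟨J.add_mem ha.1 hb.1, ha.2.1.add_left hb.2.1,
        ha.2.2.1.add_left hb.2.2.1, fun y h1 h2 h3 => (ha.2.2.2 y h1 h2 h3).add_left
          (hb.2.2.2 y h1 h2 h3)⟩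
      smul_mem' := fun c _ ha => ⟨J.smul_mem c ha.1, ha.2.1.smul_left c, ha.2.2.1.smul_left c,
        fun y h1 h2 h3 => (ha.2.2.2 y h1 h2 h3).smul_left c⟩ }
  have Kc : ∀ x ∈ K, ∀ y ∈ K, Commute x y := fun x hx y hy => hx.2.2.2 y hy.1 hy.2.1 hy.2.2.1
  have Kmul : ∀ x ∈ K, ∀ y ∈ K, x * y ∈ K := fun x hx y hy =>
    ⟨jmul x hx.1 y hy.1 (Kc x hx y hy), hx.2.1.mul_left hy.2.1, hx.2.2.1.mul_left hy.2.2.1,
      fun z h1 h2 h3 => (hx.2.2.2 z h1 h2 h3).mul_left (hy.2.2.2 z h1 h2 h3)⟩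
  have huv : u * v = -(v * u) := eq_neg_of_add_eq_zero_left h
  have hvu : v * u = -(u * v) := eq_neg_of_add_eq_zero_right h
  have Ke : e ∈ K := ⟨he, (hl u hu).trans (hr u hu).symm, (hl v hv).trans (hr v hv).symm,
    fun y hy _ _ => (hl y hy).trans (hr y hy).symm⟩
  have Ku : u * u ∈ K := ⟨hsq u hu, (Commute.refl u).mul_left (Commute.refl u),
    show u * u * v = v * (u * u) by
      rw [mul_assoc, huv, mul_neg, ← mul_assoc, huv, neg_mul, neg_neg, mul_assoc],
    fun y _ h2 _ => h2.symm.mul_left h2.symm⟩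
  have Kv : v * v ∈ K := ⟨hsq v hv, show v * v * u = u * (v * v) by
      rw [mul_assoc, hvu, mul_neg, ← mul_assoc, hvu, neg_mul, neg_neg, mul_assoc],
    (Commute.refl v).mul_left (Commute.refl v), fun y _ _ h3 => h3.symm.mul_left h3.symm⟩
  have : Finite K := Finite.of_injective (fun x : K => (⟨x.1, x.2.1⟩ : J))
    fun x y hxy => Subtype.ext (congrArg Subtype.val hxy :)
  have hoddK : Odd (Nat.card K) := by
    have : Module.Finite k K := Module.Finite.of_finite
    rw [Module.natCard_eq_pow_finrank (K := k)]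
    exact hodd.pow
  have fib : ∀ w ∈ J, w ≠ 0 → w * w ∈ K → ∀ x x' : K, x.1 * x.1 * (w * w) = x'.1 * x'.1 * (w * w) →
      x' = x ∨ x' = -x := by
    intro w hw hw0 hK x x' hx
    have h1 : (x'.1 - x.1) * (x'.1 + x.1) * (w * w) = 0 := by
      have h0 : (x'.1 - x.1) * (x'.1 + x.1) = x'.1 * x'.1 - x.1 * x.1 := by
        rw [sub_mul, mul_add, mul_add, (Kc _ x'.2 _ x.2).eq]; abel
      rw [h0, sub_mul, hx, sub_self]
    have h2 := Kmul _ (K.sub_mem x'.2 x.2) _ (K.add_mem x'.2 x.2)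
    rcases hd _ h2.1 _ hK.1 h1 with h3 | h3
    · rcases hd _ (K.sub_mem x'.2 x.2).1 _ (K.add_mem x'.2 x.2).1 h3 with h4 | h4
      · exact Or.inl (Subtype.ext (sub_eq_zero.1 h4))
      · exact Or.inr (Subtype.ext (eq_neg_of_add_eq_zero_left h4))
    · exact absurd ((hd _ hw _ hw h3).elim id id) hw0
  obtain ⟨x, y, hxy⟩ := exists_eq_of_fibers hoddK
    (fun x : K => ⟨x.1 * x.1 * (u * u), Kmul _ (Kmul _ x.2 _ x.2) _ Ku⟩)
    (fun x : K => ⟨e - x.1 * x.1 * (v * v), K.sub_mem Ke (Kmul _ (Kmul _ x.2 _ x.2) _ Kv)⟩)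
    (fun x => -x) (fun x x' hx => fib u hu hu0 Ku x x' (congrArg Subtype.val hx))
    (fun x x' hx => fib v hv hv0 Kv x x' (sub_right_inj.1 (congrArg Subtype.val hx)))
  have e1 : x.1 * x.1 * (u * u) = e - y.1 * y.1 * (v * v) := congrArg Subtype.val hxy
  obtain ⟨x, hx⟩ := x
  obtain ⟨y, hy⟩ := y
  simp only at e1
  have xu := hx.2.1.eq
  have xv := hx.2.2.1.eq
  have yu := hy.2.1.eq
  have yv := hy.2.2.1.eq
  have xy := (Kc x hx y hy).eq
  have g1 : x * u + y * v ∈ J := J.add_mem (jmul _ hx.1 _ hu hx.2.1) (jmul _ hy.1 _ hv hy.2.2.1)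
  have g2 : (x * u + y * v) * (x * u + y * v) = e := by
    have a1 : x * u * (x * u) = x * x * (u * u) := by
      rw [mul_assoc, ← mul_assoc u, ← xu]; simp only [mul_assoc]
    have a2 : y * v * (y * v) = y * y * (v * v) := by
      rw [mul_assoc, ← mul_assoc v, ← yv]; simp only [mul_assoc]
    have a3 : x * u * (y * v) = x * y * (u * v) := by
      rw [mul_assoc, ← mul_assoc u, ← yu]; simp only [mul_assoc]
    have a4 : y * v * (x * u) = x * y * (v * u) := by
      rw [mul_assoc, ← mul_assoc v, ← xv, xy]; simp only [mul_assoc]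
    rw [add_mul, mul_add, mul_add, a1, a2, a3, a4, e1, hvu, mul_neg]; abel
  have g3 : (x * u + y * v - e) * (x * u + y * v + e) = 0 := by
    rw [sub_mul, mul_add _ _ e, mul_add _ _ e, g2, hr _ g1, hl _ g1, hl _ he]; abel
  have g4 : Commute (x * u + y * v) u ∧ Commute (x * u + y * v) v := by
    rcases hd _ (J.sub_mem g1 he) _ (J.add_mem g1 he) g3 with h1 | h1
    · rw [sub_eq_zero.1 h1]; exact ⟨Ke.2.1, Ke.2.2.1⟩
    · rw [eq_neg_of_add_eq_zero_left h1]; exact ⟨Ke.2.1.neg_left, Ke.2.2.1.neg_left⟩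
  have g5 : y * v * u = 0 := two _ (by
    have := g4.1.eq
    rw [add_mul, mul_add, ← mul_assoc u, ← xu, add_right_inj, ← mul_assoc u, ← yu, mul_assoc y u,
      huv, mul_neg, ← mul_assoc] at this
    nth_rewrite 2 [this]
    exact add_neg_cancel _)
  have g6 : x * u * v = 0 := two _ (by
    have := g4.2.eq
    rw [add_mul, mul_add, ← mul_assoc v y, ← yv, add_left_inj, ← mul_assoc v, ← xv, mul_assoc x v,
      hvu, mul_neg, ← mul_assoc] at this
    nth_rewrite 2 [this]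
    exact add_neg_cancel _)
  have g7 : y * v = 0 := (hd _ (jmul _ hy.1 _ hv hy.2.2.1) _ hu g5).resolve_right hu0
  have g8 : x * u = 0 := (hd _ (jmul _ hx.1 _ hu hx.2.1) _ hv g6).resolve_right hv0
  rw [g7, g8, add_zero, mul_zero] at g2
  exact hu0 (by rw [← hl u hu, ← g2, zero_mul])

end CL.QFix
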