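import Mathlib
import Cfsg.Agent.SIG.QFixB
import Cfsg.Agent.SIG.QFixC

/-! Quadratic elements and coprime automorphisms, part D: a coprime group of automorphisms fixes
an `sl₂`-triple. -/

set_option autoImplicit false

namespace CL.QFix

open CL.Quad Cfsg LinearMap Module Polynomial
open scoped MatrixGroups commutatorElement

variable {k : Type*} [Field k] {M : Type*} [AddCommGroup M] [Module k M]
variable {G : Subgroup (M →ₗ[k] M)ˣ} {α β : M →ₗ[k] M}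

section Norm

variable {g : (M →ₗ[k] M)ˣ} (hg : g ∈ Subgroup.normalizer (G : Set (M →ₗ[k] M)ˣ))
include hg

theorem Qe_cj (h : α ∈ Qe G) : cj g α ∈ Qe G := by
  refine ⟨by rw [← cj_mul, h.1, cj_zero], fun c => ?_⟩
  obtain ⟨x, hx, e⟩ := h.2 c
  exact ⟨g * x * g⁻¹, (Subgroup.mem_normalizer_iff.1 hg x).1 hx, by
    rw [cj_val, e, cj_add, cj_one, cj_smul]⟩

theorem Qd_cj (h : α ∈ Qd G) : cj g α ∈ Qd G :=
  ⟨Qe_cj hg h.1, fun e => h.2.1 (cj_eq_zero.1 e), fun β hβ h0 => by rw [rk_cj]; exact h.2.2 β hβ h0⟩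

theorem lie_cj (h : β ∈ lie G α) : cj g β ∈ lie G (cj g α) := by
  refine ⟨Qe_cj hg h.1, ?_, ?_⟩
  · rw [range_cj, range_cj, ker_cj]
    exact le_inf (Submodule.map_mono (lie.range_le h))
      (Submodule.map_mono (h.2.1.trans inf_le_right))
  · rw [ker_cj, ker_cj]; exact Submodule.map_mono h.2.2

theorem lie_cj_pres (hp : Pres g α) (h : β ∈ lie G α) : cj g β ∈ lie G α := by
  have := lie_cj hg h
  rwa [lie_congr hp.1 hp.2] at this

theorem conjBy_rootGrp' : conjBy (rootGrp G α) g = rootGrp G (cj g α) := by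
  ext x
  rw [CL.RankOne.mem_conjBy, mem_rootGrp, mem_rootGrp]
  have e : ((g⁻¹ * x * g : (M →ₗ[k] M)ˣ) : M →ₗ[k] M) - 1 = cj g⁻¹ ((x : M →ₗ[k] M) - 1) := by
    rw [← cj_val_sub_one, inv_inv]
  rw [e]
  refine ⟨fun h => ?_, fun h => ?_⟩
  · have := lie_cj hg h
    rwa [cj_cj_inv] at this
  · have := lie_cj (inv_mem hg) h
    rwa [cj_inv_cj] at this

theorem roots_conj' {E : Subgroup (M →ₗ[k] M)ˣ} [FiniteDimensional k M]
    (hE : E ∈ quadraticRootSubgroups G) : conjBy E g ∈ quadraticRootSubgroups G := by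
  obtain ⟨α, hα, rfl⟩ := mem_roots.1 hE
  rw [conjBy_rootGrp' hg]
  exact rootGrp_mem_roots (Qd_cj hg hα)

theorem Tri.cj' (h : Tri G α β) : Tri G (Quad.cj g α) (Quad.cj g β) :=
  ⟨Qe_cj hg h.l, Qe_cj hg h.r, by rw [← cj_mul, ← cj_mul, h.aba],
    by rw [← cj_mul, ← cj_mul, h.bab]⟩

theorem comp_conj' [FiniteDimensional k M] {A B : Subgroup (M →ₗ[k] M)ˣ} (h : B ∈ comp G A) :
    conjBy B g ∈ comp G (conjBy A g) := by
  refine ⟨roots_conj' hg h.1, ?_⟩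
  obtain ⟨-, h⟩ := h
  induction h with
  | refl => exact Relation.ReflTransGen.refl
  | tail _ h2 ih =>
    exact ih.tail ⟨roots_conj' hg h2.1, roots_conj' hg h2.2.1, CL.RankOne.conjBy_pair h2.2.2 g⟩

theorem conj_mem_gen_comp [FiniteDimensional k M] {A : Subgroup (M →ₗ[k] M)ˣ}
    {x : (M →ₗ[k] M)ˣ} (hx : x ∈ gen (comp G A)) : g * x * g⁻¹ ∈ gen (comp G (conjBy A g)) := by
  have : gen (comp G A) ≤ (gen (comp G (conjBy A g))).comap (MulAut.conj g).toMonoidHom :=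
    gen_le fun C hC c hc => le_gen (comp_conj' hg hC) (CL.RankOne.conj_mem_conjBy hc g)
  exact this hx

end Norm

theorem Tri.range_eq (h : Tri G α β) : range (α * β) = range α :=
  le_antisymm (range_mul_le _ _) (by nth_rewrite 1 [← h.aba]; exact range_mul_le _ _)

theorem Tri.ker_eq (h : Tri G α β) : ker (β * α) = ker α :=
  le_antisymm (by nth_rewrite 2 [← h.aba']; exact ker_le_ker_mul _ _) (ker_le_ker_mul _ _)

theorem Tri.pres_of_cm (h : Tri G α β) {g : (M →ₗ[k] M)ˣ} (hg : Cm (g : M →ₗ[k] M) α β) :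
    Pres g α := by
  have h' : Tri ⊤ (Quad.cj g α) (Quad.cj g β) := (h.mono le_top).cj (Subgroup.mem_top g)
  unfold Pres
  rw [← h'.range_eq, ← h'.ker_eq, ← cj_mul, ← cj_mul, cj_of_comm hg.1, cj_of_comm hg.2, h.range_eq,
    h.ker_eq]
  exact ⟨rfl, rfl⟩

theorem Tri.grading_eq {H : Subgroup (M →ₗ[k] M)ˣ} {a b : M →ₗ[k] M} (h : Tri G α β)
    (h' : Tri H a b) (h1 : range α ≤ range a) (h2 : ker β ≤ ker b) : a * b = α * β := by
  rw [← mul_eq_of_range h'.aba h1, mul_assoc, mul_assoc, mul_eq_of_ker h.bab' h2]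

/-- the Weyl matrix -/
def wm : SL(2, k) := ⟨!![0, 1; -1, 0], by simp [Matrix.det_fin_two]⟩

/-- the Weyl element of a triple -/
noncomputable def Tri.wy (h : Tri G α β) : (M →ₗ[k] M)ˣ := h.sl.hom wm

theorem Tri.wy_mem (h : Tri G α β) : h.wy ∈ G := h.hom_mem _

theorem Tri.wy_val (h : Tri G α β) : (h.wy : M →ₗ[k] M) = 1 - α * β - β * α + α - β := by
  rw [Tri.wy, h.hom_val]
  simp [wm, sub_eq_add_neg]

theorem Tri.wy_e (h : Tri G α β) : h.wy * (α * β) = -β := by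
  rw [h.wy_val]
  simp only [add_mul, sub_mul, one_mul, mul_assoc, h.aa, h.abaw, h.bab', mul_zero]
  abel

theorem Tri.wy_f (h : Tri G α β) : h.wy * (β * α) = α := by
  rw [h.wy_val]
  simp only [add_mul, sub_mul, one_mul, mul_assoc, h.bb, h.babw, h.aba', mul_zero]
  abel

theorem Tri.e_wy (h : Tri G α β) : α * β * h.wy = α := by
  rw [h.wy_val]
  simp only [mul_add, mul_sub, mul_one, mul_assoc, h.bb, h.bab', h.aba', h.r.1, mul_zero]
  abel

theorem Tri.f_wy (h : Tri G α β) : β * α * h.wy = -β := by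
  rw [h.wy_val]
  simp only [mul_add, mul_sub, mul_one, mul_assoc, h.aa, h.bab', h.aba', h.l.1, mul_zero]
  abel

theorem cj_eq_iff' {g : (M →ₗ[k] M)ˣ} {x y : M →ₗ[k] M} : cj g x = y ↔ g * x = y * g := by
  rw [cj, Units.mul_inv_eq_iff_eq_mul]

theorem Tri.cj_wy_l (h : Tri G α β) {x : M →ₗ[k] M} (h1 : α * β * x = x) (h2 : x * (β * α) = x) :
    Quad.cj h.wy x = -(β * x * β) := by
  have e : β * (h.wy : M →ₗ[k] M) = β * α := by
    nth_rewrite 1 [← h.bab']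
    rw [mul_assoc, h.e_wy]
  rw [cj_eq_iff', neg_mul, mul_assoc, e, mul_assoc, h2]
  nth_rewrite 1 [← h1]
  rw [← mul_assoc, h.wy_e, neg_mul]

theorem Tri.cj_wy_r (h : Tri G α β) {y : M →ₗ[k] M} (h1 : β * α * y = y) (h2 : y * (α * β) = y) :
    Quad.cj h.wy y = -(α * y * α) := by
  have e : α * (h.wy : M →ₗ[k] M) = -(α * β) := by
    nth_rewrite 1 [← h.aba']
    rw [mul_assoc, h.f_wy, mul_neg]
  rw [cj_eq_iff', neg_mul, mul_assoc, e, mul_neg, neg_neg, mul_assoc, h2]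
  nth_rewrite 1 [← h1]
  rw [← mul_assoc, h.wy_f]

theorem Tri.lie_l (h : Tri G α β) {H : Subgroup (M →ₗ[k] M)ˣ} {x : M →ₗ[k] M} (hx : x ∈ lie H α) :
    α * β * x = x := mul_eq_of_range h.aba (lie.range_le hx)

theorem Tri.lie_r (h : Tri G α β) {H : Subgroup (M →ₗ[k] M)ˣ} {x : M →ₗ[k] M} (hx : x ∈ lie H α) :
    x * (β * α) = x := mul_eq_of_ker h.aba' (lie.ker_le hx)

section FD

variable [FiniteDimensional k M] (hk2 : (2 : k) ≠ 0) (hk3 : Nat.card k ≠ 3)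
include hk2 hk3

theorem Tri.partner (h : Tri G α β) (hα : α ∈ Qd G) {a : M →ₗ[k] M} (ha : a ∈ lie G α)
    (h0 : a ≠ 0) : ∃ b ∈ lie G β, Tri G a b ∧ a * b = α * β ∧ b * a = β * α := by
  obtain ⟨b, hb, h1, h2⟩ := h.opp.partner hk2 hk3 hα (h.qd hα) ha h0
  have h' : Tri G a b := ⟨ha.1, hb.1, h1, h2⟩
  exact ⟨b, hb, h', h.grading_eq h' (lie.range_eq hα ha h0).ge (lie.ker_le hb),
    h.symm.grading_eq h'.symm (lie.range_eq (h.qd hα) hb (h'.ne_zero h0)).ge (lie.ker_le ha)⟩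

end FD

theorem odd_card [Finite k] (hk2 : (2 : k) ≠ 0) : Odd (Nat.card k) := by
  have := Fintype.ofFinite k
  rw [Nat.card_eq_fintype_card, Nat.odd_iff]
  refine FiniteField.odd_card_of_char_ne_two fun h => hk2 ?_
  have := ringChar.Nat.cast_ringChar (R := k)
  rw [h] at this
  exact_mod_cast this

theorem Tri.even_card (h : Tri G α β) (h0 : α ≠ 0) (hk2 : (2 : k) ≠ 0) : 2 ∣ Nat.card G := by
  have h1 : h.tor (-1) ≠ 1 := fun e => by
    have := h.tor_mul_a (-1)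
    rw [e, Units.val_one, one_mul, Units.val_neg, Units.val_one, neg_smul, one_smul] at this
    have h2 : (2 : k) • α = 0 := by rw [two_smul]; nth_rewrite 2 [this]; exact add_neg_cancel _
    exact h0 ((smul_eq_zero.1 h2).resolve_left hk2)
  have h2 : orderOf (⟨h.tor (-1), h.tor_mem _⟩ : G) = 2 :=
    orderOf_eq_prime (Subtype.ext (by simp [← map_pow])) fun e => h1 (congrArg Subtype.val e)
  exact h2 ▸ orderOf_dvd_natCard _

section Fin

variable [Finite k] [Finite M] (hk2 : (2 : k) ≠ 0) (hk3 : Nat.card k ≠ 3)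
include hk2 hk3

theorem Tri.sq_inj (h : Tri G α β) (hα : α ∈ Qd G) {x y : M →ₗ[k] M} (hx : x ∈ lie G α)
    (hy : y ∈ lie G α) (e : x * β * x = y * β * y) : y = x ∨ y = -x := by
  have : Finite (M →ₗ[k] M) := DFunLike.finite _
  have : Module.Finite k M := Module.Finite.of_finite
  let J : Submodule k (M →ₗ[k] M) := (lie G α).map (LinearMap.mulRight k β)
  have hJ : ∀ {z}, z ∈ lie G α → z * β ∈ J := fun hz => ⟨_, hz, rfl⟩
  have h0 : ∀ {z}, z ∈ lie G α → z * β = 0 → z = 0 := fun hz e => by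
    rw [← h.lie_r hz, ← mul_assoc, e, zero_mul]
  have := jordan_anticomm hk2 (odd_card hk2) J (hJ (self_mem_lie h.l)) ?_ ?_ ?_ ?_
    (hJ ((lie G α).sub_mem hy hx)) (hJ ((lie G α).add_mem hy hx)) ?_
  · rcases this with h1 | h1
    · exact Or.inl (sub_eq_zero.1 (h0 ((lie G α).sub_mem hy hx) h1))
    · exact Or.inr (eq_neg_of_add_eq_zero_left (h0 ((lie G α).add_mem hy hx) h1))
  · rintro _ ⟨z, hz, rfl⟩
    rw [mulRight_apply, ← mul_assoc, h.lie_l hz]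
  · rintro _ ⟨z, hz, rfl⟩
    rw [mulRight_apply, mul_assoc, h.bab']
  · rintro _ ⟨z, hz, rfl⟩
    rw [mulRight_apply, ← mul_assoc]
    exact hJ (lie_le_of_mem hz (aba_mem_lie hk2 hk3 hz.1 h.r))
  · rintro _ ⟨z, hz, rfl⟩ _ ⟨w, hw, rfl⟩ e
    simp only [mulRight_apply] at e ⊢
    by_cases hz0 : z = 0
    · simp [hz0]
    obtain ⟨z', -, -, -, h2⟩ := h.partner hk2 hk3 hα hz hz0
    have : α * (z' * (z * β * (w * β))) = w * β := by
      rw [← mul_assoc z', ← mul_assoc z', h2, h.bab, ← mul_assoc, ← mul_assoc, h.lie_l hw]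
    rw [e, mul_zero, mul_zero] at this
    exact Or.inr this.symm
  · have : (y - x) * β * ((y + x) * β) + (y + x) * β * ((y - x) * β) =
        (y * β * y - x * β * x) * β + (y * β * y - x * β * x) * β := by noncomm_ring
    rw [this, e, sub_self, zero_mul, add_zero]

/-- a coprime group fixing the grading of a root triple fixes a triple in the root groups -/
theorem Tri.fixpt (h : Tri G α β) (hα : α ∈ Qd G) (R : Subgroup (M →ₗ[k] M)ˣ)
    (hR : R ≤ Subgroup.normalizer (G : Set (M →ₗ[k] M)ˣ))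
    (hcop : (Nat.card R).Coprime (Nat.card G)) (hc : ∀ ρ ∈ R, Cm (ρ : M →ₗ[k] M) α β) :
    ∃ a b, a ∈ lie G α ∧ a ≠ 0 ∧ b ∈ lie G β ∧ Tri G a b ∧
      ∀ ρ ∈ R, Quad.cj ρ a = a ∧ Quad.cj ρ b = b := by
  have := finite_units (k := k) (M := M)
  have : Finite (M →ₗ[k] M) := DFunLike.finite _
  have : Module.Finite k M := Module.Finite.of_finite
  obtain ⟨t, ht⟩ := exists_unit hk2 hk3
  let L := G ⊓ Subgroup.centralizer {h.tor t}
  have hL : ∀ {g : (M →ₗ[k] M)ˣ}, g ∈ L ↔ g ∈ G ∧ Cm (g : M →ₗ[k] M) α β := by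
    intro g
    refine and_congr_right fun _ => ?_
    show g ∈ Subgroup.centralizer {h.tor t} ↔ _
    rw [Subgroup.mem_centralizer_singleton_iff, Units.ext_iff, Units.val_mul, Units.val_mul]
    exact ⟨h.cm_of_tor ht, fun hg => hg.tor h t⟩
  have hRL : R ≤ Subgroup.normalizer (L : Set (M →ₗ[k] M)ˣ) := by
    refine le_normalizer_of_conj fun ρ hρ x hx => ⟨(Subgroup.mem_normalizer_iff.1 (hR hρ) x).1 hx.1,
      Subgroup.mem_centralizer_singleton_iff.2 ?_⟩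
    have h1 : ρ * h.tor t = h.tor t * ρ := Units.ext ((hc ρ hρ).tor h t)
    have h2 : x * h.tor t = h.tor t * x := Subgroup.mem_centralizer_singleton_iff.1 hx.2
    exact ((Commute.mul_left h1 h2).mul_left (Commute.inv_left h1)).eq
  let X := {a : M →ₗ[k] M // a ∈ lie G α ∧ a ≠ 0}
  choose pa hp1 hp2 hp3 hp4 using fun a : X => h.partner hk2 hk3 hα a.2.1 a.2.2
  let r : X → X → Prop := fun c d => ∃ g ∈ L, Quad.cj g c.1 = d.1
  have hr : Equivalence r := ⟨fun c => ⟨1, L.one_mem, one_cj _⟩,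
    fun ⟨g, hg, e⟩ => ⟨g⁻¹, L.inv_mem hg, by rw [← e, cj_inv_cj]⟩,
    fun ⟨g, hg, e⟩ ⟨g', hg', e'⟩ => ⟨g' * g, L.mul_mem hg' hg, by rw [← cj_cj, e, e']⟩⟩
  have hf : ∀ c a : X, a.1 * pa c * a.1 ∈ lie G α ∧ a.1 * pa c * a.1 ≠ 0 := fun c a =>
    ⟨lie_le_of_mem a.2.1 (aba_mem_lie hk2 hk3 a.2.1.1 (hp2 c).r),
      (h.opp.of_lie hα (h.qd hα) a.2.1 (hp1 c) a.2.2 ((hp2 c).ne_zero c.2.2)).ne_zero a.2.2⟩
  have key := two_classes hr (fun c a => ⟨_, hf c a⟩)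
    (fun a => ⟨-a.1, neg_mem a.2.1, neg_ne_zero.2 a.2.2⟩) (fun c a => by
      refine ⟨(hp2 a).wy * (hp2 c).wy, hL.2 ⟨G.mul_mem (hp2 a).wy_mem (hp2 c).wy_mem, ?_, ?_⟩, ?_⟩
      · rw [Units.val_mul, mul_assoc, ← hp3 c, (hp2 c).wy_e, ← (hp2 c).f_wy, ← mul_assoc, hp4 c,
          ← hp4 a, (hp2 a).wy_f, ← mul_assoc, hp3 c, ← hp3 a, (hp2 a).e_wy]
      · rw [Units.val_mul, mul_assoc, ← hp4 c, (hp2 c).wy_f]
        nth_rewrite 1 [← (hp2 c).e_wy]
        rw [← mul_assoc, hp3 c, ← hp3 a, (hp2 a).wy_e, ← mul_assoc, hp4 c, ← hp4 a, (hp2 a).f_wy]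
      · rw [← cj_cj, (hp2 c).cj_wy_l (hp2 c).aba (hp2 c).aba', (hp2 c).bab, cj_neg,
          (hp2 a).cj_wy_r (by rw [hp4 a]; exact h.symm.lie_l (hp1 c))
            (by rw [hp3 a]; exact h.symm.lie_r (hp1 c)), neg_neg])
    (fun c x x' e => by
      have hq : c.1 ∈ Qd G := lie.qd hα c.2.1 c.2.2
      have e1 := lie.lie_eq hα c.2.1 c.2.2
      have := (hp2 c).sq_inj hk2 hk3 hq (e1.ge x.2.1) (e1.ge x'.2.1) (congrArg Subtype.val e)
      exact this.imp Subtype.ext Subtype.ext)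
  let act : R → X → X := fun ρ c => ⟨Quad.cj ρ c.1,
    lie_cj_pres (hR ρ.2) (h.pres_of_cm (hc _ ρ.2)) c.2.1, fun e => c.2.2 (cj_eq_zero.1 e)⟩
  have hact : ∀ ρ c d, r c d → r (act ρ c) (act ρ d) := by
    rintro ρ c d ⟨g, hg, e⟩
    refine ⟨ρ * g * (ρ : (M →ₗ[k] M)ˣ)⁻¹, (Subgroup.mem_normalizer_iff.1 (hRL ρ.2) g).1 hg, ?_⟩
    show _ = Quad.cj ρ d.1
    rw [← e, cj_cj, cj_cj, inv_mul_cancel_right]
  have hmul : ∀ ρ σ c, act (ρ * σ) c = act ρ (act σ c) := fun ρ σ c =>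
    Subtype.ext (cj_cj _ _ _).symm
  obtain ⟨m, hm⟩ : Odd (Nat.card R) :=
    Nat.coprime_two_right.1 (hcop.coprime_dvd_right (h.even_card hα.2.1 hk2))
  let c₀ : X := ⟨α, self_mem_lie h.l, hα.2.1⟩
  have hfix : ∀ ρ : R, r c₀ (act ρ c₀) := by
    intro ρ
    rcases key c₀ (act ρ c₀) (act ρ (act ρ c₀)) with h1 | h1 | h1
    · exact h1
    · have := hact ρ⁻¹ _ _ h1
      rw [← hmul, ← hmul, inv_mul_cancel] at this
      have e : ∀ c, act 1 c = c := fun c => Subtype.ext (one_cj _)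
      rwa [e, e] at this
    · have h2 : ∀ n : ℕ, r c₀ (act ((ρ * ρ) ^ n) c₀) := by
        intro n
        induction n with
        | zero => exact ⟨1, L.one_mem, rfl⟩
        | succ n ih =>
          rw [pow_succ', hmul]
          exact hr.trans (hmul ρ ρ c₀ ▸ h1) (hact _ _ _ ih)
      have h3 : (ρ * ρ) ^ (m + 1) = ρ := by
        rw [← pow_two, ← pow_mul, mul_add, mul_one, ← one_add_one_eq_two (R := ℕ), ← add_assoc,
          pow_succ, one_add_one_eq_two, ← hm, pow_card_eq_one', one_mul]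
      exact h3 ▸ h2 (m + 1)
  obtain ⟨g, hg, hfx⟩ := fix_cj R L hRL
    (hcop.coprime_dvd_right (Subgroup.card_dvd_of_le inf_le_left)) α fun ρ hρ => by
      obtain ⟨g, hg, e⟩ := hfix ⟨ρ, hρ⟩
      exact ⟨g, hg, e.symm⟩
  let a : X := ⟨Quad.cj g α, lie_cj_pres (Subgroup.le_normalizer hg.1) (h.pres_of_cm (hL.1 hg).2)
    (self_mem_lie h.l), fun e => hα.2.1 (cj_eq_zero.1 e)⟩
  refine ⟨a.1, pa a, a.2.1, a.2.2, hp1 a, hp2 a, fun ρ hρ => ⟨hfx ρ hρ, ?_⟩⟩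
  have := (hp2 a).cj_r_of_cm (g := ρ) (c := 1)
    (by unfold Cm; rw [hp3, hp4]; exact hc ρ hρ) (by rw [one_smul]; exact hfx ρ hρ)
  rwa [one_smul] at this

end Fin

end CL.QFix
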