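import Mathlib
import Cfsg.Agent.SIG.QFixD

/-! Quadratic elements and coprime automorphisms, part E: the components of the root subgroups,
and a copy of `SL₂(k)` in the fixed points of a coprime group. -/

set_option autoImplicit false

namespace CL.QFix

open CL.Quad Cfsg LinearMap Module Polynomial Subgroup
open scoped MatrixGroups commutatorElement

variable {k : Type*} [Field k] {M : Type*} [AddCommGroup M] [Module k M]
variable {G : Subgroup (M →ₗ[k] M)ˣ} {α β : M →ₗ[k] M}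

theorem comm_of_commutator_bot {Γ : Type*} [Group Γ] {A B : Subgroup Γ} (h : ⁅A, B⁆ = ⊥) {x y : Γ}
    (hx : x ∈ A) (hy : y ∈ B) : x * y = y * x :=
  commutatorElement_eq_one_iff_mul_comm.1 (mem_bot.1 (h ▸ commutator_mem_commutator hx hy))

theorem un_comm {x y : M →ₗ[k] M} (hx : x * x = 0) (hy : y * y = 0) :
    un x hx * un y hy = un y hy * un x hx ↔ x * y = y * x := by
  rw [val_comm_iff, un_sub_one, un_sub_one]

theorem Qe_of_rootGrp_le {K : Subgroup (M →ₗ[k] M)ˣ} (hK : rootGrp G α ≤ K) (h : β ∈ lie G α) :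
    β ∈ Qe K := Qe.mono hK (Qe_rootGrp h)

theorem cj_of_mem_cent {K : Subgroup (M →ₗ[k] M)ˣ} {g : (M →ₗ[k] M)ˣ}
    (hg : g ∈ centralizer (K : Set (M →ₗ[k] M)ˣ)) (h : α ∈ Qe K) : cj g α = α := by
  have := hg _ (Qe.un_mem h)
  rw [← un_sub_one α h.1, ← cj_val_sub_one, ← this, mul_inv_cancel_right]

theorem Tri.hom_cent (h : Tri G α β) {R : Subgroup (M →ₗ[k] M)ˣ}
    (hR : ∀ ρ ∈ R, Quad.cj ρ α = α ∧ Quad.cj ρ β = β) (g : SL(2, k)) :
    h.sl.hom g ∈ centralizer (R : Set (M →ₗ[k] M)ˣ) := by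
  intro ρ hρ
  have : Quad.cj ρ (h.sl.hom g : M →ₗ[k] M) = h.sl.hom g := by
    rw [h.hom_val]
    simp only [cj_add, cj_sub, cj_one, cj_smul, cj_mul, (hR ρ hρ).1, (hR ρ hρ).2]
  exact Units.ext (cj_eq_iff.1 this)

section FD

variable [FiniteDimensional k M] (hk2 : (2 : k) ≠ 0) (hk3 : Nat.card k ≠ 3)

theorem gen_comp_le {A : Subgroup (M →ₗ[k] M)ˣ} : gen (comp G A) ≤ G :=
  gen_comp_le_gen.trans gen_roots_le

include hk2 hk3

variable (hO : HO G) {A : Subgroup (M →ₗ[k] M)ˣ} (hA : A ∈ quadraticRootSubgroups G)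
include hO hA

theorem comm_of_not_mem_comp {ρ : (M →ₗ[k] M)ˣ} (hρ : ρ ∈ normalizer (G : Set (M →ₗ[k] M)ˣ))
    (h : conjBy A ρ ∉ comp G A) {x y : (M →ₗ[k] M)ˣ} (hx : x ∈ gen (comp G A))
    (hy : y ∈ gen (comp G A)) : Commute (ρ * x * ρ⁻¹) y :=
  (comm_of_commutator_bot (comp_commute' hk2 hk3 hO hA (roots_conj' hρ hA) h) hy
    (conj_mem_gen_comp hρ hx)).symm

theorem conj_mem_comp {ρ : (M →ₗ[k] M)ˣ} (hρ : ρ ∈ normalizer (G : Set (M →ₗ[k] M)ˣ))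
    (h : ρ ∈ normalizer (gen (comp G A) : Set (M →ₗ[k] M)ˣ)) : conjBy A ρ ∈ comp G A := by
  by_contra hn
  obtain ⟨α, hα, rfl⟩ := mem_roots.1 hA
  obtain ⟨β, hβ, ho⟩ := hO α hα
  have h1 : un α hα.1.1 ∈ gen (comp G (rootGrp G α)) :=
    le_gen (self_mem_comp hA) (un_mem_rootGrp (self_mem_lie hα.1) _)
  have h2 : un β hβ.1.1 ∈ gen (comp G (rootGrp G α)) :=
    le_gen (ho.mem_comp hk2 hk3 hα hβ) (un_mem_rootGrp (self_mem_lie hβ.1) _)
  have h3 := comm_of_not_mem_comp hk2 hk3 hO hA hρ hn ((mem_normalizer_iff''.1 h _).1 h1) h2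
  have h4 : un α hα.1.1 * un β hβ.1.1 = un β hβ.1.1 * un α hα.1.1 := by simpa [mul_assoc] using h3.eq
  rw [un_comm] at h4
  exact ho.ne_zero hα.2.1 (by rw [h4, mul_assoc, hα.1.1, mul_zero])

omit hk2 hk3 hO in
theorem norm_of_mem_comp [Finite M] {ρ : (M →ₗ[k] M)ˣ}
    (hρ : ρ ∈ normalizer (G : Set (M →ₗ[k] M)ˣ)) (h : conjBy A ρ ∈ comp G A) :
    ρ ∈ normalizer (gen (comp G A) : Set (M →ₗ[k] M)ˣ) := by
  have := finite_units (k := k) (M := M)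
  refine mem_normalizer_fintype fun x hx => ?_
  have := conj_mem_gen_comp hρ hx
  rwa [comp_eq hA h] at this

theorem comm_of_not_norm [Finite M] {R : Subgroup (M →ₗ[k] M)ˣ}
    (hR : R ≤ normalizer (G : Set (M →ₗ[k] M)ˣ)) :
    ∀ ρ ∈ R, ρ ∉ R ⊓ normalizer (gen (comp G A) : Set (M →ₗ[k] M)ˣ) → ∀ x ∈ gen (comp G A),
      ∀ y ∈ gen (comp G A), Commute (ρ * x * ρ⁻¹) y := fun _ hρ hn _ hx _ hy =>
  comm_of_not_mem_comp hk2 hk3 hO hA (hR hρ)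
    (fun h => hn ⟨hρ, norm_of_mem_comp hA (hR hρ) h⟩) hx hy

/-- the projection of a quadratic element onto a component -/
theorem exists_proj {ξ : M →ₗ[k] M} (hξ : ξ ∈ Qe G) : ∃ a ∈ lie (gen (comp G A)) ξ,
    ∀ g ∈ gen (comp G A), cj g (ξ - a) = ξ - a := by
  obtain ⟨α₀, h1, h2, h3⟩ := exists_decomp hk2 hk3 hξ
  have h4 := Qe_cent_of_null' hk2 hk3 hO h1.1 h3
  have key : ∀ x ∈ Submodule.span k (Qd G ∩ lie G ξ), ∃ a ∈ lie (gen (comp G A)) ξ,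
      ∀ g ∈ gen (comp G A), cj g (x - a) = x - a := by
    intro x hx
    induction hx using Submodule.span_induction with
    | mem x hx =>
      by_cases hc : rootGrp G x ∈ comp G A
      · exact ⟨x, ⟨Qe_of_rootGrp_le (le_gen hc) (self_mem_lie hx.1.1), hx.2.2⟩, fun g _ => by
          rw [sub_self, cj_zero]⟩
      · refine ⟨0, Submodule.zero_mem _, fun g hg => ?_⟩
        have := comm_of_commutator_bot (comp_commute' hk2 hk3 hO hA (rootGrp_mem_roots hx.1) hc) hg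
          (le_gen (self_mem_comp (rootGrp_mem_roots hx.1))
            (un_mem_rootGrp (self_mem_lie hx.1.1) hx.1.1.1))
        rw [sub_zero, ← un_sub_one x hx.1.1.1, ← cj_val_sub_one, this, mul_inv_cancel_right]
    | zero => exact ⟨0, Submodule.zero_mem _, fun g _ => by rw [sub_self, cj_zero]⟩
    | add x y _ _ hx hy =>
      obtain ⟨a, ha, e⟩ := hx
      obtain ⟨b, hb, e'⟩ := hy
      exact ⟨a + b, Submodule.add_mem _ ha hb, fun g hg => by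
        rw [add_sub_add_comm, cj_add, e g hg, e' g hg]⟩
    | smul c x _ hx =>
      obtain ⟨a, ha, e⟩ := hx
      exact ⟨c • a, Submodule.smul_mem _ c ha, fun g hg => by rw [← smul_sub, cj_smul, e g hg]⟩
  obtain ⟨a, ha, e⟩ := key _ h2
  refine ⟨a, ha, fun g hg => ?_⟩
  have e2 : cj g α₀ = α₀ := by
    have := (Qe.un_mem h4).2 g (gen_comp_le_gen hg)
    rw [← un_sub_one α₀ h4.1, ← cj_val_sub_one, this, mul_inv_cancel_right]
  have e3 : ξ - a = (ξ - α₀ - a) + α₀ := by abel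
  rw [e3, cj_add, e g hg, e2]

omit hO in
theorem JM.comp (hJ : JM G) : JM (gen (comp G A)) := by
  intro ξ hξ
  obtain ⟨β, hβ⟩ := hJ ξ (Qe.mono gen_comp_le hξ)
  obtain ⟨b, hb, e⟩ := exists_proj hk2 hk3 hJ.ho hA hβ.r
  have h1 := cj_eq_iff.1 (e _ (Qe.un_mem hξ))
  rw [un_val, add_mul, mul_add, one_mul, mul_one, add_right_inj] at h1
  have h2 : ξ * b * ξ = ξ := by
    have : ξ * (β - b) * ξ = 0 := by rw [h1, mul_assoc, hξ.1, mul_zero]
    rw [mul_sub, sub_mul, hβ.aba, sub_eq_zero] at this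
    exact this.symm
  refine ⟨b * ξ * b, hξ, (aba_mem_lie hk2 hk3 hb.1 hξ).1, ?_, ?_⟩
  · rw [← mul_assoc, ← mul_assoc, h2, h2]
  · calc b * ξ * b * ξ * (b * ξ * b) = b * (ξ * b * (ξ * b * ξ)) * b := by simp only [mul_assoc]
      _ = _ := by rw [h2, h2]

end FD

section Fin

variable (p : ℕ) [Fact p.Prime] [Finite k] [CharP k p] [Finite M]
  (hk2 : (2 : k) ≠ 0) (hk3 : Nat.card k ≠ 3)
include p hk2 hk3

theorem exists_fixed_tri_of_pres (hJ : JM G) (hα : α ∈ Qd G) (R : Subgroup (M →ₗ[k] M)ˣ)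
    (hR : R ≤ normalizer (G : Set (M →ₗ[k] M)ˣ)) (hcop : (Nat.card R).Coprime (Nat.card G))
    (hp : (Nat.card R).Coprime p) (hP : ∀ ρ ∈ R, Pres ρ α) :
    ∃ β a b, Tri G α β ∧ a ∈ lie G α ∧ a ≠ 0 ∧ b ∈ lie G β ∧ Tri G a b ∧
      ∀ ρ ∈ R, cj ρ a = a ∧ cj ρ b = b := by
  obtain ⟨β, h⟩ := hJ α hα.1
  obtain ⟨β', h1, h2⟩ := h.exists_fix' p hk2 hk3 R hR hp hP
  obtain ⟨a, b, h3⟩ := h1.fixpt hk2 hk3 hα R hR hcop h2
  exact ⟨β', a, b, h1, h3⟩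

theorem exists_fixed_tri (hJ : JM G) {A : Subgroup (M →ₗ[k] M)ˣ}
    (hA : A ∈ quadraticRootSubgroups G) (R : Subgroup (M →ₗ[k] M)ˣ)
    (hR : R ≤ normalizer (G : Set (M →ₗ[k] M)ˣ))
    (hK : R ≤ normalizer (gen (comp G A) : Set (M →ₗ[k] M)ˣ))
    (hcop : (Nat.card R).Coprime (Nat.card G)) (hp : (Nat.card R).Coprime p) :
    ∃ a b, a ∈ Qd G ∧ Tri (gen (comp G A)) a b ∧ ∀ ρ ∈ R, cj ρ a = a ∧ cj ρ b = b := by
  have := finite_units (k := k) (M := M)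
  have : Module.Finite k M := Module.Finite.of_finite
  have hcop' : (Nat.card R).Coprime (Nat.card (gen (comp G A))) :=
    hcop.coprime_dvd_right (card_dvd_of_le gen_comp_le)
  obtain ⟨g, hg, h1⟩ := CL.coprime_invariant_conj R (gen (comp G A)) hK hcop'
    (CL.isSolvable_or_of_coprime _ _ hcop') A fun ρ hρ => by
      obtain ⟨g, hg, e⟩ := comp_conj hA (conj_mem_comp hk2 hk3 hJ.ho hA (hR hρ) (hK hρ))
      exact ⟨g, hg, e⟩
  have h2 : conjBy A g ∈ comp G A := conj_mem_comp hk2 hk3 hJ.ho hA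
    (le_normalizer (gen_comp_le hg)) (le_normalizer hg)
  change R ≤ normalizer (conjBy A g : Set (M →ₗ[k] M)ˣ) at h1
  obtain ⟨α, hα, e⟩ := mem_roots.1 h2.1
  rw [e] at h1 h2
  obtain ⟨β, a, b, h3, h4, h5, h6, h7, h8⟩ := exists_fixed_tri_of_pres p hk2 hk3 hJ hα R hR hcop hp
    fun ρ hρ => by
      have e1 := CL.RankOne.conjBy_eq_self_iff.2 (h1 hρ)
      rw [conjBy_rootGrp' (hR hρ)] at e1
      have e2 : cj ρ α ∈ lie G α := by
        rw [← lie_eq_of_rootGrp_eq e1]; exact self_mem_lie (Qe_cj (hR hρ) hα.1)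
      have e3 : cj ρ α ≠ 0 := fun e => hα.2.1 (cj_eq_zero.1 e)
      exact ⟨lie.range_eq hα e2 e3, lie.ker_eq hα e2 e3⟩
  exact ⟨a, b, lie.qd hα h4 h5, ⟨Qe_of_rootGrp_le (le_gen h2) h4, Qe_of_rootGrp_le
    (le_gen (comp_trans h2 (h3.opp.mem_comp hk2 hk3 hα (h3.qd hα)))) h6, h7.aba, h7.bab⟩, h8⟩

/-- a copy of `SL₂(k)` in the fixed points -/
theorem core (hJ : JM G) {A : Subgroup (M →ₗ[k] M)ˣ}
    (hA : A ∈ quadraticRootSubgroups G) (R : Subgroup (M →ₗ[k] M)ˣ)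
    (hR : R ≤ normalizer (G : Set (M →ₗ[k] M)ˣ))
    (hcop : (Nat.card R).Coprime (Nat.card G)) (hp : (Nat.card R).Coprime p) :
    ∃ a b, ∃ h : Tri (gen (comp G A)) a b, a ≠ 0 ∧ ∃ ψ : SL(2, k) →* (M →ₗ[k] M)ˣ,
      (∀ g, ψ g ∈ G ⊓ centralizer (R : Set (M →ₗ[k] M)ˣ)) ∧
      (∀ g, (h.sl.hom g)⁻¹ * ψ g ∈ centralizer (gen (comp G A) : Set (M →ₗ[k] M)ˣ)) ∧
      ∀ H : Subgroup (M →ₗ[k] M)ˣ, (∀ ρ ∈ R, ∀ x ∈ gen (comp G A), ρ * x * ρ⁻¹ ∈ H) →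
        ∀ g, ψ g ∈ H := by
  have := finite_units (k := k) (M := M)
  have : Module.Finite k M := Module.Finite.of_finite
  obtain ⟨a, b, ha, h, hfix⟩ := exists_fixed_tri p hk2 hk3 hJ hA
    (R ⊓ normalizer (gen (comp G A) : Set (M →ₗ[k] M)ˣ)) (inf_le_left.trans hR) inf_le_right
    (hcop.coprime_dvd_left (card_dvd_of_le inf_le_left))
    (hp.coprime_dvd_left (card_dvd_of_le inf_le_left))
  obtain ⟨φ, h1, h2, h3⟩ := exists_norm R _ _ (comm_of_not_norm hk2 hk3 hJ.ho hA hR)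
  refine ⟨a, b, h, ha.2.1, φ.comp (h.sl.hom.codRestrict _ fun g => ⟨h.hom_mem g, h.hom_cent hfix g⟩),
    fun g => ⟨h3 G (fun ρ hρ x hx => (mem_normalizer_iff.1 (hR hρ) x).1 (gen_comp_le hx)) _, h1 _⟩,
    fun g => h2 ⟨_, h.hom_mem g, h.hom_cent hfix g⟩, fun H hH g => h3 H hH _⟩

/-- a torus element in the fixed points -/
theorem core_tor (hJ : JM G) {A : Subgroup (M →ₗ[k] M)ˣ}
    (hA : A ∈ quadraticRootSubgroups G) (R : Subgroup (M →ₗ[k] M)ˣ)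
    (hR : R ≤ normalizer (G : Set (M →ₗ[k] M)ˣ))
    (hcop : (Nat.card R).Coprime (Nat.card G)) (hp : (Nat.card R).Coprime p) :
    ∃ T ∈ G ⊓ centralizer (R : Set (M →ₗ[k] M)ˣ), T ^ Nat.card kˣ = 1 ∧ (∃ a ∈ Qe G, cj T a ≠ a) ∧
      ∀ H : Subgroup (M →ₗ[k] M)ˣ, (∀ ρ ∈ R, ∀ x ∈ gen (comp G A), ρ * x * ρ⁻¹ ∈ H) → T ∈ H := by
  have : Module.Finite k M := Module.Finite.of_finite
  obtain ⟨a, b, h, h0, ψ, h1, h2, h3⟩ := core p hk2 hk3 hJ hA R hR hcop hp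
  obtain ⟨t, ht⟩ := exists_unit hk2 hk3
  refine ⟨ψ (dg t), h1 _, ?_, ⟨a, Qe.mono gen_comp_le h.l, fun e => ?_⟩, fun H hH => h3 H hH _⟩
  · have : ψ (dg t) = (ψ.comp dgHom) t := rfl
    rw [this, ← map_pow, pow_card_eq_one', map_one]
  · have e1 := cj_of_mem_cent (h2 (dg t)) h.l
    rw [← cj_cj, e] at e1
    have e2 : cj (h.tor t) a = a := by
      have := congrArg (cj (h.tor t)) e1
      exact this.symm.trans (cj_cj_inv _ _)
    rw [h.cj_tor_a, ← sub_eq_zero] at e2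
    nth_rewrite 2 [← one_smul k a] at e2
    rw [← sub_smul, smul_eq_zero, sub_eq_zero] at e2
    exact e2.elim ht h0

end Fin

end CL.QFix
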