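import Mathlib
import Cfsg.Agent.SIG.QFixE

/-! Quadratic elements and coprime automorphisms, part F: quadratic elements of an abelian subgroup
normalized by a root triple, and groups in which no quadratic element centralizes a torus. -/

set_option autoImplicit false

namespace CL.QFix

open CL.Quad Cfsg LinearMap Module Polynomial Subgroup
open scoped MatrixGroups commutatorElement

variable {k : Type*} [Field k] {M : Type*} [AddCommGroup M] [Module k M]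
variable {G A : Subgroup (M →ₗ[k] M)ˣ} {α β ξ : M →ₗ[k] M}

theorem exists_eig {V : Type*} [AddCommGroup V] [Module k V] [Finite k] [Finite V] [Nontrivial V]
    (φ : V →ₗ[k] V) (h : φ ^ Nat.card k = φ) : ∃ (μ : k) (v : V), v ≠ 0 ∧ φ v = μ • v := by
  have : Module.Finite k V := Module.Finite.of_finite
  have := Fintype.ofFinite k
  have h1 : minpoly k φ ∣ X ^ Fintype.card k - X :=
    minpoly.dvd k φ (by rw [map_sub, map_pow, aeval_X, ← Nat.card_eq_fintype_card, h, sub_self])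
  have h2 : (X ^ Fintype.card k - X : k[X]).Splits := by
    rw [splits_iff_card_roots, FiniteField.roots_X_pow_card_sub_X,
      FiniteField.X_pow_card_sub_X_natDegree_eq k Fintype.one_lt_card]
    rfl
  have h3 := h2.of_dvd (FiniteField.X_pow_card_sub_X_ne_zero k Fintype.one_lt_card) h1
  obtain ⟨μ, hμ⟩ := h3.exists_eval_eq_zero (minpoly.degree_pos (Algebra.IsIntegral.isIntegral φ)).ne'
  obtain ⟨v, hv⟩ := (Module.End.hasEigenvalue_of_isRoot hμ).exists_hasEigenvector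
  exact ⟨μ, v, hv.2, hv.apply_eq_smul⟩

/-- the group generated by the elements `1 + a`, `a ∈ S` -/
def cl (S : Set (M →ₗ[k] M)) : Subgroup (M →ₗ[k] M)ˣ :=
  closure {x | (x : M →ₗ[k] M) - 1 ∈ S}

theorem cl_le {S : Set (M →ₗ[k] M)} (h : S ⊆ Qe G) : cl S ≤ G :=
  (closure_le _).2 fun _ hx => Qe.mem' (h hx) rfl

theorem cl_comm {S : Set (M →ₗ[k] M)} (h : ∀ a ∈ S, ∀ b ∈ S, a * b = b * a) :
    ∀ x ∈ cl S, ∀ y ∈ cl S, x * y = y * x := by
  have : IsMulCommutative (cl S) := isMulCommutative_closure fun x hx y hy =>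
    val_comm_iff.2 (h _ hx _ hy)
  exact fun x hx y hy => congrArg Subtype.val (mul_comm' (⟨x, hx⟩ : cl S) ⟨y, hy⟩)

theorem cl_norm {S : Set (M →ₗ[k] M)} {B : Subgroup (M →ₗ[k] M)ˣ}
    (h : ∀ g ∈ B, ∀ a ∈ S, cj g a ∈ S) : B ≤ normalizer (cl S : Set (M →ₗ[k] M)ˣ) := by
  refine le_normalizer_of_conj fun g hg x hx => ?_
  have : cl S ≤ (cl S).comap (MulAut.conj g).toMonoidHom := (closure_le _).2 fun y hy =>
    subset_closure (show ((g * y * g⁻¹ : (M →ₗ[k] M)ˣ) : M →ₗ[k] M) - 1 ∈ S by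
      rw [cj_val_sub_one]; exact h g hg _ hy)
  exact this hx

theorem Qe_cl {S : Set (M →ₗ[k] M)} {a : M →ₗ[k] M} (h : a ∈ Qe G) (hS : ∀ c : k, c • a ∈ S) :
    a ∈ Qe (cl S) := ⟨h.1, fun c => ⟨un _ (Qe.smul h c).1,
      subset_closure (by rw [Set.mem_setOf_eq, un_sub_one]; exact hS c), rfl⟩⟩

theorem norm_inf_cent {g t : (M →ₗ[k] M)ˣ} (hg : g ∈ normalizer (A : Set (M →ₗ[k] M)ˣ))
    (ht : g * t = t * g) :
    g ∈ normalizer ((A ⊓ centralizer {t} : Subgroup (M →ₗ[k] M)ˣ) : Set (M →ₗ[k] M)ˣ) := by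
  refine (inf_normalizer_le_normalizer_inf : _ ≤ _) ⟨hg, ?_⟩
  refine mem_normalizer_iff.2 fun x => ?_
  simp only [SetLike.mem_coe, mem_centralizer_singleton_iff]
  have h1 : g⁻¹ * t = t * g⁻¹ := (Commute.inv_left ht).eq
  rw [mul_assoc, h1, ← mul_assoc, ← mul_assoc, ← mul_assoc, ← ht, mul_left_inj, mul_assoc,
    mul_assoc, mul_right_inj]

section Ab

variable (hab : ∀ x ∈ A, ∀ y ∈ A, x * y = y * x)
include hab

theorem Qe_comm {η : M →ₗ[k] M} (h1 : ξ ∈ Qe A) (h2 : η ∈ Qe A) : ξ * η = η * ξ :=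
  (un_comm h1.1 h2.1).1 (hab _ (Qe.un_mem h1) _ (Qe.un_mem h2))

variable (hk2 : (2 : k) ≠ 0)
include hk2

theorem xax (hα : α ∈ Qe (normalizer (A : Set (M →ₗ[k] M)ˣ))) (hξ : ξ ∈ Qe A) :
    ξ * α * ξ = 0 := by
  have h1 := Qe_comm hab hξ (Qe_cj (Qe.un_mem hα) hξ)
  have h2 := Qe_comm hab hξ (Qe_cj (Qe.un_mem (Qe.neg hα)) hξ)
  simp only [cj, un_val, un_inv_val] at h1 h2
  have e : (2 : k) • ((2 : k) • (ξ * α * ξ)) = (ξ * ((1 + α) * ξ * (1 - α)) - (1 + α) * ξ * (1 - α) * ξ)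
      - (ξ * ((1 + -α) * ξ * (1 - -α)) - (1 + -α) * ξ * (1 - -α) * ξ)
      + (ξ * ξ * α + α * (ξ * ξ)) + (ξ * ξ * α + α * (ξ * ξ)) := by
    rw [two_smul, two_smul]; noncomm_ring
  rw [h1, h2, hξ.1] at e
  simpa [hk2] using e

variable [FiniteDimensional k M] (hk3 : Nat.card k ≠ 3) (hAG : A ≤ G)
include hk3 hAG

theorem axa (hq : α ∈ Qd G) (hα : α ∈ Qe (normalizer (A : Set (M →ₗ[k] M)ˣ))) (hξ : ξ ∈ Qe A) :
    α * ξ * α = 0 := by
  by_contra h
  obtain ⟨s, hs⟩ := exists_inv_of_ne hk2 hk3 hq (Qe.mono hAG hξ) h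
  have h1 := xax hab hk2 hα hξ
  have h2 : (α * ξ + ξ * α) * (α * ξ + ξ * α) = 0 := by
    have : (α * ξ + ξ * α) * (α * ξ + ξ * α) = α * (ξ * α * ξ) + α * (ξ * ξ) * α +
      ξ * (α * α) * ξ + ξ * α * ξ * α := by noncomm_ring
    rw [this, h1, hξ.1, hα.1]; simp
  have h3 : (α * ξ + ξ * α) * aeval (α * ξ + ξ * α) s = aeval (α * ξ + ξ * α) s * (α * ξ + ξ * α) :=
    comm_aeval rfl s
  refine hq.2.1 ?_
  generalize α * ξ + ξ * α = z at *
  calc α = aeval z s * z * (aeval z s * z * α) := by rw [hs, hs]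
    _ = aeval z s * (z * aeval z s) * z * α := by simp only [mul_assoc]
    _ = aeval z s * aeval z s * (z * z) * α := by rw [h3]; simp only [mul_assoc]
    _ = 0 := by rw [h2]; simp

theorem comm_mem_A (hq : α ∈ Qd G) (hα : α ∈ Qe (normalizer (A : Set (M →ₗ[k] M)ˣ)))
    (hξ : ξ ∈ Qe A) : ξ * α - α * ξ ∈ Qe A := by
  refine ⟨(comm_mem_Qe (Qe.mono hAG hξ) hq.1 (xax hab hk2 hα hξ) (axa hab hk2 hk3 hAG hq hα hξ)).1,
    fun c => ?_⟩
  have hc := Qe.smul hξ c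
  refine ⟨⁅un _ hc.1, un α hα.1⁆, ?_, ?_⟩
  · rw [commutatorElement_def, mul_assoc, mul_assoc, ← mul_assoc (un α _)]
    exact A.mul_mem (Qe.un_mem hc)
      ((mem_normalizer_iff.1 (Qe.un_mem hα) _).1 (A.inv_mem (Qe.un_mem hc)))
  · rw [← sub_eq_iff_eq_add', commutator_val hc.1 hα.1 (xax hab hk2 hα hc)
      (axa hab hk2 hk3 hAG hq hα hc) (un_sub_one _ _) (un_sub_one _ _), smul_mul_assoc,
      mul_smul_comm, smul_sub]

end Ab

/-- elements of degree one -/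
def Dg1 (α β n : M →ₗ[k] M) : Prop := n * (α * β) = 0 ∧ β * α * n = 0 ∧ α * β * n + n * (β * α) = n

theorem Dg1.cj {n : M →ₗ[k] M} (h : Dg1 α β n) {g : (M →ₗ[k] M)ˣ} (hg : Cm (g : M →ₗ[k] M) α β) :
    Dg1 α β (cj g n) := by
  unfold Dg1
  rw [← cj_of_comm hg.1, ← cj_of_comm hg.2, ← cj_mul, ← cj_mul, ← cj_mul, ← cj_mul, ← cj_add, h.1,
    h.2.1, h.2.2, cj_zero]
  exact ⟨rfl, rfl, rfl⟩

theorem Dg1.tor {n : M →ₗ[k] M} (hn : Dg1 α β n) (h : Tri G α β) (t : kˣ) :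
    Quad.cj (h.tor t) n = (t : k) • n := by
  have e : α * β * n = n - n * (β * α) := eq_sub_of_add_eq hn.2.2
  rw [cj_eq_iff', h.tor_val]
  simp only [mul_add, add_mul, mul_one, one_mul, smul_mul_assoc, mul_smul_comm, hn.1, hn.2.1, e,
    smul_zero, add_zero, smul_add, smul_smul, sub_mul, Units.inv_mul]
  module

section Ab

variable [FiniteDimensional k M] (hab : ∀ x ∈ A, ∀ y ∈ A, x * y = y * x) (hk2 : (2 : k) ≠ 0)
  (hk3 : Nat.card k ≠ 3) (hAG : A ≤ G) (h : Tri G α β) (hq : α ∈ Qd G)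
  (hα : α ∈ Qe (normalizer (A : Set (M →ₗ[k] M)ˣ)))
  (hβ : β ∈ Qe (normalizer (A : Set (M →ₗ[k] M)ˣ)))
include hab hk2 hk3 hAG h hq hβ

theorem Dg1.mul {n n' : M →ₗ[k] M} (h1 : n ∈ Qe A) (h2 : n' ∈ Qe A) (d1 : Dg1 α β n)
    (d2 : Dg1 α β n') : n * n' = 0 := by
  have e1 : n * α = 0 := by rw [← h.aba, ← mul_assoc, d1.1, zero_mul]
  have e2 : n' * α = 0 := by rw [← h.aba, ← mul_assoc, d2.1, zero_mul]
  have e3 := Qe_comm hab h1 (comm_mem_A hab hk2 hk3 hAG (h.qd hq) hβ h2)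
  have e4 := congrArg (· * α) e3
  simp only [mul_assoc, e1, sub_mul, e2, mul_zero, sub_zero] at e4
  rw [← d2.2.2, mul_add, ← mul_assoc, d1.1, zero_mul, zero_add, e4]

include hα

theorem dg1_comm (hξ : ξ ∈ Qe A) : Dg1 α β (ξ * α - α * ξ) := by
  have e1 := axa hab hk2 hk3 hAG hq hα hξ
  have e2 := axa hab hk2 hk3 hAG (h.qd hq) hβ (comm_mem_A hab hk2 hk3 hAG hq hα hξ)
  have e3 : (ξ * α - α * ξ) * α = 0 := by rw [sub_mul, mul_assoc, h.l.1, e1, mul_zero, sub_self]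
  have e4 : α * (ξ * α - α * ξ) = 0 := by
    rw [mul_sub, ← mul_assoc, e1, h.aa, sub_self]
  refine ⟨by rw [← mul_assoc, e3, zero_mul], by rw [mul_assoc, e4, mul_zero], ?_⟩
  have e5 : α * β * (ξ * α - α * ξ) + (ξ * α - α * ξ) * (β * α) = (ξ * α - α * ξ) +
      α * (β * (ξ * α - α * ξ) * β) * α := by
    simp only [mul_sub, sub_mul, mul_assoc, h.aba', h.abaw]
    abel
  rw [e5, e2, mul_zero, zero_mul, add_zero]

omit hα in
/-- the quadratic elements of degree one -/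
def D1 : Submodule k (M →ₗ[k] M) where
  carrier := {n | n ∈ Qe A ∧ Dg1 α β n}
  zero_mem' := ⟨Qe_zero, by simp [Dg1]⟩
  add_mem' := fun {a b} ha hb => ⟨Qe.add ha.1 hb.1 (Dg1.mul hab hk2 hk3 hAG h hq hβ ha.1 hb.1 ha.2 hb.2)
    (Dg1.mul hab hk2 hk3 hAG h hq hβ hb.1 ha.1 hb.2 ha.2), by rw [add_mul, ha.2.1, hb.2.1, add_zero],
    by rw [mul_add, ha.2.2.1, hb.2.2.1, add_zero],
    by rw [mul_add, add_mul, add_add_add_comm, ha.2.2.2, hb.2.2.2]⟩
  smul_mem' := fun c a ha => ⟨Qe.smul ha.1 c, by rw [smul_mul_assoc, ha.2.1, smul_zero],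
    by rw [mul_smul_comm, ha.2.2.1, smul_zero],
    by rw [mul_smul_comm, smul_mul_assoc, ← smul_add, ha.2.2.2]⟩

omit hα in
theorem exists_eig_dg1 [Finite k] [Finite M] {n : M →ₗ[k] M} (h1 : n ∈ Qe A) (d1 : Dg1 α β n)
    (h0 : n ≠ 0) {T : (M →ₗ[k] M)ˣ} (hT : T ∈ normalizer (A : Set (M →ₗ[k] M)ˣ))
    (hc : Cm (T : M →ₗ[k] M) α β) (hN : T ^ Nat.card kˣ = 1) :
    ∃ (μ : kˣ) (m : M →ₗ[k] M), m ∈ Qe A ∧ Dg1 α β m ∧ m ≠ 0 ∧ Quad.cj T m = (μ : k) • m := by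
  have : Finite (M →ₗ[k] M) := DFunLike.finite _
  let D := D1 hab hk2 hk3 hAG h hq hβ
  have : Nontrivial D := ⟨⟨⟨n, h1, d1⟩, 0, fun e => h0 (congrArg Subtype.val e)⟩⟩
  let φ : D →ₗ[k] D :=
    { toFun := fun x => ⟨Quad.cj T x.1, Qe_cj hT x.2.1, x.2.2.cj hc⟩
      map_add' := fun x y => Subtype.ext (cj_add _ _ _)
      map_smul' := fun c x => Subtype.ext (cj_smul _ _ _) }
  have hφ : ∀ (i : ℕ) (x : D), ((φ ^ i) x : M →ₗ[k] M) = Quad.cj (T ^ i) x.1 := by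
    intro i
    induction i with
    | zero => exact fun x => by rw [pow_zero, pow_zero, one_cj]; rfl
    | succ i ih => exact fun x => by rw [pow_succ, pow_succ, Module.End.mul_apply, ih, ← cj_cj]; rfl
  obtain ⟨μ, v, hv, e⟩ := exists_eig φ (LinearMap.ext fun x => Subtype.ext (by
    rw [hφ, Nat.card_eq_card_units_add_one k, pow_succ, hN, one_mul]; rfl))
  have e' : Quad.cj T v.1 = μ • v.1 := congrArg Subtype.val e
  have hv' : v.1 ≠ 0 := fun e => hv (Subtype.ext e)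
  exact ⟨Units.mk0 μ fun e => hv' (cj_eq_zero.1 (by rw [e', e, zero_smul])), v, v.2.1, v.2.2, hv', e'⟩

end Ab

/-- no quadratic element centralizes the torus -/
def NC (G : Subgroup (M →ₗ[k] M)ˣ) (α β : M →ₗ[k] M) : Prop := ∀ x ∈ Qe G, Cm x α β → x = 0

theorem NC.cj (h : NC G α β) {g : (M →ₗ[k] M)ˣ} (hg : g ∈ G) : NC G (cj g α) (cj g β) := by
  intro x hx hc
  refine cj_eq_zero.1 (h _ (Qe.cj hx (G.inv_mem hg)) ⟨?_, ?_⟩)
  · have := congrArg (Quad.cj g⁻¹) hc.1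
    simpa only [cj_mul, cj_inv_cj] using this
  · have := congrArg (Quad.cj g⁻¹) hc.2
    simpa only [cj_mul, cj_inv_cj] using this

theorem flagJ_mid {j x y : M →ₗ[k] M} (hj : j ∈ flagJ (range α) (ker α)) (h1 : x * α = 0)
    (h2 : α * y = 0) : x * j * y = 0 := by
  ext m
  obtain ⟨v, hv⟩ := hj.2.1 ⟨y m, congrArg (fun f : M →ₗ[k] M => f m) h2, rfl⟩
  show x (j (y m)) = 0
  rw [← hv]
  exact congrArg (fun f : M →ₗ[k] M => f v) h1

section Fin

variable [Finite k] [Finite M] (hk2 : (2 : k) ≠ 0) (hk3 : Nat.card k ≠ 3)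
include hk2 hk3

theorem NC.flag {γ δ : M →ₗ[k] M} (hN : NC G α β) (h : Tri G α β) (h' : Tri G γ δ)
    (e1 : range γ = range α) (e2 : ker γ = ker α) : NC G γ δ := by
  have := finite_units (k := k) (M := M)
  obtain ⟨t, ht⟩ := exists_unit hk2 hk3
  obtain ⟨u, hu, e⟩ := h.exists_conj ht (h'.tor_mem t) ((h'.fl t).congr e1 e2)
  intro x hx hc
  refine hN.cj hu.1 x hx ((h.cj hu.1).cm_of_tor ht ?_)
  rw [h.tor_cj, ← e]
  exact hc.tor h' t

theorem NC.all (hO : HO G) {B : Subgroup (M →ₗ[k] M)ˣ} (hB : B ∈ quadraticRootSubgroups G)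
    (hG : gen (comp G B) = G) (hN : NC G α β) (h : Tri G α β) (hq : α ∈ Qd G) {γ δ : M →ₗ[k] M}
    (h' : Tri G γ δ) (hγ : γ ∈ Qd G) : NC G γ δ := by
  have : Module.Finite k M := Module.Finite.of_finite
  have key : ∀ γ ∈ Qd G, rootGrp G γ ∈ comp G B := by
    intro γ hγ
    by_contra hc
    have h1 := comp_commute' hk2 hk3 hO hB (rootGrp_mem_roots hγ) hc
    rw [hG] at h1
    have h2 : ∀ x ∈ Qe G, γ * x = x * γ := fun x hx => ((un_comm hx.1 hγ.1.1).1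
      (comm_of_commutator_bot h1 (Qe.un_mem hx) (le_gen (self_mem_comp (rootGrp_mem_roots hγ))
        (un_mem_rootGrp (self_mem_lie hγ.1) _)))).symm
    exact hγ.2.1 (hN γ hγ.1 (Cm.of_comm (h2 α h.l) (h2 β h.r)))
  obtain ⟨g, hg, e⟩ := comp_conj (rootGrp_mem_roots hq)
    (comp_trans (comp_symm hB (key α hq)) (key γ hγ))
  have hg' : g ∈ G := gen_comp_le hg
  rw [conjBy_rootGrp _ hg'] at e
  have e2 : γ ∈ lie G (Quad.cj g α) := by
    rw [← lie_eq_of_rootGrp_eq e]; exact self_mem_lie hγ.1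
  exact (hN.cj hg').flag hk2 hk3 (h.cj hg') h' (lie.range_eq (Qd.cj hq hg') e2 hγ.2.1)
    (lie.ker_eq (Qd.cj hq hg') e2 hγ.2.1)

theorem qd_of_NC (hO : HO G) (hN : ∀ γ δ, Tri G γ δ → γ ∈ Qd G → NC G γ δ) (hξ : ξ ∈ Qe G)
    (h0 : ξ ≠ 0) : ξ ∈ Qd G := by
  have : Module.Finite k M := Module.Finite.of_finite
  by_cases hn : ∀ β ∈ Qd G, β * ξ * β = 0
  · obtain ⟨α, hα⟩ := exists_Qd hξ h0
    obtain ⟨β, hβ, ho⟩ := hO α hα
    obtain ⟨β', h1, h2, h3⟩ := ho.partner hk2 hk3 hα hβ (self_mem_lie hα.1) hα.2.1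
    have h : Tri G α β' := ⟨hα.1, h1.1, h2, h3⟩
    exact absurd (hN _ _ h hα ξ hξ (Cm.of_comm (comm_of_null' hk2 hk3 hO hξ hn hα)
      (comm_of_null' hk2 hk3 hO hξ hn (h.qd hα)))) h0
  push Not at hn
  obtain ⟨β, hβ, hn⟩ := hn
  obtain ⟨γ, δ, a1, a2, a3, a4, a5, -⟩ := exists_split hk2 hk3 hξ hβ hn
  have hm : ξ - γ ∈ lie G ξ := Submodule.sub_mem _ (self_mem_lie hξ) a2
  have := hN _ _ a3 a1 _ hm.1 (Cm.of_comm (by rw [lie.mul_zero hm a2, lie.mul_zero a2 hm])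
    (by rw [a4, a5]))
  rwa [sub_eq_zero.1 this]

theorem Tri.mid_mem (h : Tri G α β) (hξ : ξ ∈ Qe G) (h1 : α * ξ = 0) (h2 : ξ * α = 0) :
    (1 - α * β - β * α) * ξ * (1 - α * β - β * α) ∈ Qe G := by
  have := finite_units (k := k) (M := M)
  obtain ⟨t, ht⟩ := exists_unit hk2 hk3
  have o1 : (1 - α * β - β * α) * α = 0 := by
    simp only [sub_mul, one_mul, mul_assoc, h.aba', h.l.1, mul_zero, sub_self]
  have o2 : α * (1 - α * β - β * α) = 0 := by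
    simp only [mul_sub, mul_one, h.aba', h.aa, sub_zero, sub_self]
  have o3 : (1 - α * β - β * α) * (1 - α * β - β * α) = 1 - α * β - β * α := by
    nth_rewrite 1 [sub_mul, sub_mul]
    rw [one_mul, mul_assoc β, o2, mul_zero, sub_zero]
    simp only [mul_sub, mul_one, mul_assoc, h.bab', h.bb, mul_zero, sub_self, sub_zero]
  refine ⟨?_, fun c => ?_⟩
  · have : ξ * (1 - α * β - β * α) * ξ = 0 := by
      simp only [mul_sub, sub_mul, mul_one, hξ.1, ← mul_assoc, h2, zero_mul, sub_zero]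
      rw [mul_assoc, h1, mul_zero, sub_zero]
    generalize 1 - α * β - β * α = o at *
    calc o * ξ * o * (o * ξ * o) = o * (ξ * (o * o) * ξ) * o := by simp only [mul_assoc]
      _ = 0 := by rw [o3, this, mul_zero, zero_mul]
  have hc := Qe.smul hξ c
  have hu : Quad.cj (un _ hc.1) α = α := cj_of_comm (by
    rw [un_val, add_mul, mul_add, smul_mul_assoc, mul_smul_comm, h1, h2, one_mul, mul_one])
  obtain ⟨v, hv, e⟩ := h.exists_conj ht (G.mul_mem (G.mul_mem (Qe.un_mem hc) (h.tor_mem t))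
    (G.inv_mem (Qe.un_mem hc))) (by
      have := (h.fl t).cj (un _ hc.1)
      rwa [hu, ← cj_val] at this)
  refine ⟨v⁻¹ * un _ hc.1, G.mul_mem (G.inv_mem hv.1) (Qe.un_mem hc), ?_⟩
  have hw : Cm ((v⁻¹ * un _ hc.1 : (M →ₗ[k] M)ˣ) : M →ₗ[k] M) α β := by
    refine h.cm_of_tor ht ?_
    rw [← Units.val_mul, ← Units.val_mul]
    congr 1
    calc v⁻¹ * un _ hc.1 * h.tor t = v⁻¹ * (un _ hc.1 * h.tor t * (un _ hc.1)⁻¹) * un _ hc.1 := by
          group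
      _ = _ := by rw [e]; group
  have hj := (mem_Ug.1 ((Ug G α).inv_mem hv)).2
  rw [Units.val_mul, un_val] at hw ⊢
  generalize ((v⁻¹ : (M →ₗ[k] M)ˣ) : M →ₗ[k] M) = y at *
  have j1 : y * α = α := by
    have := flagJ_mul_a hj
    rwa [sub_mul, one_mul, sub_eq_zero] at this
  have j2 : α * y = α := by
    have := a_mul_flagJ hj
    rwa [mul_sub, mul_one, sub_eq_zero] at this
  have j3 := flagJ_mid hj o1 (y := (1 + c • ξ) * (1 - α * β - β * α)) (by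
    rw [← mul_assoc, mul_add, mul_smul_comm, h1, smul_zero, add_zero, mul_one, o2])
  have w1 : y * (1 + c • ξ) * (α * β) = α * β := by
    rw [← mul_assoc, mul_assoc y, add_mul, smul_mul_assoc, h2, smul_zero, add_zero, one_mul, j1]
  have w2 : β * α * (y * (1 + c • ξ)) = β * α := by
    rw [mul_assoc, ← mul_assoc α, j2, mul_add, mul_smul_comm, h1, smul_zero, add_zero, mul_one]
  have w3 : (1 - α * β - β * α) * (y * (1 + c • ξ)) = y * (1 + c • ξ) * (1 - α * β - β * α) := by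
    rw [sub_mul, sub_mul, mul_sub, mul_sub, hw.1, hw.2, one_mul, mul_one]
  have w4 : y * (1 + c • ξ) = α * β + β * α + y * (1 + c • ξ) * (1 - α * β - β * α) := by
    rw [mul_sub, mul_sub, mul_one, w1, hw.2, w2]; abel
  have w5 : α * β + β * α = 1 - (1 - α * β - β * α) := by abel
  rw [w5] at w4
  generalize 1 - α * β - β * α = o at *
  have w6 : y * (1 + c • ξ) * o = o + c • (o * ξ * o) := by
    calc y * (1 + c • ξ) * o = o * (y * (1 + c • ξ)) * o := by rw [w3, mul_assoc _ o o, o3]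
      _ = o * (y - 1) * ((1 + c • ξ) * o) + o * ((1 + c • ξ) * o) := by
          generalize 1 + c • ξ = z; noncomm_ring
      _ = _ := by rw [j3, zero_add, add_mul, one_mul, mul_add, o3, smul_mul_assoc, mul_smul_comm,
          mul_assoc]
  rw [w4, w6]; abel

variable (p : ℕ) [Fact p.Prime] [CharP k p]
include p

theorem mem_lie_of_NC (hJ : JM G) (hN : ∀ γ δ, Tri G γ δ → γ ∈ Qd G → NC G γ δ) (h : Tri G α β)
    (hq : α ∈ Qd G) {n n' : M →ₗ[k] M} (h1 : n ∈ Qd G) (h2 : n' ∈ Qe G) (d1 : Dg1 α β n)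
    (d2 : Dg1 α β n') (e1 : n * n' = 0) (e2 : n' * n = 0) : n' ∈ lie G n := by
  have : Module.Finite k M := Module.Finite.of_finite
  obtain ⟨t, ht⟩ := exists_unit hk2 hk3
  obtain ⟨δ₀, hδ₀⟩ := hJ n h1.1
  obtain ⟨δ, hδ, hc⟩ := hδ₀.exists_fix_elt p hk2 hk3 (le_normalizer (h.tor_mem t)) (h.tor_pow t)
    (Pres.of_smul t.ne_zero (d1.tor h t))
  have c1 : Quad.cj (h.tor t) δ = ((t⁻¹ : kˣ) : k) • δ := by
    conv_rhs => rw [← hδ.cj_r_of_cm hc (d1.tor h t), smul_smul, Units.inv_mul, one_smul]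
  have hN' := hN _ _ hδ h1
  have y0 := hN' _ (hδ.mid_mem hk2 hk3 h2 e1 e2) ⟨by
    simp only [mul_sub, sub_mul, mul_one, one_mul, mul_assoc, hδ.aa, hδ.bb, hδ.abaw, hδ.babw,
      hδ.bab', mul_zero, sub_self, sub_zero], by
    simp only [mul_sub, sub_mul, mul_one, one_mul, mul_assoc, hδ.aa, hδ.bb, hδ.abaw, hδ.babw,
      hδ.aba', mul_zero, sub_self, sub_zero]⟩
  have hb : n * (δ * n' * δ) * n ∈ lie G n :=
    aba_mem_lie hk2 hk3 h1.1 (aba_mem_lie hk2 hk3 hδ.r h2).1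
  have e1' : ∀ w, n * (n' * w) = 0 := fun w => by rw [← mul_assoc, e1, zero_mul]
  have e2' : ∀ w, n' * (n * w) = 0 := fun w => by rw [← mul_assoc, e2, zero_mul]
  have m0 : n' - n * (δ * n' * δ) * n ∈ Qe G := by
    rw [sub_eq_add_neg]
    exact Qe.add h2 (Qe.neg hb.1) (by simp [mul_assoc, e2']) (by simp [mul_assoc, e1])
  have m1 : n * (n' - n * (δ * n' * δ) * n) = 0 := by simp [mul_sub, mul_assoc, e1, hδ.aa]
  have m2 : (n' - n * (δ * n' * δ) * n) * n = 0 := by simp [sub_mul, mul_assoc, e2, h1.1.1]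
  have m3 : δ * (n' - n * (δ * n' * δ) * n) * δ = 0 := by
    simp [mul_sub, sub_mul, mul_assoc, hδ.babw, hδ.bab']
  have m4 : Quad.cj (h.tor t) (n' - n * (δ * n' * δ) * n) =
      (t : k) • (n' - n * (δ * n' * δ) * n) := by
    simp only [cj_sub, cj_mul, d1.tor h t, d2.tor h t, c1, smul_mul_assoc, mul_smul_comm, smul_smul,
      smul_sub]
    congr 2
    simp
  have m5 : (1 - n * δ - δ * n) * (n' - n * (δ * n' * δ) * n) * (1 - n * δ - δ * n) = 0 := by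
    rw [mul_sub _ n', sub_mul _ _ (1 - n * δ - δ * n), y0]
    simp only [mul_sub, sub_mul, mul_one, one_mul, mul_assoc, hδ.aa, hδ.abaw, mul_zero, sub_self,
      zero_mul]
  suffices n' - n * (δ * n' * δ) * n = 0 by rwa [sub_eq_zero.1 this]
  generalize n' - n * (δ * n' * δ) * n = m at *
  have m1' : ∀ w, n * (m * w) = 0 := fun w => by rw [← mul_assoc, m1, zero_mul]
  have m2' : ∀ w, m * (n * w) = 0 := fun w => by rw [← mul_assoc, m2, zero_mul]
  have m3' : ∀ w, δ * (m * (δ * w)) = 0 := fun w => by rw [← mul_assoc, ← mul_assoc, m3, zero_mul]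
  have m6 := hN' _ (aba_mem_lie hk2 hk3 m0 hδ.r).1
    ⟨by simp only [mul_assoc, m2', m3', mul_zero], by simp only [mul_assoc, m1', m3', mul_zero]⟩
  have m7 := hN _ _ h hq _ (comm_mem_Qe m0 hδ.r m6 m3) (h.cm_of_tor ht (cj_eq_iff.1 (by
    simp only [cj_sub, cj_mul, m4, c1, smul_mul_assoc, mul_smul_comm, smul_smul, Units.mul_inv,
      Units.inv_mul, one_smul])).symm)
  rw [sub_eq_zero] at m7
  have m8 : m * (δ * n) = 0 := by rw [← mul_assoc, m7, mul_assoc, m2, mul_zero]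
  have m9 : n * (δ * m) = 0 := by rw [← m7, m1']
  simpa only [mul_sub, sub_mul, mul_one, one_mul, mul_assoc, m1, m2', m8, m9, mul_zero,
    sub_zero] using m5

end Fin

end CL.QFix
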