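import Mathlib
import Cfsg.Agent.SIG.QFixF

/-! Quadratic elements and coprime automorphisms, part G: a `p`-subgroup normalized by a coprime
group `R` and its fixed points contains no quadratic element. -/

set_option autoImplicit false

namespace CL.QFix

open CL.Quad Cfsg LinearMap Module Polynomial Subgroup
open scoped MatrixGroups commutatorElement

variable {k : Type*} [Field k] {M : Type*} [AddCommGroup M] [Module k M]
variable {G A R : Subgroup (M →ₗ[k] M)ˣ} {α β ξ : M →ₗ[k] M}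

variable (p : ℕ) [Fact p.Prime] [Finite k] [CharP k p] [Finite M]
  (hk2 : (2 : k) ≠ 0) (hk3 : Nat.card k ≠ 3)
include p hk2 hk3

/-- the case of a single component -/
theorem single (hJ : JM G) (hR : R ≤ normalizer (G : Set (M →ₗ[k] M)ˣ))
    (hcop : (Nat.card R).Coprime (Nat.card G)) (hp : (Nat.card R).Coprime p) (hAG : A ≤ G)
    (hab : ∀ x ∈ A, ∀ y ∈ A, x * y = y * x) (hRA : R ≤ normalizer (A : Set (M →ₗ[k] M)ˣ))
    (hCA : G ⊓ centralizer (R : Set (M →ₗ[k] M)ˣ) ≤ normalizer (A : Set (M →ₗ[k] M)ˣ))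
    (cent : ∀ T ∈ G ⊓ centralizer (R : Set (M →ₗ[k] M)ˣ), T ^ Nat.card kˣ = 1 →
      (∃ a ∈ Qe G, cj T a ≠ a) → ∀ ξ ∈ Qe A, cj T ξ = ξ → ξ = 0)
    {B : Subgroup (M →ₗ[k] M)ˣ} (hB : B ∈ quadraticRootSubgroups G) (hG : gen (comp G B) = G)
    (h : Tri G α β) (hq : α ∈ Qd G) (hfix : ∀ ρ ∈ R, cj ρ α = α ∧ cj ρ β = β) (hξ : ξ ∈ Qe A) :
    ξ * α = α * ξ := by
  have := finite_units (k := k) (M := M)
  have : Module.Finite k M := Module.Finite.of_finite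
  have qn : ∀ {a : M →ₗ[k] M}, a ∈ Qe G → (∀ ρ ∈ R, cj ρ a = a) →
      a ∈ Qe (normalizer (A : Set (M →ₗ[k] M)ˣ)) := fun ha hf =>
    ⟨ha.1, fun c => ⟨un _ (Qe.smul ha c).1, hCA ⟨Qe.un_mem (Qe.smul ha c), fun ρ hρ => by
      rw [← mul_inv_eq_iff_eq_mul, Units.ext_iff, cj_val, un_val, cj_add, cj_one, cj_smul,
        hf ρ hρ]⟩, rfl⟩⟩
  have hα := qn h.l fun ρ hρ => (hfix ρ hρ).1
  have hβ := qn h.r fun ρ hρ => (hfix ρ hρ).2
  by_contra h0
  rw [← sub_eq_zero] at h0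
  have n1 := comm_mem_A hab hk2 hk3 hAG hq hα hξ
  have n2 := dg1_comm hab hk2 hk3 hAG h hq hα hβ hξ
  generalize ξ * α - α * ξ = n at *
  have hcm : ∀ ρ ∈ R, Cm (ρ : M →ₗ[k] M) α β := fun ρ hρ =>
    Cm.of_comm (cj_eq_iff.1 (hfix ρ hρ).1) (cj_eq_iff.1 (hfix ρ hρ).2)
  obtain ⟨t, ht⟩ := exists_unit hk2 hk3
  have htC : ∀ s, h.tor s ∈ G ⊓ centralizer (R : Set (M →ₗ[k] M)ˣ) := fun s =>
    ⟨h.tor_mem s, h.hom_cent hfix _⟩
  by_cases hN : NC G α β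
  · have hN' : ∀ γ δ, Tri G γ δ → γ ∈ Qd G → NC G γ δ := fun γ δ h1 h2 =>
      hN.all hk2 hk3 hJ.ho hB hG h hq h1 h2
    have n3 := qd_of_NC hk2 hk3 hJ.ho hN' (Qe.mono hAG n1) h0
    obtain ⟨δ, a, b, h1, -, h3, h4, h5, h6⟩ := exists_fixed_tri_of_pres p hk2 hk3 hJ n3 R hR hcop hp
      fun ρ hρ => by
        have e1 := Qe_cj (hRA hρ) n1
        have e2 := n2.cj (hcm ρ hρ)
        have e3 := mem_lie_of_NC hk2 hk3 p hJ hN' h hq n3 (Qe.mono hAG e1) n2 e2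
          (Dg1.mul hab hk2 hk3 hAG h hq hβ n1 e1 n2 e2) (Dg1.mul hab hk2 hk3 hAG h hq hβ e1 n1 e2 n2)
        have e4 : cj ρ n ≠ 0 := fun e => h0 (cj_eq_zero.1 e)
        exact ⟨lie.range_eq n3 e3 e4, lie.ker_eq n3 e3 e4⟩
    have b0 := h5.ne_zero h3
    exact (h1.opp.symm.of_lie (h1.qd n3) n3 h4 (self_mem_lie n3.1) b0 h0).ne_zero b0
      (axa hab hk2 hk3 hAG (lie.qd (h1.qd n3) h4 b0) (qn h5.r fun ρ hρ => (h6 ρ hρ).2) n1)
  simp only [NC, not_forall] at hN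
  obtain ⟨x, hx, hc, x0⟩ := hN
  have hx' : x ∈ Qe (G ⊓ centralizer {h.tor t}) := Qe_cent.2 ⟨hx, cj_of_comm (hc.tor h t).symm⟩
  obtain ⟨γ, hγ⟩ := exists_Qd hx' x0
  obtain ⟨T, hT, hT1, ⟨a, ha, ha'⟩, -⟩ := core_tor p hk2 hk3
    (hJ.cent p hk2 hk3 (le_normalizer (h.tor_mem t)) (h.tor_pow t)) (rootGrp_mem_roots hγ) R
    (fun ρ hρ => norm_inf_cent (hR hρ) ((htC t).2 ρ hρ))
    (hcop.coprime_dvd_right (card_dvd_of_le inf_le_left)) hp
  have hTc : Cm (T : M →ₗ[k] M) α β := h.cm_of_tor ht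
    (congrArg Units.val (mem_centralizer_singleton_iff.1 hT.1.2))
  obtain ⟨μ, m, m1, m2, m3, m4⟩ := exists_eig_dg1 hab hk2 hk3 hAG h hq hβ n1 n2 h0
    (hCA ⟨hT.1.1, hT.2⟩) hTc hT1
  have hco : Commute (h.tor μ⁻¹) T := Units.ext (hTc.tor h _).symm
  refine m3 (cent (h.tor μ⁻¹ * T) (mul_mem (htC _) ⟨hT.1.1, hT.2⟩)
    (by rw [hco.mul_pow, h.tor_pow, hT1, mul_one]) ⟨a, Qe.mono inf_le_left ha, fun e => ha' ?_⟩ m m1
    (by rw [← cj_cj, m4, cj_smul, m2.tor h, smul_smul, Units.mul_inv, one_smul]))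
  have e1 : Cm a α β := h.cm_of_tor ht (cj_eq_iff.1 (Qe_cent.1 ha).2).symm
  rw [hco.eq, ← cj_cj, cj_of_comm (e1.tor h _).symm] at e
  exact e

theorem abel_aux (n : ℕ) : ∀ G R A : Subgroup (M →ₗ[k] M)ˣ, Nat.card G = n → JM G →
    R ≤ normalizer (G : Set (M →ₗ[k] M)ˣ) → (Nat.card R).Coprime (Nat.card G) →
    (Nat.card R).Coprime p → A ≤ G → (∀ x ∈ A, ∀ y ∈ A, x * y = y * x) →
    R ≤ normalizer (A : Set (M →ₗ[k] M)ˣ) →
    G ⊓ centralizer (R : Set (M →ₗ[k] M)ˣ) ≤ normalizer (A : Set (M →ₗ[k] M)ˣ) →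
    ∀ ξ ∈ Qe A, ξ = 0 := by
  have := finite_units (k := k) (M := M)
  have : Module.Finite k M := Module.Finite.of_finite
  induction n using Nat.strong_induction_on with
  | _ n ih =>
  intro G R A hn hJ hR hcop hp hAG hab hRA hCA ξ hξ
  have cent : ∀ T ∈ G ⊓ centralizer (R : Set (M →ₗ[k] M)ˣ), T ^ Nat.card kˣ = 1 →
      (∃ a ∈ Qe G, cj T a ≠ a) → ∀ ξ ∈ Qe A, cj T ξ = ξ → ξ = 0 := by
    rintro T hT hT1 ⟨a, ha, ha'⟩ ξ hξ e
    have hlt : G ⊓ centralizer {T} < G :=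
      lt_of_le_of_ne inf_le_left fun e => ha' (Qe_cent.1 (e.symm ▸ ha : a ∈ Qe (G ⊓ _))).2
    exact ih _ (hn ▸ CL.card_lt_of_lt hlt) _ R (A ⊓ centralizer {T}) rfl
      (hJ.cent p hk2 hk3 (le_normalizer hT.1) hT1) (fun ρ hρ => norm_inf_cent (hR hρ) (hT.2 ρ hρ))
      (hcop.coprime_dvd_right (card_dvd_of_le inf_le_left)) hp (inf_le_inf_right _ hAG)
      (fun x hx y hy => hab x hx.1 y hy.1) (fun ρ hρ => norm_inf_cent (hRA hρ) (hT.2 ρ hρ))
      (fun c hc => norm_inf_cent (hCA ⟨hc.1.1, hc.2⟩) (mem_centralizer_singleton_iff.1 hc.1.2))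
      ξ (Qe_cent.2 ⟨hξ, e⟩)
  by_contra h0
  obtain ⟨γ, hγ⟩ := exists_Qd (Qe.mono hAG hξ) h0
  have hB := rootGrp_mem_roots hγ
  generalize rootGrp G γ = B at hB
  by_cases hG : gen (comp G B) = G
  · obtain ⟨a, b, ha, h, hfix⟩ := exists_fixed_tri p hk2 hk3 hJ hB R hR (by rwa [hG]) hcop hp
    rw [hG] at h
    obtain ⟨t, ht⟩ := exists_unit hk2 hk3
    refine h0 (cent (h.tor t) ⟨h.tor_mem t, h.hom_cent hfix _⟩ (h.tor_pow t) ⟨a, h.l, fun e => ?_⟩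
      ξ hξ (cj_of_comm (Cm.tor h (Cm.of_comm
        (single p hk2 hk3 hJ hR hcop hp hAG hab hRA hCA cent hB hG h ha hfix hξ)
        (single p hk2 hk3 hJ hR hcop hp hAG hab hRA hCA cent hB hG h.symm (h.qd ha)
          (fun ρ hρ => (hfix ρ hρ).symm) hξ)) t).symm))
    rw [h.cj_tor_a, ← sub_eq_zero] at e
    nth_rewrite 2 [← one_smul k a] at e
    rw [← sub_smul, smul_eq_zero, sub_eq_zero] at e
    exact e.elim ht ha.2.1
  have hJK := hJ.comp hk2 hk3 hB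
  obtain ⟨φ, φ1, φ2, φ3⟩ := exists_norm R _ _ (comm_of_not_norm hk2 hk3 hJ.ho hB hR)
  obtain ⟨T, hT, hT1, hT2, hT3⟩ := core_tor p hk2 hk3 hJ hB R hR hcop hp
  have hproj := fun ξ (hξ : ξ ∈ Qe G) => exists_proj hk2 hk3 hJ.ho hB hξ
  have hKG : gen (comp G B) ≤ G := gen_comp_le
  generalize gen (comp G B) = K at *
  let S : Set (M →ₗ[k] M) := {a | a ∈ Qe K ∧ ∃ ξ ∈ Qe A, ∀ g ∈ K, cj g (ξ - a) = ξ - a}
  have hS : ∀ g ∈ normalizer (A : Set (M →ₗ[k] M)ˣ), g ∈ normalizer (K : Set (M →ₗ[k] M)ˣ) →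
      ∀ a ∈ S, cj g a ∈ S := by
    rintro g h1 h2 a ⟨ha, η, hη, e⟩
    refine ⟨Qe_cj h2 ha, _, Qe_cj h1 hη, fun x hx => ?_⟩
    have := e _ ((mem_normalizer_iff''.1 h2 x).1 hx)
    rw [← cj_sub]
    conv_rhs => rw [← this, cj_cj, ← mul_assoc, ← mul_assoc, mul_inv_cancel, one_mul, ← cj_cj]
  have hS0 : ∀ a ∈ S, a = 0 := by
    intro a ha
    refine ih _ (hn ▸ CL.card_lt_of_lt (lt_of_le_of_ne hKG hG)) K
      (R ⊓ normalizer (K : Set (M →ₗ[k] M)ˣ)) (cl S) rfl hJK inf_le_right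
      ((hcop.coprime_dvd_left (card_dvd_of_le inf_le_left)).coprime_dvd_right (card_dvd_of_le hKG))
      (hp.coprime_dvd_left (card_dvd_of_le inf_le_left)) (cl_le fun _ h => h.1) (cl_comm ?_)
      (cl_norm fun g hg => hS g (hRA hg.1) hg.2) (cl_norm fun c hc a ha => ?_) a
      (Qe_cl ha.1 fun c => ?_)
    · rintro a ⟨ha, x, hx, e⟩ b ⟨hb, y, hy, e'⟩
      have c0 : ∀ {z w : M →ₗ[k] M}, (∀ g ∈ K, cj g z = z) → w ∈ Qe K → w * z = z * w := by
        intro z w hz hw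
        have := cj_eq_iff.1 (hz _ (Qe.un_mem hw))
        rwa [un_val, add_mul, mul_add, one_mul, mul_one, add_right_inj] at this
      have c1 : a * b - b * a = (y - b) * (x - a) - (x - a) * (y - b) := by
        have h1 := c0 e hb
        have h2 := c0 e' ha
        have h3 := Qe_comm hab hx hy
        have : a * b - b * a = (y - b) * (x - a) - (x - a) * (y - b) + (x * y - y * x)
          + (b * (x - a) - (x - a) * b) - (a * (y - b) - (y - b) * a) := by noncomm_ring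
        rw [this, h1, h2, h3]; simp
      have c2 : ∀ g ∈ K, cj g (a * b - b * a) = a * b - b * a := fun g hg => by
        rw [c1, cj_sub, cj_mul, cj_mul, e g hg, e' g hg]
      have two : ∀ x : M →ₗ[k] M, x + x = 0 → x = 0 := fun x hx =>
        (smul_eq_zero.1 (by rw [two_smul, hx] : (2 : k) • x = 0)).resolve_left hk2
      have c3 : a * b * a = 0 := two _ (by
        have := c0 c2 ha
        rw [mul_sub, sub_mul, ← mul_assoc, ← mul_assoc, ha.1, mul_assoc b, ha.1] at this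
        simpa [neg_eq_iff_add_eq_zero] using this)
      have c4 : b * a * b = 0 := two _ (by
        have := (c0 c2 hb).symm
        rw [mul_sub, sub_mul, ← mul_assoc, ← mul_assoc, hb.1, mul_assoc a, hb.1] at this
        simpa [neg_eq_iff_add_eq_zero] using this)
      obtain ⟨ε, hε⟩ := hJK _ (comm_mem_Qe ha hb c3 c4)
      rw [← sub_eq_zero, ← hε.aba, ← c0 c2 hε.r, mul_assoc, hε.l.1, mul_zero]
    · have h1 := φ2 ⟨c, hc⟩
      have h2 : φ ⟨c, hc⟩ = c * (c⁻¹ * φ ⟨c, hc⟩) := by simp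
      have := hS _ (hCA ⟨φ3 G (fun ρ hρ x hx => (mem_normalizer_iff.1 (hR hρ) x).1 (hKG hx)) _,
        φ1 ⟨c, hc⟩⟩) (h2 ▸ mul_mem (le_normalizer hc.1) (centralizer_le_normalizer _ h1)) a ha
      rwa [h2, ← cj_cj, cj_of_mem_cent h1 ha.1] at this
    · obtain ⟨h1, η, hη, e⟩ := ha
      exact ⟨Qe.smul h1 c, _, Qe.smul hη c, fun g hg => by rw [← smul_sub, cj_smul, e g hg]⟩
  have hK : ∀ η ∈ Qe A, ∀ g ∈ K, cj g η = η := by
    intro η hη
    obtain ⟨a, ha, e⟩ := hproj η (Qe.mono hAG hη)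
    rwa [hS0 a ⟨ha.1, η, hη, e⟩, sub_zero] at e
  refine h0 (cent T hT hT1 hT2 ξ hξ ?_)
  have := hT3 (centralizer {un ξ hξ.1}) fun ρ hρ x hx => by
    have h1 := hK _ (Qe_cj (inv_mem (hRA hρ)) hξ) x hx
    rw [mem_centralizer_singleton_iff, ← mul_inv_eq_iff_eq_mul, Units.ext_iff, cj_val, un_val,
      cj_add, cj_one, ← cj_cj, ← cj_cj, h1, cj_cj_inv]
  rw [mem_centralizer_singleton_iff, ← mul_inv_eq_iff_eq_mul, Units.ext_iff, cj_val, un_val,
    cj_add, cj_one, add_right_inj] at this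
  exact this

/-- a `p`-subgroup normalized by `R` and `C_G(R)` has no quadratic elements -/
theorem no_quad (hJ : JM G) (hR : R ≤ normalizer (G : Set (M →ₗ[k] M)ˣ))
    (hcop : (Nat.card R).Coprime (Nat.card G)) (hp : (Nat.card R).Coprime p)
    {P : Subgroup (M →ₗ[k] M)ˣ} (hPG : P ≤ G) (hP : IsPGroup p P)
    (hRP : R ≤ normalizer (P : Set (M →ₗ[k] M)ˣ))
    (hCP : G ⊓ centralizer (R : Set (M →ₗ[k] M)ˣ) ≤ normalizer (P : Set (M →ₗ[k] M)ˣ)) :
    ∀ ξ ∈ Qe P, ξ = 0 := by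
  have := finite_units (k := k) (M := M)
  have : Module.Finite k M := Module.Finite.of_finite
  induction hn : Nat.card P using Nat.strong_induction_on generalizing P with
  | _ n ih =>
  intro ξ hξ
  by_contra h0
  have hne : P ≠ ⊥ := by
    rintro rfl
    exact h0 (by rw [← un_sub_one ξ hξ.1, mem_bot.1 (Qe.un_mem hξ), Units.val_one, sub_self])
  have hN : ∀ g ∈ normalizer (P : Set (M →ₗ[k] M)ˣ),
      g ∈ normalizer ((⁅P, P⁆ : Subgroup (M →ₗ[k] M)ˣ) : Set (M →ₗ[k] M)ˣ) := fun g hg => by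
    rw [← CL.RankOne.conjBy_eq_self_iff] at hg ⊢
    rw [CL.RankOne.conjBy_commutator, hg]
  have hle : ⁅P, P⁆ ≤ P := commutator_le_self P
  have hlt : ⁅P, P⁆ < P := by
    have : Group.IsNilpotent P := hP.isNilpotent
    have : Nontrivial P := (nontrivial_iff_ne_bot _).2 hne
    refine lt_of_le_of_ne hle fun e => (IsSolvable.commutator_lt_top_of_nontrivial P).ne ?_
    apply map_injective P.subtype_injective
    rw [commutator_def, map_commutator, ← MonoidHom.range_eq_map, range_subtype, e]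
  have h1 := ih _ (hn ▸ CL.card_lt_of_lt hlt) (hle.trans hPG) (hP.to_le hle)
    (fun g hg => hN g (hRP hg)) (fun g hg => hN g (hCP hg)) rfl
  obtain ⟨γ, hγ⟩ := exists_Qd hξ h0
  refine hγ.2.1 (abel_aux p hk2 hk3 _ G R (cl (Qd P ∪ {0})) rfl hJ hR hcop hp
    ((cl_le ?_).trans hPG) (cl_comm ?_) (hRP.trans (cl_norm ?_)) (hCP.trans (cl_norm ?_)) γ
    (Qe_cl hγ.1 fun c => ?_))
  · rintro a (ha | rfl)
    exacts [ha.1, Qe_zero]
  · rintro a (ha | rfl) b (hb | rfl)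
    · obtain ⟨e1, e2⟩ := not_opp hk2 hk3 ha hb fun ho => by
        obtain ⟨b', hb', e1, e2⟩ := ho.partner hk2 hk3 ha hb (self_mem_lie ha.1) ha.2.1
        have h : Tri P a b' := ⟨ha.1, hb'.1, e1, e2⟩
        obtain ⟨t, ht⟩ := exists_unit hk2 hk3
        obtain ⟨m, hm⟩ := hP ⟨_, h.tor_mem t⟩
        have e3 : h.tor t = 1 := by
          rw [← orderOf_eq_one_iff]
          exact Nat.eq_one_of_dvd_coprimes ((card_units_coprime (k := k) p).pow_right m)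
            (orderOf_dvd_of_pow_eq_one (h.tor_pow t))
            (orderOf_dvd_of_pow_eq_one (congrArg Subtype.val hm))
        have e := h.cj_tor_a t
        rw [e3, one_cj, eq_comm, ← sub_eq_zero] at e
        nth_rewrite 2 [← one_smul k a] at e
        rw [← sub_smul, smul_eq_zero, sub_eq_zero] at e
        exact e.elim ht ha.2.1
      refine sub_eq_zero.1 (h1 _ ⟨(comm_mem_Qe ha.1 hb.1 e1 e2).1, fun c => ?_⟩)
      have hc := Qe.smul ha.1 c
      refine ⟨_, commutator_mem_commutator (Qe.un_mem hc) (Qe.un_mem hb.1), ?_⟩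
      rw [← sub_eq_iff_eq_add', commutator_val hc.1 hb.1.1 (by simp [e1]) (by simp [e2])
        (un_sub_one _ _) (un_sub_one _ _), smul_mul_assoc, mul_smul_comm, smul_sub]
    all_goals simp
  · rintro g hg a (ha | rfl)
    exacts [Or.inl (Qd_cj hg ha), Or.inr (cj_zero _)]
  · rintro g hg a (ha | rfl)
    exacts [Or.inl (Qd_cj hg ha), Or.inr (cj_zero _)]
  · by_cases hc : c • γ = 0
    exacts [Or.inr hc, Or.inl (lie.qd hγ (Submodule.smul_mem _ c (self_mem_lie hγ.1)) hc)]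

end CL.QFix
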