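import Mathlib
import Cfsg.Agent.SIG.QFixG
import Cfsg.Agent.FGS.HHSec
import Cfsg.Agent.TECH.KInfCtl
import Cfsg.Agent.TECH.InvolveLift
import Cfsg.Agent.S1327
import Cfsg.Agent.SIG.PCompIn

/-! Quadratic elements and coprime automorphisms, part H: quadratic action on chief factors. -/

set_option autoImplicit false

namespace CL.QFix

open CL.Quad Cfsg LinearMap Module Subgroup
open scoped MatrixGroups commutatorElement

theorem map_inf_cent {Γ H : Type*} [Group Γ] [Group H] [Finite Γ] (f : Γ →* H) {G R : Subgroup Γ}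
    (hR : R ≤ normalizer (G : Set Γ)) (hcop : (Nat.card R).Coprime (Nat.card G)) :
    G.map f ⊓ centralizer ((R.map f : Subgroup H) : Set H) ≤ (G ⊓ centralizer (R : Set Γ)).map f := by
  rintro _ ⟨⟨g, hg, rfl⟩, hc⟩
  have hcop' : (Nat.card R).Coprime (Nat.card (G ⊓ f.ker : Subgroup Γ)) :=
    hcop.coprime_dvd_right (card_dvd_of_le inf_le_left)
  obtain ⟨s, hs, h⟩ := CL.coprime_coset_centralizer R (G ⊓ f.ker)
    (le_normalizer_of_conj fun a ha x hx => ⟨(mem_normalizer_iff.1 (hR ha) x).1 hx.1,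
      f.normal_ker.conj_mem x hx.2 a⟩) hcop' (CL.isSolvable_or_of_coprime _ _ hcop') g
    fun a ha => ⟨by
      rw [mul_assoc, mul_assoc, ← mul_assoc a]
      exact G.mul_mem (G.inv_mem hg) ((mem_normalizer_iff.1 (hR ha) g).1 hg), by
      have := hc (f a) ⟨a, ha, rfl⟩
      show f _ = 1
      rw [map_mul, map_mul, map_mul, mul_assoc _ (f a), this, map_inv, map_inv]; group⟩
  exact ⟨g * s, ⟨G.mul_mem hg hs.1, h⟩, by rw [map_mul, show f s = 1 from hs.2, mul_one]⟩

theorem map_le_normalizer {Γ H : Type*} [Group Γ] [Group H] (f : Γ →* H) {G R : Subgroup Γ}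
    (hR : R ≤ normalizer (G : Set Γ)) : R.map f ≤ normalizer ((G.map f : Subgroup H) : Set H) :=
  le_normalizer_of_conj (by
    rintro _ ⟨a, ha, rfl⟩ _ ⟨x, hx, rfl⟩
    exact ⟨_, (mem_normalizer_iff.1 (hR ha) x).1 hx, by simp⟩)

section Rep

variable {p : ℕ} [hp : Fact p.Prime] {M : Type*} [AddCommGroup M] [Module (ZMod p) M]

theorem Qe_of_sq {P : Subgroup (M →ₗ[ZMod p] M)ˣ} {g : (M →ₗ[ZMod p] M)ˣ} (hg : g ∈ P)
    (h : ((g : M →ₗ[ZMod p] M) - 1) * ((g : M →ₗ[ZMod p] M) - 1) = 0) :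
    (g : M →ₗ[ZMod p] M) - 1 ∈ Qe P := by
  refine ⟨h, fun c => ⟨g ^ c.val, P.pow_mem hg _, ?_⟩⟩
  conv_rhs => rw [← ZMod.natCast_zmod_val c, Nat.cast_smul_eq_nsmul]
  generalize c.val = n
  induction n with
  | zero => simp
  | succ n ih =>
    rw [pow_succ, Units.val_mul, ih, succ_nsmul]
    generalize (g : M →ₗ[ZMod p] M) = x at *
    have : (1 + n • (x - 1)) * x = 1 + (n • (x - 1) + (x - 1)) + n • ((x - 1) * (x - 1)) := by
      rw [add_mul, mul_sub _ x, smul_mul_assoc, mul_one, one_mul, smul_sub n (_ * _)]; abel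
    rw [this, h, smul_zero, add_zero]

theorem dvd_card_of_Qe {P : Subgroup (M →ₗ[ZMod p] M)ˣ} {α : M →ₗ[ZMod p] M} (h : α ∈ Qe P)
    (h0 : α ≠ 0) : p ∣ Nat.card P := by
  have h1 : ∀ n : ℕ, ((un α h.1 ^ n : (M →ₗ[ZMod p] M)ˣ) : M →ₗ[ZMod p] M) = 1 + n • α := by
    intro n
    induction n with
    | zero => simp
    | succ n ih =>
      rw [pow_succ, Units.val_mul, ih, un_val, mul_add, mul_one, add_mul, one_mul, smul_mul_assoc,
        h.1, smul_zero, add_zero, succ_nsmul, add_assoc]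
  have h2 : orderOf (⟨un α h.1, Qe.un_mem h⟩ : P) = p := orderOf_eq_prime (Subtype.ext (Units.ext (by
    rw [SubmonoidClass.mk_pow, h1, ← Nat.cast_smul_eq_nsmul (ZMod p), ZMod.natCast_self, zero_smul,
      add_zero]; rfl))) fun e => h0 (by
        rw [← un_sub_one α h.1, show un α h.1 = 1 from congrArg Subtype.val e, Units.val_one,
          sub_self])
  exact h2.symm.dvd.trans (orderOf_dvd_natCard _)

theorem two_ne (h5 : 5 ≤ p) : (2 : ZMod p) ≠ 0 := fun e => by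
  have : ((2 : ℕ) : ZMod p) = 0 := by exact_mod_cast e
  have := Nat.le_of_dvd two_pos ((ZMod.natCast_eq_zero_iff 2 p).1 this)
  omega

theorem card_ne_three (h5 : 5 ≤ p) : Nat.card (ZMod p) ≠ 3 := by rw [Nat.card_zmod]; omega

variable {Γ : Type*} [Group Γ] [Finite Γ] [Finite M] (h5 : 5 ≤ p) (ρ : Γ →* (M →ₗ[ZMod p] M)ˣ)
  (hirr : IsIrreducibleFor ρ.range) {G R : Subgroup Γ} [hG : G.Normal]
  (hcop : (Nat.card R).Coprime (Nat.card G))
include h5 hirr

theorem jm_map : JM (G.map ρ) := by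
  have : Module.Finite (ZMod p) M := Module.Finite.of_finite
  refine jm_of_NU p (two_ne h5) (card_ne_three h5) ((NU_of_irreducible hirr).of_normal
    (map_le_range _ _) ?_)
  rintro _ ⟨g, rfl⟩ _ ⟨x, hx, rfl⟩
  exact ⟨_, hG.conj_mem x hx g, by simp⟩

include hcop

theorem rep_no_quad {P : Subgroup Γ} (hPG : P ≤ G) (hP : IsPGroup p P)
    (hRP : R ≤ normalizer (P : Set Γ)) (hCP : G ⊓ centralizer (R : Set Γ) ≤ normalizer (P : Set Γ))
    {g : Γ} (hg : g ∈ P) (h : ((ρ g : M →ₗ[ZMod p] M) - 1) * ((ρ g : M →ₗ[ZMod p] M) - 1) = 0) :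
    ρ g = 1 := by
  by_contra h1
  have h2 := Qe_of_sq (mem_map_of_mem ρ hg) h
  have h0 : (ρ g : M →ₗ[ZMod p] M) - 1 ≠ 0 := fun e => h1 (eq_one_iff_sub.2 e)
  have hc : (Nat.card (R.map ρ)).Coprime (Nat.card (G.map ρ)) :=
    (hcop.coprime_dvd_left (card_map_dvd _ _)).coprime_dvd_right (card_map_dvd _ _)
  exact h0 (no_quad p (two_ne h5) (card_ne_three h5) (jm_map h5 ρ hirr)
    (map_le_normalizer ρ le_normalizer_of_normal) hc
    (hc.coprime_dvd_right (dvd_card_of_Qe (Qe.mono (map_mono hPG) h2) h0)) (map_mono hPG) (hP.map ρ)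
    (map_le_normalizer ρ hRP) ((map_inf_cent ρ le_normalizer_of_normal hcop).trans
      (map_le_normalizer ρ hCP)) _ h2)

theorem rep_involves {F : Type*} [Field F] [Fintype F] (hF : Fintype.card F = p) {g : Γ}
    (hg : g ∈ G) (h : ((ρ g : M →ₗ[ZMod p] M) - 1) * ((ρ g : M →ₗ[ZMod p] M) - 1) = 0)
    (h1 : ρ g ≠ 1) :
    Involves (Matrix.ProjectiveSpecialLinearGroup (Fin 2) F) ↥(G ⊓ centralizer (R : Set Γ)) := by
  have : Module.Finite (ZMod p) M := Module.Finite.of_finite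
  have h2 := Qe_of_sq (mem_map_of_mem ρ hg) h
  have h0 : (ρ g : M →ₗ[ZMod p] M) - 1 ≠ 0 := fun e => h1 (eq_one_iff_sub.2 e)
  have hc : (Nat.card (R.map ρ)).Coprime (Nat.card (G.map ρ)) :=
    (hcop.coprime_dvd_left (card_map_dvd _ _)).coprime_dvd_right (card_map_dvd _ _)
  obtain ⟨γ, hγ⟩ := exists_Qd h2 h0
  obtain ⟨a, b, t, a0, ψ, h3, h4, -⟩ := core p (two_ne h5) (card_ne_three h5) (jm_map h5 ρ hirr)
    (rootGrp_mem_roots hγ) _ (map_le_normalizer ρ le_normalizer_of_normal) hc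
    (hc.coprime_dvd_right (dvd_card_of_Qe h2 h0))
  let e : F ≃+* ZMod p := FiniteField.ringEquivOfCardEq (by rw [hF, ZMod.card])
  let φ : SL(2, F) →* SL(2, ZMod p) := Matrix.SpecialLinearGroup.map e.toRingHom
  have hφ : Function.Injective φ := fun x y hxy => Subtype.ext (Matrix.ext fun i j =>
    e.injective (congrArg (fun z : SL(2, ZMod p) => z.1 i j) hxy))
  refine CL.Sec.involves_trans (CL.MSS.involves_of_ker_le ((ψ.comp φ).codRestrict _ fun x =>
    map_inf_cent ρ le_normalizer_of_normal hcop (h3 _)) (QuotientGroup.mk' _)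
    (QuotientGroup.mk'_surjective _) fun x hx => ?_) (CL.Sec.involves_map _ ρ)
  rw [QuotientGroup.ker_mk', mem_center_iff]
  intro y
  have h5 := h4 (φ x)
  rw [show ψ (φ x) = 1 from congrArg Subtype.val hx, mul_one, inv_mem_iff] at h5
  refine hφ (t.injective a0 ?_)
  rw [map_mul, map_mul, map_mul, map_mul]
  exact h5 _ (t.hom_mem _)

end Rep

section Chief

universe u

variable {p : ℕ} [hp : Fact p.Prime] {Γ : Type u} [Group Γ] [Finite Γ] {U V : Subgroup Γ}

theorem exists_rep (h : IsChiefFactor U V) (hU : IsPGroup p U) :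
    ∃ (M : Type u) (_ : AddCommGroup M) (_ : Module (ZMod p) M) (_ : Finite M)
      (ρ : Γ →* (M →ₗ[ZMod p] M)ˣ), IsIrreducibleFor ρ.range ∧
      (∀ g, ρ g = 1 → ⁅U, zpowers g⁆ ≤ V) ∧ ∀ g, ⁅⁅U, zpowers g⁆, zpowers g⁆ ≤ V →
        ((ρ g : M →ₗ[ZMod p] M) - 1) * ((ρ g : M →ₗ[ZMod p] M) - 1) = 0 := by
  have := h.2.1
  have := h.2.2.1
  have hs : HH.IsSec p U V := ⟨CF.chief_commutator_le h U hU, fun _ => CF.chief_pow_mem h hU⟩
  have hm := CF.chief_isMinNormal h
  refine ⟨Abelem.V hs.elemAb, inferInstance, inferInstance, inferInstance,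
    MonoidHom.toHomUnits hs.rep0, ⟨?_, fun W hW => ?_⟩, fun g hg => ?_, fun g hg => ?_⟩
  · have := (Abelem.nontrivial_V_iff (hE := hs.elemAb)).2 hm.ne_bot
    exact exists_ne 0
  · have : (Abelem.toSubgroup W).Normal := ⟨by
      rintro _ ⟨v, hv, rfl⟩ g
      obtain ⟨g, rfl⟩ := QuotientGroup.mk_surjective g
      exact ⟨_, hW _ ⟨g, rfl⟩ v hv, rfl⟩⟩
    by_cases h0 : Abelem.toSubgroup W = ⊥
    · refine Or.inl (eq_bot_iff.2 fun v hv => ?_)
      have : v.val ∈ Abelem.toSubgroup W := ⟨v, hv, rfl⟩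
      rw [h0, mem_bot] at this
      exact Abelem.V.val_eq_one_iff.1 this
    · refine Or.inr (eq_top_iff.2 fun v _ => ?_)
      obtain ⟨w, hw, e⟩ := (hm.eq_of_le (Abelem.toSubgroup_le W) h0).ge v.mem
      exact Abelem.V.val_inj.1 e ▸ hw
  · refine (MSS.le_secC_iff.1 (zpowers_le.2 ?_)).2
    rw [← hs.ker_rep0]
    exact congrArg Units.val hg
  · refine LinearMap.ext fun v => ?_
    obtain ⟨e, he, rfl⟩ := hs.exists_vec v
    have : ∀ x, MonoidHom.toHomUnits hs.rep0 x = (hs.rep0 x : Module.End _ _) := fun _ => rfl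
    rw [this, Module.End.mul_apply, hs.rep0_sub_one_vec, hs.rep0_sub_one_vec, LinearMap.zero_apply,
      hs.vec_eq_zero_iff]
    rw [commutator_comm, commutator_comm U] at hg
    exact hg (commutator_mem_commutator (mem_zpowers g) (commutator_mem_commutator (mem_zpowers g) he))

variable (h5 : 5 ≤ p) {G R : Subgroup Γ} [G.Normal] (hcop : (Nat.card R).Coprime (Nat.card G))
  (h : IsChiefFactor U V) (hU : IsPGroup p U)
include h5 hcop h hU

theorem chief_no_quad {P : Subgroup Γ} (hPG : P ≤ G) (hP : IsPGroup p P)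
    (hRP : R ≤ normalizer (P : Set Γ)) (hCP : G ⊓ centralizer (R : Set Γ) ≤ normalizer (P : Set Γ))
    {g : Γ} (hg : g ∈ P) (hq : ⁅⁅U, zpowers g⁆, zpowers g⁆ ≤ V) : ⁅U, zpowers g⁆ ≤ V := by
  obtain ⟨M, _, _, _, ρ, h1, h2, h3⟩ := exists_rep h hU
  exact h2 g (rep_no_quad h5 ρ h1 hcop hPG hP hRP hCP hg (h3 g hq))

theorem chief_involves {F : Type*} [Field F] [Fintype F] (hF : Fintype.card F = p) {g : Γ}
    (hg : g ∈ G) (hq : ⁅⁅U, zpowers g⁆, zpowers g⁆ ≤ V) (hn : ¬ ⁅U, zpowers g⁆ ≤ V) :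
    Involves (Matrix.ProjectiveSpecialLinearGroup (Fin 2) F) ↥(G ⊓ centralizer (R : Set Γ)) := by
  obtain ⟨M, _, _, _, ρ, h1, h2, h3⟩ := exists_rep h hU
  exact rep_involves h5 ρ h1 hcop hF hg (h3 g hq) fun e => hn (h2 g e)

end Chief

section Amb

universe u

variable {p : ℕ} [hp : Fact p.Prime] {Γ : Type u} [Group Γ] [Finite Γ] (h5 : 5 ≤ p)
  {G R : Subgroup Γ} [hG : G.Normal] (hcop : (Nat.card R).Coprime (Nat.card G))

theorem mem_of_pow (hi : G.index.Coprime p) {x : Γ} {n : ℕ} (hx : x ^ p ^ n = 1) : x ∈ G := by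
  rw [← QuotientGroup.eq_one_iff, ← orderOf_eq_one_iff]
  exact Nat.eq_one_of_dvd_coprimes (hi.pow_right n) (orderOf_dvd_natCard _)
    (orderOf_dvd_of_pow_eq_one (by rw [← QuotientGroup.mk_pow, hx, QuotientGroup.mk_one]))

theorem le_of_isPGroup (hi : G.index.Coprime p) {A : Subgroup Γ} (hA : IsPGroup p A) : A ≤ G :=
  fun x hx => by
    obtain ⟨n, hn⟩ := hA ⟨x, hx⟩
    exact mem_of_pow hi (congrArg Subtype.val hn)

theorem isPConstrained_of_index (hi : G.index.Coprime p) (h : IsPConstrained p G) :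
    IsPConstrained p Γ := by
  rw [Cfsg.Agent.S1327.result] at h ⊢
  rw [← PComp.pLayerOf_top, PComp.pLayerOf_eq_bot_iff]
  intro K hK
  refine PComp.pLayerOf_eq_bot_iff.1 (PComp.pLayerOf_eq_bot_iff_pLayer.2 h) K (hK.mono ?_ le_top)
  rw [← hK.pElementClosure_eq]
  refine (closure_le _).2 ?_
  rintro x ⟨-, n, hn⟩
  exact mem_of_pow hi (hn ▸ pow_orderOf_eq_one x)

include h5 hcop

/-- `K^∞` of a `p`-subgroup normalized by `R C_G(R)` and containing `O_p(G)` is normal -/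
theorem kInf_normal {P : Subgroup Γ} (hPG : P ≤ G) (hP : IsPGroup p P)
    (hRP : R ≤ normalizer (P : Set Γ)) (hCP : G ⊓ centralizer (R : Set Γ) ≤ normalizer (P : Set Γ))
    (hT : pCore p Γ ⊓ G ≤ P)
    (hc : G ⊓ centralizer ((pCore p Γ ⊓ G : Subgroup Γ) : Set Γ) ≤ pCore p Γ) :
    (inducedFunctor kInfLower P).Normal ∧ (inducedFunctor kInfUpper P).Normal := by
  have hTp : IsPGroup p (pCore p Γ ⊓ G : Subgroup Γ) := (isPGroup_pCore p Γ).to_inf_left
  refine CF.kInf_normal_of_le hT (not_not.1 fun h => ?_)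
  obtain ⟨A, h1, -, h2, h3, -, -, h4⟩ := PG.exists_critical_ambient hTp
  have : A.Normal := normalizer_eq_top_iff.1 (top_le_iff.1 (le_normalizer_of_normal.trans h2))
  rw [commutator_comm] at h3
  have hA := hTp.to_le h1
  obtain ⟨B, b1, b2, -, b4, b5⟩ := CF.exists_quad_subgroup hA h1 hT h3 h
  have key : ∀ N ≤ A, CF.ChiefBd N B 2 → B ≤ CF.chiefKer N := by
    intro N hN hB g hg
    rw [← zpowers_le, CF.le_chiefKer_iff]
    exact fun U V k1 k2 => chief_no_quad h5 hcop k1 (hA.to_le (k2.trans hN)) hPG hP hRP hCP (b1 hg)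
      ((CF.iterCommutator_mono le_rfl (zpowers_le.2 hg) 2).trans (hB U V k1 k2))
  have k1 := key A le_rfl (b5 (key _ inf_le_left (CF.chiefBd_of_eq_bot (n := 2) b4)))
  have := CF.chiefKer_normal A
  refine b2 (le_inf ((le_inf k1 (b1.trans hPG)).trans (le_pCore (MSS.isPGroup_of_forall_coprime
    fun x hx hx' => ?_))) (b1.trans hPG))
  have k2 := CF.mem_centralizer_of_chief hx' A hA fun U V l1 l2 u hu =>
    CF.le_chiefKer_iff.1 (zpowers_le.2 hx.1) U V l1 l2
      (commutator_mem_commutator hu (mem_zpowers x))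
  exact MSS.eq_one_of_coprime_of_mem (isPGroup_pCore p Γ) hx'
    (hc ⟨hx.2, h4 x (le_normalizer_of_normal (mem_top x)) hx' k2⟩)

variable {F : Type*} [Field F] [Fintype F] (hF : Fintype.card F = p) (hi : G.index.Coprime p)
  (hn : ¬ Involves (Matrix.ProjectiveSpecialLinearGroup (Fin 2) F) ↥(G ⊓ centralizer (R : Set Γ)))
include hF hi hn

theorem qstable (V : Subgroup Γ) [V.Normal] (hV : IsPGroup p V) : ZJ.QStable p V := by
  intro A hA hq
  refine ⟨CF.chiefKer V, CF.chiefKer_normal V, fun g hg => ?_, fun g hg => ?_⟩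
  · rw [← zpowers_le, CF.le_chiefKer_iff]
    intro U W k1 k2
    by_contra k3
    exact hn (chief_involves h5 hcop k1 (hV.to_le k2) hF (le_of_isPGroup hi hA hg)
      (((CF.iterCommutator_mono k2 (zpowers_le.2 hg) 2).trans hq.le).trans bot_le) k3)
  · refine ⟨(orderOf g).factorization p, CF.mem_centralizer_of_chief (p := p) ?_ V hV
      fun U W l1 l2 u hu => CF.le_chiefKer_iff.1 (zpowers_le.2 (pow_mem hg _)) U W l1 l2
        (commutator_mem_commutator hu (mem_zpowers _))⟩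
    rw [orderOf_pow_of_dvd (pow_ne_zero _ hp.out.ne_zero) (Nat.ordProj_dvd _ _)]
    exact (Nat.coprime_ordCompl hp.out (orderOf_pos g).ne').symm

theorem zj_normal (hc : IsPConstrained p G) (S : Sylow p Γ) :
    ((centerThompsonAOf (S : Subgroup Γ)).map (QuotientGroup.mk' (pPrimeCore p Γ))).Normal := by
  rw [PC.map_centerThompsonAOf_of_inf_ker
    (PC.inf_ker_eq_bot PC.coprime_ker_mk'_pPrimeCore S.isPGroup')]
  have := hG.map _ (QuotientGroup.mk'_surjective (pPrimeCore p Γ))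
  exact ZJ.centerThompsonAOf_normal (by omega) (S.mapSurjective (QuotientGroup.mk'_surjective _))
    (ZJ.isStronglyClosed_self _) (PC.isPConstrained_iff.1 (isPConstrained_of_index hi hc))
    fun V _ hV => qstable h5 (R := R.map (QuotientGroup.mk' _))
      ((hcop.coprime_dvd_left (card_map_dvd _ _)).coprime_dvd_right (card_map_dvd _ _)) hF
      (hi.coprime_dvd_left (index_map_dvd _ (QuotientGroup.mk'_surjective _)))
      (fun h => hn (Sec.involves_trans (Sec.involves_mono h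
        (map_inf_cent _ le_normalizer_of_normal hcop)) (Sec.involves_map _ _))) V hV

end Amb

end CL.QFix
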