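import Cfsg.Agent.SIG.KMStr

/-! Klinger-Mason theorem: groups of characteristic `{2,p}`-type have `m_{2,p} ≤ 2`. -/

set_option autoImplicit false
open Subgroup Cfsg CL
open scoped commutatorElement

namespace CL.KM
variable {G : Type*} [Group G]

theorem norm_comm [Finite G] {X Y : Subgroup G} {g : G} (hX : g ∈ normalizer (X : Set G))
    (hY : g ∈ normalizer (Y : Set G)) : g ∈ normalizer ((⁅X, Y⁆ : Subgroup G) : Set G) := by
  have : ⁅X, Y⁆ ≤ (⁅X, Y⁆ : Subgroup G).comap (MulAut.conj g).toMonoidHom :=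
    commutator_le.2 fun x hx y hy => by
      rw [mem_comap, map_commutatorElement]
      exact commutator_mem_commutator (conj_mem hX hx) (conj_mem hY hy)
  exact mem_norm fun x hx => this hx

theorem St.mul_iff {z : G} {A K : Subgroup G} (st : St z A K) (hz1 : z ≠ 1) (hz : z * z = 1)
    {x y w : G} (hx : x ∈ K) (hy : y ∈ K) (hw : w ∈ K) :
    Commute x (y * w) ↔ (Commute x y ↔ Commute x w) := by
  have e : ⁅x, y * w⁆ = ⁅x, y⁆ * (y * ⁅x, w⁆ * y⁻¹) := by
    simp only [commutatorElement_def]; group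
  have hyz : y * z * y⁻¹ = z := by rw [(st.le y hy).eq]; simp
  rw [← commutatorElement_eq_one_iff_commute, ← commutatorElement_eq_one_iff_commute,
    ← commutatorElement_eq_one_iff_commute, e]
  rcases st.comm x hx y hy with e1 | e1 <;> rcases st.comm x hx w hw with e2 | e2 <;>
    simp [e1, e2, hyz, hz1, hz]

theorem idx2 {S H X1 X2 : Subgroup G} (hS : ∀ a ∈ H, ∀ b ∈ H, a ∉ S → b ∉ S → a * b ∈ S)
    (h1 : X1 ≤ H) (h2 : X2 ≤ H) (hc : ∀ a ∈ X1, ∀ b ∈ X2, Commute a b)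
    (n1 : ∃ a ∈ X1, ∃ b ∈ X1, ¬ Commute a b) (n2 : ∃ a ∈ X2, ∃ b ∈ X2, ¬ Commute a b) :
    ∃ a ∈ S ⊓ (X1 ⊔ X2), ∃ b ∈ S ⊓ (X1 ⊔ X2), ¬ Commute a b := by
  obtain ⟨a, ha, b, hb, hab⟩ := n1
  obtain ⟨c, hc', d, hd, hcd⟩ := n2
  by_cases hcd' : c ∈ S ∧ d ∈ S
  · exact ⟨c, ⟨hcd'.1, mem_sup_right hc'⟩, d, ⟨hcd'.2, mem_sup_right hd⟩, hcd⟩
  obtain ⟨e, he, heS⟩ : ∃ e ∈ X2, e ∉ S := by
    by_cases h : c ∈ S
    · exact ⟨d, hd, fun h' => hcd' ⟨h, h'⟩⟩
    · exact ⟨c, hc', h⟩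
  have key : ∀ x ∈ X1, ∃ f, (f = 1 ∨ f = e) ∧ x * f ∈ S ⊓ (X1 ⊔ X2) := fun x hx => by
    by_cases h : x ∈ S
    · exact ⟨1, Or.inl rfl, by rw [mul_one]; exact ⟨h, mem_sup_left hx⟩⟩
    · exact ⟨e, Or.inr rfl, hS x (h1 hx) e (h2 he) h heS,
        mul_mem (mem_sup_left hx) (mem_sup_right he)⟩
  obtain ⟨f, hf, haf⟩ := key a ha
  obtain ⟨f', hf', hbf⟩ := key b hb
  refine ⟨_, haf, _, hbf, fun h => hab ?_⟩
  have c1 : ∀ x ∈ X1, ∀ f, (f = 1 ∨ f = e) → Commute x f := by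
    rintro x hx f (rfl | rfl)
    · exact Commute.one_right _
    · exact hc x hx _ he
  have c2 : Commute f f' := by
    rcases hf with rfl | rfl <;> rcases hf' with rfl | rfl <;> simp
  have h3 : Commute (a * f) b := by
    have := h.mul_right ((c1 a ha f' hf').mul_left c2).inv_right
    simpa using this
  simpa using h3.mul_left (c1 b hb f hf).symm.inv_left

variable {p n : ℕ} [hp : Fact p.Prime]

theorem Good.exists_R [Finite G] (h : Hyp G p n) {z : G} {A K S : Subgroup G} (g : Good p n z A)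
    (st : St z A K) (hSK : S ≤ K) (hAS : A ≤ normalizer (S : Set G)) {a c : G} (ha : a ∈ A)
    (hc : c ∈ S) (hac : ¬ Commute a c) :
    ∃ R : Subgroup G, R ≤ S ∧ A ≤ normalizer (R : Set G) ∧
      (∀ x ∈ K, Commute a x → ∀ r ∈ R, Commute x r) ∧
      (∃ x ∈ R, ¬ Commute a x ∧ x * x = z) ∧ ∃ u ∈ R, ∃ v ∈ R, ¬ Commute u v := by
  have haA : zpowers a ≤ A := zpowers_le.2 ha
  have hRS : ⁅S, zpowers a⁆ ≤ S := le_normalizer_iff_commutator_le_left.1 (haA.trans hAS)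
  have hAR : A ≤ normalizer ((⁅S, zpowers a⁆ : Subgroup G) : Set G) := fun b hb =>
    norm_comm (hAS hb) (cent_le_norm fun x hx => g.ea.1 x (haA hx) b hb)
  have hcR : ∀ x ∈ K, Commute a x → ∀ r ∈ ⁅S, zpowers a⁆, Commute x r := fun x hx hax r hr => by
    refine mem_cent1.1 ((commutator_le.2 fun s hs b hb => mem_cent1.2 ?_ :
      ⁅S, zpowers a⁆ ≤ centralizer ({x} : Set G)) hr)
    have hbx : Commute b x := by
      obtain ⟨i, rfl⟩ := mem_zpowers_iff.1 hb
      exact hax.zpow_left i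
    have e : ⁅s, b⁆ = s * (b * s⁻¹ * b⁻¹) := by rw [commutatorElement_def]; group
    have hxb : b * x * b⁻¹ = x := by rw [hbx.eq]; simp
    rw [e, st.mul_iff g.ne g.sq hx (hSK hs) (hSK (conj_mem (hAS (haA hb)) (inv_mem hs)))]
    constructor
    · intro h1
      have := comm_conj (g := b) h1.inv_right
      rwa [hxb] at this
    · intro h1
      rw [← hxb] at h1
      have := comm_conj (g := b⁻¹) h1
      simpa [mul_assoc] using this
  obtain ⟨y, hy, hay⟩ : ∃ y ∈ ⁅S, zpowers a⁆, ¬ Commute a y := by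
    by_contra hcon
    push Not at hcon
    have hS : IsPGroup 2 S := st.pg.to_le hSK
    have hsolv : Group.IsSolvable S := by
      have := hS.isNilpotent
      infer_instance
    have := coprime_le_centralizer_of_commutator_le (zpowers a) S (haA.trans hAS)
      (IsPGroup.coprime_card_of_ne p 2 h.p2 _ _ (g.ea.mono haA).isPGroup hS) (Or.inr hsolv)
      (fun y hy => mem_cent.2 fun b hb => by
        obtain ⟨i, rfl⟩ := mem_zpowers_iff.1 hb
        exact (hcon y hy).zpow_left i)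
    exact hac (mem_cent.1 (this hc) a (mem_zpowers a))
  have hna : ∃ u ∈ ⁅S, zpowers a⁆, ∃ v ∈ ⁅S, zpowers a⁆, ¬ Commute u v := by
    by_contra hcon
    push Not at hcon
    exact hay (g.cent_center h (st.pg.to_le (hRS.trans hSK)) (fun v hv => st.le v (hSK (hRS hv)))
      hAR ha hy (mem_cent.2 fun s hs => hcon s hs y hy))
  refine ⟨_, hRS, hAR, hcR, ?_, hna⟩
  by_contra hcon
  push Not at hcon
  have h1 : ∀ x ∈ ⁅S, zpowers a⁆, ¬ Commute a x → x * x = 1 := fun x hx hax =>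
    (st.sq x (hSK (hRS hx))).resolve_right (hcon x hx hax)
  have h2 : ∀ x ∈ ⁅S, zpowers a⁆, x * x = 1 := fun x hx => by
    by_cases hax : Commute a x
    · have h3 := h1 (x * y) (mul_mem hx hy) fun h' => hay (by
        simpa using hax.inv_right.mul_right h')
      rwa [(hcR x (hSK (hRS hx)) hax y hy).symm.mul_mul_mul_comm, h1 y hy hay, mul_one] at h3
    · exact h1 x hx hax
  obtain ⟨u, hu, v, hv, huv⟩ := hna
  refine huv ?_
  have e := h2 _ (mul_mem hu hv)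
  rw [sq_mul_eq, h2 u hu, h2 v hv, one_mul, mul_one, commutatorElement_eq_one_iff_commute] at e
  simpa using e

omit hp in
/-- the final contradiction -/
theorem final [Finite G] {z t : G} {A A' K K' : Subgroup G} (g : Good p n z A) (st : St z A K)
    (g' : Good p n t A') (st' : St t A' K') (htK : t ∈ K) (hzA : z ∈ normalizer (A' : Set G))
    {e : G} (he : e ∈ A') (hze : ¬ Commute z e)
    (hcop : ∀ x ∈ A', x ∈ K' → x = 1)
    (hY : ∀ S : Subgroup G, (∀ a ∈ K ⊓ centralizer ({t} : Set G),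
      ∀ b ∈ K ⊓ centralizer ({t} : Set G), a ∉ S → b ∉ S → a * b ∈ S) →
      ∃ a ∈ S ⊓ (K ⊓ centralizer ({t} : Set G)), ∃ b ∈ S ⊓ (K ⊓ centralizer ({t} : Set G)),
        ¬ Commute a b) : False := by
  have hzt : Commute z t := (st.le t htK).symm
  have zi : z⁻¹ = z := inv_eq_of_mul_eq_one_right g.sq
  have hez : ⁅e, z⁆ ∈ A' := by
    rw [commutatorElement_def, mul_assoc, mul_assoc, ← mul_assoc z]
    exact mul_mem he (conj_mem hzA (inv_mem he))
  have hez1 : ⁅e, z⁆ ≠ 1 := fun h => hze (commutatorElement_eq_one_iff_commute.1 h).symm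
  have hzK' : z ∉ K' := fun h => hez1 (hcop _ hez (by
    rw [commutatorElement_def]
    exact mul_mem (conj_mem (st'.norm e (g'.comm e he)) h) (inv_mem h)))
  -- the intersection of the two subgroups
  have hN : ∀ x ∈ K, x ∈ K' → x = 1 ∨ x = t := by
    have c1 : ∀ x ∈ K, x ∈ K' → ∀ y ∈ K, Commute t y → Commute x y := fun x hx hx' y hy hty => by
      rcases st.comm x hx y hy with e1 | e1
      · exact commutatorElement_eq_one_iff_commute.1 e1
      · refine (hzK' ?_).elim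
        rw [← e1, commutatorElement_def, mul_assoc, mul_assoc, ← mul_assoc y]
        exact mul_mem hx' (conj_mem (st'.norm y hty.symm) (inv_mem hx'))
    have c2 : ∀ x ∈ K, x ∈ K' → (∀ y ∈ K, Commute y x) → x = 1 := fun x hx hx' hc => by
      rcases st.sq x hx with e1 | e1
      · exact (st.invZ x hx (mem_cent.2 hc) e1).resolve_right fun e2 => hzK' (e2 ▸ hx')
      · exact (hzK' (e1 ▸ mul_mem hx' hx')).elim
    intro x hx hx'
    by_cases hc : ∀ y ∈ K, Commute y x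
    · exact Or.inl (c2 x hx hx' hc)
    · right
      push Not at hc
      obtain ⟨s, hs, hsx⟩ := hc
      have hts : ¬ Commute t s := fun h' => hsx (c1 x hx hx' s hs h').symm
      have := c2 (x * t) (mul_mem hx htK) (mul_mem hx' st'.mem) fun y hy => by
        rw [st.mul_iff g.ne g.sq hy hx htK]
        by_cases hty : Commute t y
        · exact iff_of_true (c1 x hx hx' y hy hty).symm hty.symm
        · refine iff_of_false (fun hyx => hsx ?_) fun h' => hty h'.symm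
          have h1 : Commute t (y * s) := (st.mul_iff g.ne g.sq htK hy hs).2 (iff_of_false hty hts)
          have h2 := c1 x hx hx' _ (mul_mem hy hs) h1
          rw [st.mul_iff g.ne g.sq hx hy hs] at h2
          exact (h2.1 hyx.symm).symm
      rw [eq_inv_of_mul_eq_one_left this, inv_eq_of_mul_eq_one_right g'.sq]
  -- the symplectic space
  set Z : Subgroup G := K' ⊓ centralizer (K' : Set G) with hZ
  have hZn : ∀ x, Commute x t → x ∈ normalizer (Z : Set G) := fun x hx =>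
    norm_inf_cent (st'.norm x hx) (st'.norm x hx)
  have htZ : t ∈ Z := ⟨st'.mem, mem_cent.2 st'.le⟩
  have hcZ : ∀ x ∈ K', ∀ y ∈ K', ⁅x, y⁆ ∈ Z := fun x hx y hy => by
    rcases st'.comm x hx y hy with e1 | e1 <;> rw [e1]
    exacts [one_mem _, htZ]
  have : (Z.subgroupOf K').Normal :=
    (normal_subgroupOf_iff_le_normalizer inf_le_left).2 fun x hx => hZn x (st'.le x hx)
  let C : Subgroup G := centralizer ({t} : Set G)
  have hCK : C ≤ normalizer (K' : Set G) := fun x hx => st'.norm x (mem_cent1.1 hx).symm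
  have hCZ : C ≤ normalizer (Z : Set G) := fun x hx => hZn x (mem_cent1.1 hx).symm
  let ψ := sectionAut C K' Z hCK hCZ
  let Y : Subgroup G := K ⊓ C
  let φ := ψ.comp (inclusion (inf_le_right : Y ≤ C))
  have hzY : z ∈ Y := ⟨st.mem, mem_cent1.2 hzt.symm⟩
  have hW : ∀ a b : K' ⧸ Z.subgroupOf K', a * b = b * a := by
    intro a b
    obtain ⟨x, rfl⟩ := QuotientGroup.mk_surjective a
    obtain ⟨y, rfl⟩ := QuotientGroup.mk_surjective b
    rw [← QuotientGroup.mk_mul, ← QuotientGroup.mk_mul, QuotientGroup.eq, mem_subgroupOf]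
    have := hcZ _ (inv_mem y.2) _ (inv_mem x.2)
    rw [commutatorElement_def] at this
    simpa [mul_assoc] using this
  letI : CommGroup (K' ⧸ Z.subgroupOf K') := { (inferInstance : Group _) with mul_comm := hW }
  let o : (K' ⧸ Z.subgroupOf K') → (K' ⧸ Z.subgroupOf K') → Prop := fun a b =>
    ∀ x y : K', (x : K' ⧸ Z.subgroupOf K') = a → (y : K' ⧸ Z.subgroupOf K') = b →
      Commute (x : G) y
  have omk : ∀ x y : K', o x y ↔ Commute (x : G) y := fun x y => by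
    refine ⟨fun h => h x y rfl rfl, fun h x' y' hx hy => ?_⟩
    rw [QuotientGroup.eq, mem_subgroupOf] at hx hy
    have h1 : Commute ((x' : G)⁻¹ * x) y := (mem_cent.1 hx.2 _ y.2).symm
    have h2 : Commute (x' : G) ((y' : G)⁻¹ * y) := mem_cent.1 hy.2 _ x'.2
    have h3 : Commute (x' : G) y := by simpa using (h1.mul_left h.inv_left).inv_left
    simpa using (h2.mul_right h3.inv_right).inv_right
  have φmk : ∀ (y : Y) (k : K'), φ y (k : K' ⧸ Z.subgroupOf K') =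
      ((⟨y * k * (y : G)⁻¹, conj_mem (hCK y.2.2) k.2⟩ : K') : K' ⧸ Z.subgroupOf K') :=
    fun y k => sectionAut_mk C K' Z hCK hCZ _ k
  let W0 : (K' ⧸ Z.subgroupOf K') → Prop := fun w => ∃ x : K', Commute (x : G) z ∧
    (x : K' ⧸ Z.subgroupOf K') = w
  have main := symp_final φ o
    (fun a => by
      obtain ⟨x, rfl⟩ := QuotientGroup.mk_surjective a
      exact (omk x x).2 (Commute.refl _))
    (fun a b h x y hx hy => (h y x hy hx).symm)
    (fun a b c => by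
      obtain ⟨x, rfl⟩ := QuotientGroup.mk_surjective a
      obtain ⟨y, rfl⟩ := QuotientGroup.mk_surjective b
      obtain ⟨w, rfl⟩ := QuotientGroup.mk_surjective c
      rw [← QuotientGroup.mk_mul, omk, omk, omk]
      exact st'.mul_iff g'.ne g'.sq x.2 y.2 w.2)
    (fun a h => by
      obtain ⟨x, rfl⟩ := QuotientGroup.mk_surjective a
      rw [QuotientGroup.eq_one_iff, mem_subgroupOf]
      exact ⟨x.2, mem_cent.2 fun s hs => ((omk x ⟨s, hs⟩).1 (h _)).symm⟩)
    (fun y a b h => by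
      obtain ⟨x, rfl⟩ := QuotientGroup.mk_surjective a
      obtain ⟨w, rfl⟩ := QuotientGroup.mk_surjective b
      rw [φmk, φmk, omk]
      exact comm_conj ((omk x w).1 h))
    ⟨z, hzY⟩ (Subtype.ext g.sq) (fun y => Subtype.ext (st.le y y.2.1).eq) W0
    ⟨1, Commute.one_left _, rfl⟩
    (by
      rintro _ _ ⟨x, hx, rfl⟩ ⟨y, hy, rfl⟩
      exact ⟨x * y, hx.mul_left hy, rfl⟩)
    (by
      rintro _ ⟨x, hx, rfl⟩ y
      rw [φmk, QuotientGroup.eq, mem_subgroupOf]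
      have h1 : ((y : G) * x * (y : G)⁻¹)⁻¹ * x ∈ K' :=
        mul_mem (inv_mem (conj_mem (hCK y.2.2) x.2)) x.2
      have h2 : ((y : G) * x * (y : G)⁻¹)⁻¹ * x ∈ K := by
        have := mul_mem y.2.1 (conj_mem (st.norm _ hx.inv_left) (inv_mem y.2.1))
        simpa [mul_assoc] using this
      change ((y : G) * x * (y : G)⁻¹)⁻¹ * x ∈ Z
      rcases hN _ h2 h1 with e1 | e1 <;> rw [e1]
      exacts [one_mem _, htZ])
    (by
      have aux : ∀ x : K', φ ⟨z, hzY⟩ (x : K' ⧸ Z.subgroupOf K') = x → ¬ W0 x →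
          z * x * z⁻¹ = x * t := by
        intro x h1 h2
        rw [φmk, eq_comm, QuotientGroup.eq, mem_subgroupOf] at h1
        change (x : G)⁻¹ * (z * x * z⁻¹) ∈ Z at h1
        have e : z * x * z⁻¹ = x * ((x : G)⁻¹ * (z * x * z⁻¹)) := by group
        generalize (x : G)⁻¹ * (z * x * z⁻¹) = u at h1 e
        have h3 : u * u = 1 := by
          have h4 : z * (x * x) * z⁻¹ = x * x := by
            rcases st'.sq x x.2 with e1 | e1 <;> rw [e1]
            · simp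
            · rw [hzt.eq]; simp
          rw [← conj_mul, e, (mem_cent.1 h1.2 x x.2).symm.mul_mul_mul_comm] at h4
          simpa using h4
        rcases st'.invZ u h1.1 h1.2 h3 with e1 | e1
        · rw [e1, mul_one, mul_inv_eq_iff_eq_mul] at e
          exact (h2 ⟨x, e.symm, rfl⟩).elim
        · rw [e, e1]
      intro a b ha hb ha' hb'
      obtain ⟨x, rfl⟩ := QuotientGroup.mk_surjective a
      obtain ⟨y, rfl⟩ := QuotientGroup.mk_surjective b
      refine ⟨x * y, ?_, rfl⟩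
      have : z * (x * y) * z⁻¹ = x * y := by
        rw [← conj_mul, aux x ha ha', aux y hb hb', (st'.le y y.2).symm.mul_mul_mul_comm, g'.sq,
          mul_one]
      rw [mul_inv_eq_iff_eq_mul] at this
      exact this.symm)
    (by
      intro Y1 hY1
      obtain ⟨a, ⟨⟨a', ha, rfl⟩, -⟩, b, ⟨⟨b', hb, rfl⟩, -⟩, hab⟩ := hY (Y1.map Y.subtype)
        (fun a ha b hb ha' hb' => ⟨⟨a, ha⟩ * ⟨b, hb⟩,
          hY1 _ _ (fun h => ha' ⟨_, h, rfl⟩) (fun h => hb' ⟨_, h, rfl⟩), rfl⟩)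
      refine ⟨a', ha, b', hb, Subtype.ext ?_⟩
      exact (st.comm _ a'.2.1 _ b'.2.1).resolve_left fun h =>
        hab (commutatorElement_eq_one_iff_commute.1 h))
  have hzC : z ∈ C := hzY.2
  have heC : e ∈ C := mem_cent1.2 (g'.comm e he).symm
  have hzker : (⟨z, hzC⟩ : C) ∈ ψ.ker := by
    rw [MonoidHom.mem_ker]
    ext w
    exact main w
  have hker : ⁅(⟨e, heC⟩ : C), ⟨z, hzC⟩⁆ ∈ ψ.ker := by
    rw [MonoidHom.mem_ker] at hzker ⊢
    rw [map_commutatorElement, hzker, commutatorElement_one_right]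
  have := st'.faith (A' ⊓ ψ.ker.map C.subtype) inf_le_left
    ((commutator_mono le_rfl inf_le_right).trans
      ((commutator_map_ker_sectionAut_le C K' Z hCK hCZ).trans inf_le_right))
  have hm : ⁅e, z⁆ ∈ A' ⊓ ψ.ker.map C.subtype := ⟨hez, _, hker, rfl⟩
  rw [this] at hm
  exact hez1 (mem_bot.1 hm)

theorem Good.false [Finite G] (h : Hyp G p n) {z : G} {A : Subgroup G} (g : Good p n z A) :
    False := by
  have hp1 := hp.out.one_lt
  obtain ⟨K, st⟩ := g.exists_st h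
  have hAK : A ≤ normalizer (K : Set G) := fun a ha => st.norm a (g.comm a ha)
  have hnc : ∀ a ∈ A, a ≠ 1 → ∃ k ∈ K, ¬ Commute a k := fun a ha ha1 => by
    by_contra hcon
    push Not at hcon
    have := st.faith (zpowers a) (zpowers_le.2 ha) (commutator_le.2 fun k hk b hb => by
      obtain ⟨i, rfl⟩ := mem_zpowers_iff.1 hb
      rw [commutatorElement_eq_one_iff_commute.2 ((hcon k hk).zpow_left i).symm]
      exact one_mem _)
    exact ha1 (by simpa using this)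
  have ex : ∀ U : Subgroup G, U ≠ ⊥ → ∃ t ∈ U, t ≠ 1 := fun U h => by
    by_contra hc
    push Not at hc
    exact h ((eq_bot_iff_forall U).2 hc)
  have hyp : ∀ a ∈ A, a ≠ 1 → ∃ B : Subgroup G, B ≤ A ∧ B.relIndex A = p ∧ a ∉ B ∧
      ∃ c ∈ K ⊓ centralizer (B : Set G), ¬ Commute a c := fun a ha ha1 => by
    obtain ⟨k, hk, hak⟩ := hnc a ha ha1
    exact exists_hyp h.p2 g.ea st.pg hAK ha hk hak
  have hAn : ∀ B ≤ A, A ≤ normalizer ((K ⊓ centralizer (B : Set G) : Subgroup G) : Set G) :=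
    fun B hB a ha => norm_inf_cent (hAK ha) (cent_le_norm fun b hb => g.ea.1 b (hB hb) a ha)
  obtain ⟨a0, ha0, ha01⟩ := ex A (h.hyp_ne_bot g.big (Nat.le_mul_of_pos_left _ (by positivity)))
  obtain ⟨B1, hB1, hi1, ha0B, c1, hc1, hac1⟩ := hyp a0 ha0 ha01
  have card1 := card_eq_mul hB1 hi1
  obtain ⟨a2, ha2, ha21⟩ := ex B1 (h.hyp_ne_bot g.big (by
    rw [card1]; exact Nat.mul_le_mul_right _ (by nlinarith)))
  obtain ⟨B2, hB2, hi2, ha2B, c2, hc2, hac2⟩ := hyp a2 (hB1 ha2) ha21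
  have card2 := card_eq_mul hB2 hi2
  obtain ⟨a1, ha1, ha1B⟩ : ∃ a1 ∈ B2, a1 ∉ B1 := by
    by_contra hcon
    push Not at hcon
    have : B2 = B1 := eq_of_le_of_card_ge hcon
      (Nat.le_of_mul_le_mul_left (by rw [← card1, ← card2]) hp.out.pos)
    exact ha2B (this ▸ ha2)
  have hac1' : ¬ Commute a1 c1 := fun h' => hac1 (mem_cent1.1 ((show A ≤ centralizer {c1} by
    rw [← PCyc.sup_zpowers_eq_of_relIndex_prime hp.out hB1 hi1 (hB2 ha1) ha1B]
    exact sup_le (fun b hb => mem_cent1.2 (mem_cent.1 hc1.2 b hb).symm)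
      (zpowers_le.2 (mem_cent1.2 h'.symm))) ha0)).symm
  have cardD : Nat.card A ≤ p ^ 2 * Nat.card (B1 ⊓ B2 : Subgroup G) := by
    rw [card_eq_mul (inf_le_left.trans hB1 : B1 ⊓ B2 ≤ A) rfl]
    refine Nat.mul_le_mul_right _ (relIndex_inf_le.trans ?_)
    rw [hi1, hi2, pow_two]
  have hD0 := h.hyp_ne_bot g.big cardD
  obtain ⟨d, hd, hd1⟩ := ex _ hD0
  obtain ⟨B3, hB3, -, -, c3, hc3, hac3⟩ := hyp d (hB1 hd.1) hd1
  obtain ⟨R1, hR1, hAR1, hcR1, ⟨x1, hx1, hax1, hxx1⟩, na1⟩ :=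
    g.exists_R h st inf_le_left (hAn B1 hB1) (hB2 ha1) hc1 hac1'
  obtain ⟨R2, hR2, hAR2, -, ⟨x2, hx2, hax2, hxx2⟩, na2⟩ :=
    g.exists_R h st inf_le_left (hAn B2 hB2) (hB1 ha2) hc2 hac2
  obtain ⟨R3, hR3, -, hcR3, -, na3⟩ :=
    g.exists_R h st inf_le_left (hAn B3 hB3) (hB1 hd.1) hc3 hac3
  have c12 : ∀ a ∈ R1, ∀ b ∈ R2, Commute a b := fun a ha b hb =>
    (hcR1 b (hR2 hb).1 (mem_cent.1 (hR2 hb).2 a1 ha1) a ha).symm
  -- choose `a`
  have k1 := (hR1 hx1).1
  have k2 := (hR2 hx2).1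
  obtain ⟨a, ha, hav, hcv⟩ : ∃ a ∈ A, ¬ Commute a (x1 * x2) ∧
      Commute (x1 * x2) (a * (x1 * x2) * a⁻¹) := by
    have f1 : Commute a1 x2 := mem_cent.1 (hR2 hx2).2 a1 ha1
    have f2 : Commute a2 x1 := mem_cent.1 (hR1 hx1).2 a2 ha2
    have y1 := conj_mem (hAR1 (hB2 ha1)) hx1
    have y2 := conj_mem (hAR2 (hB1 ha2)) hx2
    have e1 : a1 * (x1 * x2) * a1⁻¹ = (a1 * x1 * a1⁻¹) * x2 := by
      rw [← conj_mul, f1.eq, mul_inv_cancel_right]
    have e2 : a2 * (x1 * x2) * a2⁻¹ = x1 * (a2 * x2 * a2⁻¹) := by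
      rw [← conj_mul, f2.eq, mul_inv_cancel_right]
    by_cases h1 : Commute x1 (a1 * x1 * a1⁻¹)
    · refine ⟨a1, hB2 ha1, fun h' => hax1 (by simpa using h'.mul_right f1.inv_right), ?_⟩
      rw [e1]
      exact (h1.mul_right (c12 _ hx1 _ hx2)).mul_left
        ((c12 _ y1 _ hx2).symm.mul_right (Commute.refl _))
    by_cases h2 : Commute x2 (a2 * x2 * a2⁻¹)
    · refine ⟨a2, hB1 ha2, fun h' => hax2 (by simpa using f2.inv_right.mul_right h'), ?_⟩
      rw [e2]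
      exact ((Commute.refl _).mul_right (c12 _ hx1 _ y2)).mul_left
        ((c12 _ hx1 _ hx2).symm.mul_right h2)
    have f3 : Commute a1 (a2 * x2 * a2⁻¹) := mem_cent.1 (hR2 y2).2 a1 ha1
    have e3 : (a1 * a2) * (x1 * x2) * (a1 * a2)⁻¹ = (a1 * x1 * a1⁻¹) * (a2 * x2 * a2⁻¹) := by
      calc (a1 * a2) * (x1 * x2) * (a1 * a2)⁻¹ = a1 * (a2 * (x1 * x2) * a2⁻¹) * a1⁻¹ := by group
        _ = _ := by rw [e2, ← conj_mul, f3.eq, mul_inv_cancel_right]
    refine ⟨a1 * a2, mul_mem (hB2 ha1) (hB1 ha2), fun h' => h1 ?_, ?_⟩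
    · rw [h'.eq, mul_inv_cancel_right] at e3
      have : a1 * x1 * a1⁻¹ = x1 * (x2 * (a2 * x2 * a2⁻¹)⁻¹) := by
        rw [← mul_assoc, e3, mul_inv_cancel_right]
      rw [this]
      exact (Commute.refl _).mul_right (c12 _ hx1 _ (mul_mem hx2 (inv_mem y2)))
    · rw [e3, st.mul_iff g.ne g.sq (mul_mem k1 k2) (hR1 y1).1 (hR2 y2).1]
      refine iff_of_false (fun h' => h1 ?_) fun h' => h2 ?_
      · simpa using h'.mul_left (c12 _ y1 _ hx2).symm.inv_left
      · simpa using (c12 _ hx1 _ y2).inv_left.mul_left h'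
  have hv2 : (x1 * x2) * (x1 * x2) = 1 := by
    rw [(c12 _ hx1 _ hx2).symm.mul_mul_mul_comm, hxx1, hxx2, g.sq]
  have hvm : x1 * x2 ∈ K ⊓ centralizer ((B1 ⊓ B2 : Subgroup G) : Set G) :=
    mul_mem ⟨k1, centralizer_le (inf_le_left : B1 ⊓ B2 ≤ B1) (hR1 hx1).2⟩
      ⟨k2, centralizer_le (inf_le_right : B1 ⊓ B2 ≤ B2) (hR2 hx2).2⟩
  generalize x1 * x2 = v at hav hcv hv2 hvm
  have hvm' := conj_mem (hAn _ (inf_le_left.trans hB1) ha) hvm
  have hV : EA 2 (closure {z, v, a * v * a⁻¹}) := ea_closure _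
    (by
      rintro x (rfl | rfl | rfl) y (rfl | rfl | rfl)
      exacts [Commute.refl _, (st.le _ hvm.1).symm, (st.le _ hvm'.1).symm, st.le _ hvm.1,
        Commute.refl _, hcv, st.le _ hvm'.1, hcv.symm, Commute.refl _])
    (by
      rintro x (rfl | rfl | rfl)
      · rw [pow_two, g.sq]
      · rw [pow_two, hv2]
      · rw [pow_two, conj_mul, hv2]; simp)
  have hVK : closure {z, v, a * v * a⁻¹} ≤ K ⊓ centralizer ((B1 ⊓ B2 : Subgroup G) : Set G) :=
    (closure_le _).2 (by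
      rintro x (rfl | rfl | rfl)
      exacts [⟨st.mem, mem_cent.2 fun b hb => g.comm b (hB1 hb.1)⟩, hvm, hvm'])
  have hzV : z ∈ closure {z, v, a * v * a⁻¹} := subset_closure (by simp)
  have h4 := four_lt_card h.odd hzV (subset_closure (by simp)) (subset_closure (by simp))
    g.ne g.sq (g.ea.2 a ha) (g.comm a ha) hav
  generalize closure {z, v, a * v * a⁻¹} = V at hV hVK hzV h4
  obtain ⟨E, hE, hDE, hVE, hf⟩ := exists_E h.p2 h.locp (g.ea.mono (inf_le_left.trans hB1)) hD0 hV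
    (hVK.trans inf_le_right)
  obtain ⟨e0, he0, hze0⟩ : ∃ e ∈ E, ¬ Commute z e := by
    by_contra hc
    push Not at hc
    exact g.ne (hf z hzV (mem_cent.2 fun s hs => (hc s hs).symm))
  obtain ⟨U, hUV, hi, -, e, he, hze⟩ := exists_hyp (Ne.symm h.p2) hV hE.isPGroup hVE hzV he0 hze0
  obtain ⟨t, ht, ht1, hle⟩ := exists_t h.p2 hE.isPGroup 1 (hV.mono hUV) (hUV.trans hVE)
    (fun v hv => hf v (hUV hv)) (by rw [card_eq_mul hUV hi] at h4; omega)
  have hle2 := step_card hE.isPGroup hUV hzV he hze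
  have hle3 : Nat.card (B1 ⊓ B2 : Subgroup G) ≤
      Nat.card (E ⊓ centralizer (V : Set G) : Subgroup G) :=
    card_le_of_le (le_inf hDE (le_centralizer_iff.1 (hVK.trans inf_le_right)))
  have g' : Good p n t (E ⊓ centralizer ({t} : Set G)) :=
    ⟨ht1, by rw [← pow_two]; exact hV.2 t (hUV ht), hE.mono inf_le_left,
      fun a ha => (mem_cent1.1 ha.2).symm, by
        refine g.big.trans (cardD.trans (le_trans ?_ hle))
        rw [pow_two, pow_one, mul_assoc]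
        exact Nat.mul_le_mul_left _ (le_trans (Nat.mul_le_mul_left _ hle3) hle2)⟩
  obtain ⟨K', st'⟩ := g'.exists_st h
  have htK := hVK (hUV ht)
  refine final g st g' st' htK.1 (mem_norm fun x hx => ⟨conj_mem (hVE hzV) hx.1,
    mem_cent1.2 ?_⟩) ⟨he.1, mem_cent1.2 (mem_cent.1 he.2 t ht)⟩ hze (fun x hx hx' => ?_) ?_
  · have hzt := st.le t htK.1
    exact (hzt.mul_right (mem_cent1.1 hx.2)).mul_right hzt.inv_right
  · obtain ⟨k, hk⟩ := pg_elem st'.pg hx'
    exact eq_one_of_two_primes h.p2 (k := 1) (by simpa using hE.2 x hx.1) hk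
  · intro S hS
    have hcd : ∀ x ∈ K ⊓ centralizer ((B1 ⊓ B2 : Subgroup G) : Set G), ∀ r ∈ R3, Commute x r :=
      fun x hx => hcR3 x hx.1 (mem_cent.1 hx.2 d hd)
    have h12 : R1 ⊔ R2 ≤ K ⊓ centralizer ((B1 ⊓ B2 : Subgroup G) : Set G) :=
      sup_le (hR1.trans (inf_le_inf_left _ (centralizer_le (inf_le_left : B1 ⊓ B2 ≤ B1))))
        (hR2.trans (inf_le_inf_left _ (centralizer_le (inf_le_right : B1 ⊓ B2 ≤ B2))))
    have n12 := idx2 (S := centralizer ({t} : Set G)) (H := K) (fun a ha b hb ha' hb' => by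
      rw [mem_cent1] at ha' hb' ⊢
      exact (st.mul_iff g.ne g.sq htK.1 ha hb).2 (iff_of_false ha' hb'))
      (hR1.trans inf_le_left) (hR2.trans inf_le_left) c12 na1 na2
    have l1 : centralizer ({t} : Set G) ⊓ (R1 ⊔ R2) ≤ K ⊓ centralizer ({t} : Set G) :=
      fun x hx => ⟨(h12 hx.2).1, hx.1⟩
    have l2 : R3 ≤ K ⊓ centralizer ({t} : Set G) :=
      fun x hx => ⟨(hR3 hx).1, mem_cent1.2 (hcd t htK x hx)⟩
    obtain ⟨a, ha, b, hb, hab⟩ := idx2 hS l1 l2 (fun a ha b hb => hcd a (h12 ha.2) b hb) n12 na3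
    exact ⟨a, ⟨ha.1, sup_le l1 l2 ha.2⟩, b, ⟨hb.1, sup_le l1 l2 hb.2⟩, hab⟩

/-- Klinger-Mason -/
theorem klinger_mason [Finite G] (hp2 : p ≠ 2) (hGp : IsOfLocalCharacteristic p G)
    (hG2 : IsCharacteristicTwoType G) {A₀ U₀ : Subgroup G} (hA₀ : EA p A₀) (hU₀ : IsPGroup 2 U₀)
    (hU0₀ : U₀ ≠ ⊥) (hAU₀ : A₀ ≤ normalizer (U₀ : Set G)) : Nat.card A₀ ≤ p ^ 2 := by
  by_contra hlt
  push Not at hlt
  have hp1 := hp.out.one_lt
  obtain ⟨A, ⟨hA, U, hU, hU0, hAU⟩, hmax⟩ := Set.exists_max_image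
    {A : Subgroup G | EA p A ∧ ∃ U : Subgroup G, IsPGroup 2 U ∧ U ≠ ⊥ ∧ A ≤ normalizer (U : Set G)}
    (fun A : Subgroup G => Nat.card A) (Set.toFinite _) ⟨A₀, hA₀, U₀, hU₀, hU0₀, hAU₀⟩
  have hmax' : ∀ (t : G) (B : Subgroup G), t ≠ 1 → t * t = 1 → EA p B → (∀ a ∈ B, Commute a t) →
      Nat.card B ≤ Nat.card A := fun t B h1 h2 h3 h4 =>
    hmax B ⟨h3, zpowers t, IsPGroup.of_card (n := 1) (by
      rw [Nat.card_zpowers, pow_one]; exact orderOf_eq_prime (by rw [pow_two, h2]) h1),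
      by simpa using h1, fun a (ha : a ∈ B) => cent_le_norm fun b hb => by
        obtain ⟨i, rfl⟩ := mem_zpowers_iff.1 hb
        exact (h4 a ha).symm.zpow_left i⟩
  have h : Hyp G p (Nat.card A) :=
    ⟨hp2, hGp, hG2, lt_of_lt_of_le hlt (hmax _ ⟨hA₀, U₀, hU₀, hU0₀, hAU₀⟩), hmax'⟩
  obtain ⟨z, hz, hz1⟩ : ∃ z ∈ omZ U, z ≠ 1 := by
    have : Nontrivial U := (nontrivial_iff_ne_bot U).2 hU0
    have := hU.center_nontrivial
    obtain ⟨⟨x, hx⟩, hx1⟩ := exists_ne (1 : center U)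
    have hx1' : (x : G) ≠ 1 := fun h => hx1 (Subtype.ext (Subtype.ext h))
    obtain ⟨k, hk⟩ := pg_elem hU x.2
    obtain ⟨j, hj1, hj⟩ := exists_pow_order hx1' hk
    refine ⟨(x : G) ^ j, ⟨pow_mem x.2 j, pow_mem (mem_cent.2 fun s hs => ?_) j,
      by rw [← pow_two, hj]⟩, hj1⟩
    exact congrArg Subtype.val (mem_center_iff.1 hx ⟨s, hs⟩)
  by_cases hc : ∀ a ∈ A, Commute a z
  · exact Good.false h ⟨hz1, hz.2.2, hA, hc, le_rfl⟩
  push Not at hc
  obtain ⟨a, ha, haz⟩ := hc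
  have hAV : A ≤ normalizer (omZ U : Set G) := fun a ha => omZ_norm U (hAU ha)
  obtain ⟨B, hB, hi, -, w, hw, haw⟩ := exists_hyp hp2 hA (omZ_ea U).isPGroup hAV ha hz haz
  have hcard := card_eq_mul hB hi
  obtain ⟨t, A', h1, h2, h3, h4, h5⟩ := exists_cent_inv hp2 hGp (hA.mono hB)
    (h.hyp_ne_bot le_rfl (by rw [hcard]; exact Nat.mul_le_mul_right _ (by nlinarith)))
    ((omZ_ea U).mono inf_le_left) inf_le_right 1 (two_lt_card hw
      (conj_mem (norm_inf_cent (hAV ha) (cent_le_norm fun b hb => hA.1 b (hB hb) a ha)) hw) haw)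
  exact Good.false h ⟨h1, h2, h3, h4, by rw [hcard]; simpa using h5⟩

end CL.KM
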