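import Cfsg.Agent.SIG.QFixH
import Cfsg.Agent.SIG.BenderLemma
import Cfsg.Agent.FGS.HHX
import Cfsg.Agent.SOLV.CoprimeGen
import Cfsg.Agent.TECH.FStarPP
import Cfsg.Agent.TECH.SecC

/-! Flavell's equivariant ZJ theorem and noncyclic abelian groups of coprime automorphisms. -/

set_option autoImplicit false

namespace CL.EqZJ

open Cfsg Subgroup CL.MSS CL.Comp
open scoped commutatorElement

universe u

section type
variable {p : ℕ} [hp : Fact p.Prime] {Γ : Type u} [Group Γ] [Finite Γ]

theorem kInf_normal' (h5 : 5 ≤ p) {G R : Subgroup Γ} [G.Normal]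
    (hcop : (Nat.card R).Coprime (Nat.card G)) {P : Subgroup Γ} (hPG : P ≤ G) (hP : IsPGroup p P)
    (hRP : R ≤ normalizer (P : Set Γ)) (hCP : G ⊓ centralizer (R : Set Γ) ≤ normalizer (P : Set Γ))
    (hT : pCore p Γ ⊓ G ≤ P)
    (hc : ∀ x ∈ G, (orderOf x).Coprime p →
      x ∈ centralizer ((pCore p Γ ⊓ G : Subgroup Γ) : Set Γ) → x ∈ centralizer (G : Set Γ)) :
    (inducedFunctor kInfUpper P).Normal := by
  have hTp : IsPGroup p (pCore p Γ ⊓ G : Subgroup Γ) := (isPGroup_pCore p Γ).to_inf_left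
  refine (CF.kInf_normal_of_le hT (not_not.1 fun h => ?_)).2
  obtain ⟨A, h1, -, h2, h3, -, -, h4⟩ := PG.exists_critical_ambient hTp
  have : A.Normal := normalizer_eq_top_iff.1 (top_le_iff.1 (le_normalizer_of_normal.trans h2))
  rw [commutator_comm] at h3
  have hA := hTp.to_le h1
  obtain ⟨B, b1, b2, -, b4, b5⟩ := CF.exists_quad_subgroup hA h1 hT h3 h
  have key : ∀ N ≤ A, CF.ChiefBd N B 2 → B ≤ CF.chiefKer N := by
    intro N hN hB g hg
    rw [← zpowers_le, CF.le_chiefKer_iff]
    exact fun U V k1 k2 => QFix.chief_no_quad h5 hcop k1 (hA.to_le (k2.trans hN)) hPG hP hRP hCP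
      (b1 hg) ((CF.iterCommutator_mono le_rfl (zpowers_le.2 hg) 2).trans (hB U V k1 k2))
  have k1 := key A le_rfl (b5 (key _ inf_le_left (CF.chiefBd_of_eq_bot (n := 2) b4)))
  have := CF.chiefKer_normal A
  obtain ⟨S, hS, hBS⟩ := exists_sylIn_ge (hP.to_le b1) (le_inf k1 (b1.trans hPG))
  have k3 : oU[p] (CF.chiefKer A ⊓ G) ≤ centralizer (G : Set Γ) := oU_le_iff.2 fun x hx hx' =>
    hc x hx.2 hx' (h4 x (le_normalizer_of_normal (mem_top x)) hx'
      (CF.mem_centralizer_of_chief hx' A hA fun U V l1 l2 u hu =>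
        CF.le_chiefKer_iff.1 (zpowers_le.2 hx.1) U V l1 l2
          (commutator_mem_commutator hu (mem_zpowers x))))
  refine b2 (le_inf (hBS.trans ((le_oP hS.pgroup hS.le ((oU_sup_sylIn hS).ge.trans (sup_le
    (le_normalizer_of_le_centralizer (k3.trans (MSS.centralizer_anti (hS.le.trans inf_le_right))))
    le_normalizer))).trans (oP_le_of_subnormal (Normal.isSubnormal inferInstance)))) (b1.trans hPG))

end type

variable {X : Type u} [Group X] {p : ℕ}

/-- `O^p(F*(H))`. -/
def Y (p : ℕ) (H : Subgroup X) : Subgroup X := oU[p] (fstarOf H)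

/-- `P` is an `A C_G(A)`-invariant `p`-subgroup of `G`. -/
structure Inv (p : ℕ) (A G P : Subgroup X) : Prop where
  le : P ≤ G
  pg : IsPGroup p P
  n1 : A ≤ normalizer (P : Set X)
  n2 : G ⊓ centralizer (A : Set X) ≤ normalizer (P : Set X)

/-- `O_p(G; A)`. -/
def opA (p : ℕ) (A G : Subgroup X) : Subgroup X := sSup {P | Inv p A G P}

theorem Inv.le_opA {A G P : Subgroup X} (h : Inv p A G P) : P ≤ opA p A G := le_sSup h

theorem Inv.cj {A G P : Subgroup X} (h : Inv p A G P) (g : X) :
    Inv p (g •ᶜ A) (g •ᶜ G) (g •ᶜ P) :=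
  ⟨cj_mono g h.le, isPGroup_cj g h.pg, by rw [← cj_normalizer]; exact cj_mono g h.n1, by
    rw [← cj_normalizer, ← cj_centralizer, ← cj_inf]; exact cj_mono g h.n2⟩

theorem le_normalizer_opA {A G B : Subgroup X} (h1 : B ≤ normalizer (A : Set X))
    (h2 : B ≤ normalizer (G : Set X)) : B ≤ normalizer (opA p A G : Set X) :=
  le_normalizer_of_cj_le fun g hg => cj_le_iff.2 (sSup_le fun P hP => cj_le_iff.1 (by
    have := Inv.cj hP g
    rw [cj_eq_of_mem_normalizer (h1 hg), cj_eq_of_mem_normalizer (h2 hg)] at this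
    exact this.le_opA))

theorem Y_le (H : Subgroup X) : Y p H ≤ H := (oU_le _).trans (fstarOf_le H)

theorem le_normalizer_Y {A H : Subgroup X} (h : A ≤ normalizer (H : Set X)) :
    A ≤ normalizer (Y p H : Set X) :=
  le_normalizer_oU (h.trans (normalizer_le_normalizer_fstarOf H))

theorem oU_Y (H : Subgroup X) : oU[p] (Y p H) = Y p H := oU_oU _

variable [Finite X] [hp : Fact p.Prime]

theorem inv_opA {A G : Subgroup X} (hn : A ≤ normalizer (G : Set X))
    (hc : (Nat.card A).Coprime (Nat.card G)) : Inv p A G (opA p A G) := by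
  have hs := isSolvable_or_of_coprime _ _ hc
  obtain ⟨S, hS⟩ := coprime_exists_invariant_sylow A G hn hc hs p
  refine ⟨sSup_le fun P hP => hP.le, (S.isPGroup'.map G.subtype).to_le (sSup_le fun P hP => ?_),
    le_normalizer_opA le_normalizer hn, le_normalizer_opA
      (le_normalizer_of_le_centralizer inf_le_right) (inf_le_left.trans le_normalizer)⟩
  obtain ⟨T, h1, h2⟩ := coprime_exists_invariant_sylow_ge A G hn hc hs p P hP.le hP.pg hP.n1
  obtain ⟨c, h3, h4⟩ := coprime_invariant_sylow_conj A G hn hc hs p T S h2 hS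
  rw [← h4, pointwise_smul_eq_cj, ← cj_eq_of_mem_normalizer (hP.n2 h3)]
  exact cj_mono c h1

theorem Y_eq (H : Subgroup X) : Y p H = fstarRes p H := by
  refine le_antisymm (le_trans ?_ (map_pResidual_fstar_le p H)) (sup_le ?_ fun x hx => ?_)
  · rw [Y, fstarOf, ← oU_map]
  · exact (perfect_le_presOf (commutator_layerOf_self H)).trans (oU_mono (layerOf_le_fstarOf H))
  · exact mem_oU (fittingOf_le_fstarOf H (PComp.opOf_le p _ hx))
      ((PComp.opOf_coprime p _).coprime_dvd_left (orderOf_dvd_natCard _ hx))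

theorem oP_le_cent (H : Subgroup X) : pCoreOf p H ≤ centralizer (Y p H : Set X) :=
  Y_eq (p := p) H ▸ pCoreOf_le_centralizer_fstarRes p H

theorem fstarOf_eq' (H : Subgroup X) : fstarOf H = Y p H ⊔ pCoreOf p H :=
  Y_eq (p := p) H ▸ fstarOf_eq_fstarRes_sup p H

omit hp in
theorem Y_mono {N H : Subgroup X} (h : N ≤ H) (hn : H ≤ normalizer (N : Set X)) : Y p N ≤ Y p H :=
  oU_mono (fstarOf_le_fstarOf_of_le_normalizer h hn)

omit hp in
theorem Y_Y (H : Subgroup X) : Y p (Y p H) = Y p H := by
  rw [Y, fstarOf_eq_self_of_le_fstarOf (S := Y p H) (oU_le _) (Normal.isSubnormal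
    ((normal_subgroupOf_iff_le_normalizer (Y_le H)).2 (le_normalizer_Y le_normalizer))), oU_Y]

theorem le_cent_Y {H V : Subgroup X} (h : V ≤ H) (hV : IsPGroup p V)
    (hn : H ≤ normalizer (V : Set X)) : V ≤ centralizer (Y p H : Set X) :=
  (le_oP hV h hn).trans (oP_le_cent H)

theorem le_fstarOf {H W : Subgroup X} (h : W ≤ H) (h1 : W ≤ centralizer (Y p H : Set X))
    (h2 : W ≤ centralizer (pCoreOf p H : Set X)) : W ≤ Y p H ⊔ pCoreOf p H := by
  rw [← fstarOf_eq']
  refine le_trans (le_inf h ?_) (inf_centralizer_fstarOf_le H)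
  rw [fstarOf_eq' (p := p)]
  exact le_centralizer_sup h1 h2

theorem comm_le_oP {R H W : Subgroup X} (hc : (Nat.card R).Coprime (Nat.card H))
    (hRH : R ≤ normalizer (H : Set X)) (hR : R ≤ centralizer (Y p H : Set X)) (h : W ≤ H)
    (hn : R ≤ normalizer (W : Set X)) (h2 : W ≤ centralizer (pCoreOf p H : Set X)) :
    ⁅W, R⁆ ≤ pCoreOf p H := by
  have hc' := hc.coprime_dvd_right (card_dvd_of_le h)
  have hle := commutator_le_left_of_normalizes hn
  rw [← coprime_commutator_commutator R W hn hc' (isSolvable_or_of_coprime _ _ hc')]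
  refine (commutator_mono (le_fstarOf (hle.trans h) ((commutator_mono h hR).trans
    (commutator_le_right_of_normalizes (le_normalizer_centralizer (le_normalizer_Y le_normalizer))))
    (hle.trans h2)) le_rfl).trans (sup_commutator_le_of_normalizes ((Y_le H).trans (oP_normal H))
    le_normalizer ?_ (commutator_le_left_of_normalizes (le_normalizer_oP hRH)))
  exact (commutator_eq_bot_iff_le_centralizer.2 (le_centralizer_symm hR)).le.trans bot_le

omit [Finite X] hp in
theorem cent_of_comm {R W V : Subgroup X} (hW : oU[p] W = W) (hV : IsPGroup p V) (h : ⁅W, R⁆ ≤ V)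
    (hc : V ≤ centralizer (W : Set X)) : R ≤ centralizer (W : Set X) :=
  le_centralizer_symm (hW.ge.trans (oU_le_centralizer_of_two_step hV (by rwa [commutator_comm])
    (le_centralizer_symm hc)))

theorem Inv.le_cent {R H P : Subgroup X} (h : Inv p R H P) (hR : R ≤ centralizer (Y p H : Set X)) :
    P ≤ centralizer (Y p H : Set X) := by
  have h1 : Y p H ≤ normalizer (P : Set X) := (le_inf (Y_le H) (le_centralizer_symm hR)).trans h.n2
  have h2 := h.le.trans (le_normalizer_Y (p := p) le_normalizer)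
  refine cent_of_comm (oU_Y H) (h.pg.to_le inf_le_right) (commutator_le_inf_of_normalizes h1 h2)
    (((le_oP (h.pg.to_le inf_le_right) inf_le_left (le_normalizer_inf le_normalizer h1)).trans
    (oP_le_oP_of_normal (Y_le H) (le_normalizer_Y le_normalizer))).trans (oP_le_cent H))

/-- `K^∞`. -/
abbrev K (P : Subgroup X) : Subgroup X := inducedFunctor kInfUpper P

omit [Finite X] hp in
theorem K_le (P : Subgroup X) : K P ≤ P := CF.iF_le _ _

theorem le_normalizer_K {A P : Subgroup X} (hP : IsPGroup p P) (h : A ≤ normalizer (P : Set X)) :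
    A ≤ normalizer (K P : Set X) := fun g hg => mem_normalizer_iff_cj.2 (by
  have := CF.iF_map_inj (CF.isCharPFunctor_kInfUpper p) hP (f := (MulAut.conj g).toMonoidHom)
    (MulAut.conj g).injective
  exact this.symm.trans (congrArg K (cj_eq_of_mem_normalizer (h hg))))

theorem cent_K {P : Subgroup X} (hP : IsPGroup p P) : P ⊓ centralizer (K P : Set X) ≤ K P :=
  CF.isKInf_upper.centralizer_le hP

/-- The equivariant ZJ theorem. -/
theorem Inv.le_normalizer_K (h5 : 5 ≤ p) {R H P : Subgroup X} (h : Inv p R H P)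
    (hc : (Nat.card R).Coprime (Nat.card H)) (hn : R ≤ normalizer (H : Set X))
    (hR : R ≤ centralizer (Y p H : Set X)) (hT : pCoreOf p H ≤ P) :
    H ≤ normalizer (K P : Set X) := by
  let Γ := normalizer (H : Set X)
  let C := H ⊓ centralizer (Y p H : Set X)
  have hCn : Γ ≤ normalizer (C : Set X) :=
    le_normalizer_inf le_rfl (le_normalizer_centralizer (le_normalizer_Y le_rfl))
  have hHΓ : H ≤ Γ := le_normalizer
  have hCΓ : C ≤ Γ := inf_le_left.trans hHΓ
  have hPC : P ≤ C := le_inf h.le (h.le_cent hR)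
  haveI : (C.subgroupOf Γ).Normal := normal_subgroupOf_of_le_normalizer hCn
  haveI : ((pCoreOf p H).subgroupOf Γ).Normal :=
    normal_subgroupOf_of_le_normalizer (normalizer_le_normalizer_oP H)
  have hle : (pCoreOf p H).subgroupOf Γ ≤ pCore p Γ := le_pCore ((oP_isPGroup H).comap_subtype)
  have key := kInf_normal' (p := p) h5 (G := C.subgroupOf Γ) (R := R.subgroupOf Γ)
    (P := P.subgroupOf Γ) (by
      rw [Nat.card_congr (subgroupOfEquivOfLe hn).toEquiv,
        Nat.card_congr (subgroupOfEquivOfLe hCΓ).toEquiv]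
      exact hc.coprime_dvd_right (card_dvd_of_le inf_le_left))
    (subgroupOf_mono _ hPC) h.pg.comap_subtype
    (QFix.le_normalizer_of_conj fun a ha x hx => (mem_normalizer_iff.1 (h.n1 ha) _).1 hx)
    (QFix.le_normalizer_of_conj fun a ha x hx => (mem_normalizer_iff.1 (h.n2 ⟨ha.1.1, fun y hy =>
      congrArg Subtype.val (ha.2 ⟨y, hn hy⟩ hy)⟩) _).1 hx)
    (map_le_iff_le_comap.1 (le_trans (le_oP ((isPGroup_pCore p Γ).to_inf_left.map _)
      (map_le_iff_le_comap.2 fun x hx => hx.2.1) (hHΓ.trans (by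
        have := QFix.map_le_normalizer Γ.subtype (le_normalizer_of_normal (H := pCore p Γ ⊓
          C.subgroupOf Γ) (K := ⊤))
        rwa [← MonoidHom.range_eq_map, range_subtype] at this))) hT))
    (fun x hx ho hxc y hy => Subtype.ext (by
      have h1 : (x : X) ∈ Y p H ⊔ pCoreOf p H := zpowers_le.1 (le_fstarOf (zpowers_le.2 hx.1)
        (zpowers_le.2 hx.2) (zpowers_le.2 fun z hz => congrArg Subtype.val
          (hxc ⟨z, hHΓ (oP_le H hz)⟩ ⟨hle hz, oP_le H hz, oP_le_cent H hz⟩)))
      rw [← fstarOf_eq'] at h1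
      exact (hy.2 x (mem_oU h1 (by rwa [orderOf_coe]))).symm))
  have e := CF.iF_map_inj (CF.isCharPFunctor_kInfUpper p) (T := P.subgroupOf Γ) h.pg.comap_subtype
    Γ.subtype_injective
  rw [map_subgroupOf_eq_of_le (hPC.trans hCΓ)] at e
  have := QFix.map_le_normalizer Γ.subtype (le_normalizer_of_normal
    (H := inducedFunctor kInfUpper (P.subgroupOf Γ)) (K := ⊤))
  rw [← MonoidHom.range_eq_map, range_subtype, ← e] at this
  exact hHΓ.trans this

omit hp in
/-- The Frobenius lemma. -/
theorem le_cent_of_frob {V L : Subgroup X} {x : X} {r : ℕ} (hr : r.Prime) (hx : x ^ r = 1)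
    (hV : Group.IsSolvable V) (hLV : L ≤ normalizer (V : Set X)) (hxV : x ∈ normalizer (V : Set X))
    (hxL : x ∈ normalizer (L : Set X)) (c1 : (Nat.card V).Coprime (Nat.card L))
    (c2 : (Nat.card V).Coprime r) (c3 : (Nat.card L).Coprime r)
    (h1 : V ⊓ centralizer (zpowers x : Set X) ≤ centralizer (L : Set X))
    (h2 : L ⊓ centralizer (zpowers x : Set X) ≤ centralizer (V : Set X)) :
    L ≤ centralizer (V : Set X) := by
  have hle := commutator_le_left_of_normalizes hLV
  have hcc := coprime_commutator_commutator L V hLV c1.symm (Or.inr hV)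
  have hL : L ≤ normalizer ((⁅V, L⁆ : Subgroup X) : Set X) := normalizer_commutator_ge_right V L
  have hxE : zpowers x ≤ normalizer ((⁅V, L⁆ : Subgroup X) : Set X) :=
    le_normalizer_commutator (zpowers_le.2 hxV) (zpowers_le.2 hxL)
  refine le_centralizer_symm (commutator_eq_bot_iff_le_centralizer.1 ?_)
  generalize ⁅V, L⁆ = E at hle hcc hL hxE
  have hd := card_dvd_of_le hle
  have hE : Group.IsSolvable E := isSolvable_of_le hle hV
  have hEE : ⁅E, E⁆ ≤ E := commutator_le_left_of_normalizes le_normalizer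
  have hS : ⁅E, E⁆ ⊔ E ⊓ centralizer (L : Set X) ≤ E := sup_le hEE inf_le_left
  have hn : ∀ {A : Subgroup X}, A ≤ normalizer (E : Set X) → A ≤ normalizer (L : Set X) →
      A ≤ normalizer ((⁅E, E⁆ ⊔ E ⊓ centralizer (L : Set X) : Subgroup X) : Set X) := fun a b =>
    le_normalizer_sup (le_normalizer_commutator a a)
      (le_normalizer_inf a (le_normalizer_centralizer b))
  have key : E ≤ ⁅E, E⁆ ⊔ E ⊓ centralizer (L : Set X) := by
    by_contra hne
    have := HH.relIndex_eq_pow_of_frobenius hS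
      (le_normalizer_of_commutator_le ((commutator_mono hS le_rfl).trans le_sup_left)) hL
      (hn hL le_normalizer) hr hx (zpowers_le.1 hxE) (zpowers_le.1 (hn hxE (zpowers_le.2 hxL))) hxL
      hE (c1.coprime_dvd_left hd) (c2.coprime_dvd_left hd) c3 le_sup_right
      ((commutator_eq_bot_iff_le_centralizer.2 (le_centralizer_symm
        (h2.trans (MSS.centralizer_anti hle)))).le.trans bot_le) hne
    rw [relIndex_eq_one.2 ((le_inf inf_le_left ((inf_le_inf_right _ hle).trans h1)).trans
      le_sup_right), one_pow, relIndex_eq_one] at this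
    exact hne this
  have hn2 : ∀ {A : Subgroup X}, A ≤ E → A ≤ normalizer ((⁅E, E⁆ : Subgroup X) : Set X) :=
    fun a => a.trans (normalizer_commutator_ge_left E E)
  refine eq_bot_of_perfect_of_le_solvable (le_antisymm hEE (hcc.ge.trans ((commutator_mono key
    le_rfl).trans (sup_commutator_le_of_normalizes (hn2 hEE) (hn2 inf_le_left)
      (commutator_le_left_of_normalizes (le_normalizer_commutator hL hL)) ?_)))) le_rfl hE
  exact (commutator_eq_bot_iff_le_centralizer.2 inf_le_right).le.trans bot_le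

theorem oU_le_of_forall_sylIn {W H : Subgroup X} (hn : W ≤ normalizer (H : Set X))
    (h : ∀ t : ℕ, t.Prime → t ≠ p → ∃ T, SylIn t T W ∧ T ≤ H) : oU[p] W ≤ H := by
  have hk := Nat.eq_prime_pow_of_unique_prime_dvd (p := p) (n := H.relIndex W)
    index_ne_zero_of_finite fun {t} ht hd => by
      by_contra hne
      haveI := Fact.mk ht
      obtain ⟨T, h1, h2⟩ := h t ht hne
      exact h1.not_dvd_relIndex (hd.trans (relIndex_dvd_of_le_left W h2))
  refine oU_le_of_pow fun x hx => ⟨(H.relIndex W).primeFactorsList.length, ?_⟩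
  haveI := normal_subgroupOf_of_le_normalizer hn
  have := pow_index_mem (H.subgroupOf W) ⟨x, hx⟩
  rwa [← relIndex, hk, mem_subgroupOf, coe_pow] at this

/-- The local hypothesis. -/
structure Hyp (p : ℕ) (R G : Subgroup X) : Prop where
  n : R ≤ normalizer (G : Set X)
  cop : (Nat.card R).Coprime (Nat.card G)
  loc : ∀ a ∈ R, a ≠ 1 → R ≤ centralizer (Y p (G ⊓ centralizer {a}) : Set X)

section main
variable {r : ℕ} {R G : Subgroup X} (hr : r.Prime) (hab : IsMulCommutative R) (hnc : ¬ IsCyclic R)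
  (hx : ∀ b ∈ R, b ≠ 1 → ∃ x ∈ R, x ^ r = 1 ∧
    centralizer (zpowers x : Set X) ⊓ centralizer {b} ≤ centralizer (R : Set X))
  (hcr : ∀ n : ℕ, (Nat.card R).Coprime n → n.Coprime r) (h : Hyp p R G)

omit [Finite X] hp in
include hab in
theorem le_cent {a : X} (ha : a ∈ R) : R ≤ centralizer {a} := by
  rw [← centralizer_zpowers]
  exact (le_centralizer R).trans (MSS.centralizer_anti (zpowers_le.2 ha))

omit [Finite X] hp in
theorem cent_le {a : X} (ha : a ∈ R) : centralizer (R : Set X) ≤ centralizer {a} :=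
  centralizer_le (Set.singleton_subset_iff.2 ha)

omit [Finite X] hp in
include hab in
theorem norm_cent {a : X} (ha : a ∈ R) {H : Subgroup X} (hH : R ≤ normalizer (H : Set X)) :
    R ≤ normalizer ((H ⊓ centralizer {a} : Subgroup X) : Set X) :=
  le_normalizer_inf hH ((le_cent hab ha).trans le_normalizer)

include h

omit [Finite X] hp in
theorem Hyp.cop_le {H : Subgroup X} (hH : H ≤ G) : (Nat.card R).Coprime (Nat.card H) :=
  h.cop.coprime_dvd_right (card_dvd_of_le hH)

omit [Finite X] in
theorem Hyp.oP_le {H : Subgroup X} (hH : H ≤ G) (hn : R ≤ normalizer (H : Set X))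
    (hC : G ⊓ centralizer (R : Set X) ≤ H) : pCoreOf p H ≤ opA p R G :=
  Inv.le_opA ⟨(MSS.oP_le H).trans hH, oP_isPGroup H, le_normalizer_oP hn, hC.trans (oP_normal H)⟩

include hab hnc

theorem Hyp.fin (hG : Y p G = G) (hP : opA p R G ≤ centralizer (G : Set X)) :
    R ≤ centralizer (G : Set X) := by
  have hI := inv_opA (p := p) h.n h.cop
  refine cent_of_comm (hG ▸ oU_Y G) hI.pg ?_ hP
  rw [commutator_comm]
  refine (le_secC_iff.1 (coprime_le_of_forall_centralizer_le R G _ hnc h.n h.cop
    fun a ha h1 => le_secC_iff.2 ⟨inf_le_left.trans (le_normalizer_of_le_centralizer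
      (le_centralizer_symm hP)), ?_⟩)).2
  have h2 := h.oP_le inf_le_left (norm_cent hab ha h.n) (inf_le_inf_left _ (cent_le ha))
  rw [commutator_comm]
  exact (comm_le_oP (h.cop_le inf_le_left) (norm_cent hab ha h.n) (h.loc a ha h1) le_rfl
    (norm_cent hab ha h.n) (inf_le_left.trans (le_centralizer_symm (h2.trans hP)))).trans h2

omit hnc in
include hr hx hcr in
theorem Hyp.of_sub {M : Subgroup X} (hM : M ≤ G) (hn : R ≤ normalizer (M : Set X))
    (hC : G ⊓ centralizer (R : Set X) ≤ M)
    (hz : ∀ z ∈ Y p M, z ∈ centralizer (R : Set X) → (orderOf z).Coprime p →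
      z ∈ centralizer (opA p R G : Set X)) : Hyp p R (Y p M) := by
  have hW := (Y_le (p := p) M).trans hM
  refine ⟨le_normalizer_Y hn, h.cop_le hW, fun b hb h1 => ?_⟩
  obtain ⟨x, hxR, hxr, hxc⟩ := hx b hb h1
  have nb := norm_cent hab hb h.n
  have nL := le_normalizer_Y (p := p) (norm_cent hab hb (le_normalizer_Y (p := p) hn))
  have l0 := Y_le (p := p) (Y p M ⊓ centralizer {b})
  have l1 := l0.trans (inf_le_inf_right _ hW)
  have hV := h.oP_le inf_le_left nb (inf_le_inf_left _ (cent_le hb))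
  have lV := MSS.oP_le (p := p) (G ⊓ centralizer {b})
  have k1 : pCoreOf p (G ⊓ centralizer {b}) ⊓ M ≤
      centralizer (Y p (Y p M ⊓ centralizer {b}) : Set X) :=
    (le_cent_Y (H := M ⊓ centralizer {b}) (le_inf inf_le_right (inf_le_left.trans
      (lV.trans inf_le_right))) ((oP_isPGroup _).to_le inf_le_left) (le_normalizer_inf
      ((inf_le_inf_right _ hM).trans (oP_normal _)) (inf_le_left.trans le_normalizer))).trans
      (MSS.centralizer_anti (Y_mono (inf_le_inf_right _ (Y_le M)) (le_normalizer_inf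
        (le_normalizer_Y (inf_le_left.trans le_normalizer)) (inf_le_right.trans le_normalizer))))
  have k2 : Y p (Y p M ⊓ centralizer {b}) ≤
      centralizer (pCoreOf p (G ⊓ centralizer {b}) : Set X) := by
    rw [← oU_Y]
    refine oU_le_of_forall_sylIn (le_normalizer_centralizer (l1.trans (oP_normal _)))
      fun t ht htp => ?_
    haveI := Fact.mk ht
    have c0 := h.cop_le (l1.trans inf_le_left)
    obtain ⟨T, hT⟩ := coprime_exists_invariant_sylow R _ nL c0 (isSolvable_or_of_coprime _ _ c0) t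
    have hT' := sylIn_map_subtype T
    refine ⟨_, hT', ?_⟩
    generalize (T : Subgroup _).map (Y p (Y p M ⊓ centralizer {b})).subtype = Q at hT hT'
    have cQ : (Nat.card Q).Coprime p := by
      obtain ⟨k, hk⟩ := hT'.pgroup.exists_card_eq
      rw [hk]
      exact ((Nat.coprime_primes ht hp.out).2 htp).pow_left _
    refine le_cent_of_frob hr hxr (isSolvable_of_isPGroup (oP_isPGroup _))
      ((hT'.le.trans l1).trans (oP_normal _)) (le_normalizer_oP nb hxR) (hT hxR)
      (coprime_card_of_isPGroup (oP_isPGroup _) cQ).symm (hcr _ (h.cop_le (lV.trans inf_le_left)))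
      (hcr _ (h.cop_le (hT'.le.trans (l1.trans inf_le_left)))) (fun v hv => ?_) fun z hz' => ?_
    · exact MSS.centralizer_anti hT'.le (k1 ⟨hv.1, hC ⟨(lV hv.1).1, hxc ⟨hv.2, (lV hv.1).2⟩⟩⟩)
    · have := l0 (hT'.le hz'.1)
      exact MSS.centralizer_anti hV (hz z this.1 (hxc ⟨hz'.2, this.2⟩)
        (cQ.coprime_dvd_left (orderOf_dvd_natCard _ hz'.1)))
  exact cent_of_comm (oU_Y _) (oP_isPGroup _) (comm_le_oP (h.cop_le inf_le_left) nb (h.loc b hb h1)
    l1 nL k2) (le_centralizer_symm k2)

omit hnc in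
theorem Hyp.base {a : X} (ha : a ∈ R) (h1 : a ≠ 1) :
    R ≤ normalizer ((G ⊓ centralizer {a} ⊔ opA p (zpowers a) G : Subgroup X) : Set X) ∧
      R ≤ centralizer (Y p (G ⊓ centralizer {a} ⊔ opA p (zpowers a) G) : Set X) := by
  have hI := inv_opA (p := p) ((zpowers_le.2 ha).trans h.n)
    (h.cop.coprime_dvd_left (card_dvd_of_le (zpowers_le.2 ha)))
  have n1 := le_normalizer_sup (norm_cent hab ha h.n) (le_normalizer_opA (p := p)
    (le_normalizer_of_le_centralizer (centralizer_zpowers a ▸ le_cent hab ha)) h.n)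
  have n2 := hI.n2
  rw [centralizer_zpowers] at n2
  refine ⟨n1, ?_⟩
  have k1 := le_centralizer_symm (cent_of_comm (R := zpowers a) (oU_Y _) hI.pg
    ((commutator_mono (Y_le _) le_rfl).trans (sup_commutator_le_of_normalizes n2 le_normalizer
      ((commutator_eq_bot_iff_le_centralizer.2 (centralizer_zpowers a ▸ inf_le_right)).le.trans
        bot_le) (commutator_le_left_of_normalizes hI.n1)))
    (le_cent_Y le_sup_right hI.pg (sup_le n2 le_normalizer)))
  rw [centralizer_zpowers] at k1
  refine (h.loc a ha h1).trans (MSS.centralizer_anti ?_)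
  rw [← Y_Y]
  exact Y_mono (le_inf ((Y_le _).trans (sup_le inf_le_left hI.le)) k1)
    (le_normalizer_Y (le_sup_left.trans le_normalizer))

omit hnc in
theorem Hyp.inf_le_K (h5 : 5 ≤ p) {a : X} (ha : a ∈ R) {H : Subgroup X} (hH : H ≤ G)
    (h0 : G ⊓ centralizer {a} ⊔ opA p (zpowers a) G ≤ H) (hn : R ≤ normalizer (H : Set X))
    (hc : R ≤ centralizer (Y p H : Set X)) :
    H ≤ normalizer (K (opA p R G ⊓ H) : Set X) ∧
      R ≤ normalizer (K (opA p R G ⊓ H) : Set X) ∧
      K (opA p R G ⊓ H) ≤ centralizer (Y p (G ⊓ normalizer (K (opA p R G ⊓ H) : Set X)) : Set X) ∧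
      opA p R G ⊓ Y p (G ⊓ normalizer (K (opA p R G ⊓ H) : Set X)) ≤ K (opA p R G ⊓ H) := by
  have hI := inv_opA (p := p) h.n h.cop
  have hC : G ⊓ centralizer (R : Set X) ≤ H :=
    (inf_le_inf_left _ (cent_le ha)).trans (le_sup_left.trans h0)
  have hP0 : Inv p R H (opA p R G ⊓ H) := ⟨inf_le_right, hI.pg.to_le inf_le_left,
    le_normalizer_inf hI.n1 hn, le_normalizer_inf ((inf_le_inf_right _ hH).trans hI.n2)
      (inf_le_left.trans le_normalizer)⟩
  have hO := le_inf (h.oP_le hH hn hC) (MSS.oP_le H)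
  have k1 := hP0.le_normalizer_K h5 (h.cop_le hH) hn hc hO
  have k2 := EqZJ.le_normalizer_K hP0.pg hP0.n1
  have k3 := cent_K hP0.pg
  have k4 := K_le (opA p R G ⊓ H)
  generalize K (opA p R G ⊓ H) = L at k1 k2 k3 k4 ⊢
  have k5 : L ≤ centralizer (Y p (G ⊓ normalizer (L : Set X)) : Set X) :=
    le_cent_Y (le_inf (k4.trans (inf_le_right.trans hH)) le_normalizer) (hP0.pg.to_le k4)
      inf_le_right
  refine ⟨k1, k2, k5, ?_⟩
  have nH := le_normalizer_Y (p := p) ((le_inf hH k1).trans le_normalizer)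
  have nR := le_normalizer_Y (p := p) (le_normalizer_inf h.n (le_normalizer_normalizer k2))
  have hW := (Y_le (p := p) (G ⊓ normalizer (L : Set X))).trans inf_le_left
  replace k5 := le_centralizer_symm k5
  generalize Y p (G ⊓ normalizer (L : Set X)) = W at k5 nH nR hW
  have nJ := le_normalizer_inf nH le_normalizer
  have nJ' := le_normalizer_inf nR hn
  have j1 : pCoreOf p (W ⊓ H) ≤ L := (le_inf ((oP_le_oP_of_normal inf_le_right nJ).trans hO)
    ((MSS.oP_le _).trans (inf_le_left.trans k5))).trans k3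
  have cJ := h.cop_le (inf_le_left.trans hW : W ⊓ H ≤ G)
  have j2 := comm_le_oP cJ nJ' (hc.trans (MSS.centralizer_anti (Y_mono inf_le_right nJ))) le_rfl nJ'
    (inf_le_left.trans (k5.trans (MSS.centralizer_anti j1)))
  have j3 : W ⊓ H ≤ normalizer ((opA p R G ⊓ W : Subgroup X) : Set X) := by
    rw [← coprime_commutator_sup_centralizer R _ nJ' cJ (isSolvable_or_of_coprime _ _ cJ)]
    refine sup_le (le_trans (j2.trans (le_inf (j1.trans (k4.trans inf_le_left))
      ((MSS.oP_le _).trans inf_le_left))) le_normalizer) (le_normalizer_inf ((inf_le_inf_right _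
      (inf_le_left.trans hW)).trans hI.n2) (inf_le_left.trans (inf_le_left.trans le_normalizer)))
  have ha' := zpowers_le.2 ha
  have j4 : Inv p (zpowers a) W (opA p R G ⊓ W) := ⟨inf_le_right, hI.pg.to_le inf_le_left,
    ha'.trans (le_normalizer_inf hI.n1 nR), le_trans (le_inf inf_le_left (le_trans (by
      rw [centralizer_zpowers]; exact inf_le_inf_right _ hW) (le_sup_left.trans h0))) j3⟩
  have j5 := inv_opA (p := p) (ha'.trans nR) ((h.cop_le hW).coprime_dvd_left (card_dvd_of_le ha'))
  have j6 : Inv p (zpowers a) G (opA p (zpowers a) W) := ⟨j5.le.trans hW, j5.pg, j5.n1,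
    le_normalizer_opA (le_normalizer_of_le_centralizer inf_le_right) (le_trans (by
      rw [centralizer_zpowers]; exact le_sup_left.trans h0) nH)⟩
  exact (le_inf (le_inf inf_le_left (j4.le_opA.trans (j6.le_opA.trans (le_sup_right.trans h0))))
    (inf_le_right.trans k5)).trans k3

include hr hx hcr in
theorem Hyp.main (h5 : 5 ≤ p) : R ≤ centralizer (Y p G : Set X) := by
  induction G using WellFoundedLT.induction with
  | ind G ih =>
  by_cases hG : Y p G = G
  swap
  · rw [← Y_Y]
    refine ih _ (lt_of_le_of_ne (Y_le G) hG) ⟨le_normalizer_Y h.n, h.cop_le (Y_le G),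
      fun a ha h1 => (h.loc a ha h1).trans (MSS.centralizer_anti (Y_mono (inf_le_inf_right _ (Y_le G))
        (le_normalizer_inf (le_normalizer_Y (inf_le_left.trans le_normalizer))
          (inf_le_right.trans le_normalizer))))⟩
  rw [hG]
  have hI := inv_opA (p := p) h.n h.cop
  refine h.fin hab hnc hG (not_not.1 fun hP => hP ?_)
  suffices hK : G ≤ normalizer (K (opA p R G) : Set X) by
    have := le_cent_Y ((K_le _).trans hI.le) (hI.pg.to_le (K_le _)) hK
    rw [hG] at this
    exact (le_inf le_rfl (hI.le.trans (le_centralizer_symm this))).trans ((cent_K hI.pg).trans this)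
  refine coprime_le_of_forall_centralizer_le R G _ hnc h.n h.cop fun a ha h1 => ?_
  obtain ⟨H, h0, ⟨hH, hn, hc⟩, hmax⟩ := Finite.exists_le_maximal (p := fun H : Subgroup X => H ≤ G ∧
    R ≤ normalizer (H : Set X) ∧ R ≤ centralizer (Y p H : Set X)) ⟨sup_le inf_le_left
      (inv_opA ((zpowers_le.2 ha).trans h.n)
        (h.cop.coprime_dvd_left (card_dvd_of_le (zpowers_le.2 ha)))).le, h.base hab ha h1⟩
  obtain ⟨k1, k2, k3, k4⟩ := h.inf_le_K hab h5 ha hH h0 hn hc
  have hp0 := hI.pg.to_le (inf_le_left : opA p R G ⊓ H ≤ _)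
  have k5 := EqZJ.le_normalizer_K hp0 le_rfl
  have k6 := (K_le _).trans (inf_le_left : opA p R G ⊓ H ≤ _)
  suffices e : G ⊓ normalizer (K (opA p R G ⊓ H) : Set X) ≤ H by
    have : opA p R G ⊓ H = opA p R G := by
      by_contra hne
      exact (lt_inf_normalizer_of_lt hI.pg (lt_of_le_of_ne inf_le_left hne)).not_ge
        (le_inf inf_le_left ((inf_le_inf hI.le k5).trans e))
    rw [this] at k1
    exact (le_sup_left.trans h0).trans k1
  generalize K (opA p R G ⊓ H) = L at k1 k2 k3 k4 k6
  have nM := le_normalizer_inf h.n (le_normalizer_normalizer k2)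
  have hW := (Y_le (p := p) (G ⊓ normalizer (L : Set X))).trans inf_le_left
  refine hmax ⟨inf_le_left, nM, ?_⟩ (le_inf hH k1)
  rw [← Y_Y]
  refine ih _ (lt_of_le_of_ne hW fun e => hP ?_) (h.of_sub hr hab hx hcr inf_le_left nM
    (le_inf inf_le_left (((inf_le_inf_left _ (cent_le ha)).trans (le_sup_left.trans h0)).trans k1))
    fun z hz hzR ho => ?_)
  · rw [e] at k3 k4
    exact ((le_inf le_rfl hI.le).trans k4).trans k3
  have hzn := hI.n2 ⟨hW hz, hzR⟩
  have hzL := le_centralizer_symm k3 hz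
  have j1 : z ∈ centralizer ((opA p R G ⊓ normalizer (L : Set X) : Subgroup X) : Set X) :=
    mem_centralizer_of_two_step (hI.pg.to_le k6) ho (fun y hy => k4 ⟨
      commutator_le_left_of_normalizes (zpowers_le.2 hzn)
        (commutator_mem_commutator hy.1 (mem_zpowers z)),
      commutator_le_right_of_normalizes (le_normalizer_Y le_normalizer)
        (commutator_mem_commutator (⟨hI.le hy.1, hy.2⟩ : y ∈ G ⊓ normalizer (L : Set X)) hz)⟩) hzL
  exact zpowers_le.1 (le_centralizer_symm (thompson_p_times_q L (zpowers z) _ (hI.pg.to_le k6)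
    (by rwa [Nat.card_zpowers]) hI.pg (le_centralizer_symm (zpowers_le.2 hzL))
    (k6.trans le_normalizer) (zpowers_le.2 hzn) ((inf_le_inf_left _ (centralizer_le_normalizer _)).trans
      (le_centralizer_symm (zpowers_le.2 j1)))))

end main

end CL.EqZJ
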