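import Cfsg.Agent.SIG.FStar
import Cfsg.Agent.SIG.KGroup
import Cfsg.Agent.SOLV.CoprimeAut
import Cfsg.Agent.KSG.KCop

/-!
Fixed points of a coprime group of exponent `r` acting on a K-group: reduction to simple components.
-/

set_option autoImplicit false

open Cfsg Subgroup CL CL.Comp
open scoped commutatorElement Pointwise

namespace CL.CopF

universe u

variable {A : Type*} [Group A] {G : Type u} [Group G]

/-- restriction of an action to an invariant subgroup -/
def res (φ : A →* MulAut G) (H : Subgroup G) (h : ∀ a, ∀ x ∈ H, φ a x ∈ H) : A →* MulAut H :=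
  MonoidHom.mk' (fun g =>
    { toFun := fun a => ⟨φ g a, h g a a.2⟩
      invFun := fun a => ⟨φ g⁻¹ a, h _ a a.2⟩
      left_inv := fun a => Subtype.ext (by simp)
      right_inv := fun a => Subtype.ext (by simp)
      map_mul' := fun a b => Subtype.ext (by simp) }) fun a b => by ext c; simp

theorem res_apply (φ : A →* MulAut G) (H : Subgroup G) (h : ∀ a, ∀ x ∈ H, φ a x ∈ H) (a : A)
    (x : H) : (res φ H h a x : G) = φ a x := rfl

/-- the action on the quotient by an invariant normal subgroup -/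
def quot (φ : A →* MulAut G) (N : Subgroup G) [N.Normal] (h : ∀ a, ∀ x ∈ N, φ a x ∈ N) :
    A →* MulAut (G ⧸ N) :=
  MonoidHom.mk' (fun g => MonoidHom.toMulEquiv (QuotientGroup.map N N (φ g).toMonoidHom (h g))
    (QuotientGroup.map N N (φ g⁻¹).toMonoidHom (h _)) (by ext a; simp) (by ext a; simp))
    fun a b => MulEquiv.ext fun c => QuotientGroup.induction_on c fun c => by simp

theorem quot_mk (φ : A →* MulAut G) (N : Subgroup G) [N.Normal] (h : ∀ a, ∀ x ∈ N, φ a x ∈ N)
    (a : A) (x : G) : quot φ N h a (x : G ⧸ N) = (φ a x : G) := rfl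

theorem inv_char (φ : A →* MulAut G) (N : Subgroup G) [hN : N.Characteristic]
    (a : A) (x : G) (hx : x ∈ N) : φ a x ∈ N :=
  (characteristic_iff_map_le.1 hN (φ a)) ⟨x, hx, rfl⟩

/-- the fixed points -/
def Fx (φ : A →* MulAut G) : Subgroup G where
  carrier := {g | ∀ a, φ a g = g}
  mul_mem' ha hb a := by rw [map_mul, ha a, hb a]
  one_mem' a := map_one _
  inv_mem' ha a := by rw [map_inv, ha a]

theorem mem_Fx {φ : A →* MulAut G} {g : G} : g ∈ Fx φ ↔ ∀ a, φ a g = g := Iff.rfl

variable [Finite A] [Finite G] {r : ℕ} [Fact r.Prime]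

theorem isPGroup_of_exp (hA : ∀ a : A, a ^ r = 1) : IsPGroup r A := fun a => ⟨1, by rw [pow_one, hA]⟩

theorem cop (hA : ∀ a : A, a ^ r = 1) {n m : ℕ} (hr : ¬ r ∣ n) (hm : m ∣ n) : (Nat.card A).Coprime m := by
  obtain ⟨k, hk⟩ := IsPGroup.iff_card.1 (isPGroup_of_exp hA)
  rw [hk]
  exact Nat.Coprime.pow_left _ (((Nat.Prime.coprime_iff_not_dvd Fact.out).2 hr).coprime_dvd_right hm)

theorem Fx_quot (φ : A →* MulAut G) (hA : ∀ a : A, a ^ r = 1) (hr : ¬ r ∣ Nat.card G) (N : Subgroup G)
    [N.Normal] (h : ∀ a, ∀ x ∈ N, φ a x ∈ N) :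
    Fx (quot φ N h) = (Fx φ).map (QuotientGroup.mk' N) := by
  refine le_antisymm (fun x hx => ?_) ?_
  · obtain ⟨g, rfl⟩ := QuotientGroup.mk_surjective x
    let _ := MulDistribMulAction.compHom G φ
    have hs : ∀ (a : A) (x : G), a • x = φ a x := fun _ _ => rfl
    have hsol : Group.IsSolvable A := isSolvable_of_isPGroup' (isPGroup_of_exp hA)
    obtain ⟨s, hs1, hs2⟩ := act_coset_fixed (⊤ : Subgroup A) N (fun b _ k hk => h b k hk)
      (by rw [card_top]; exact cop hA hr (card_subgroup_dvd_card N)) (Or.inl inferInstance) g fun b _ => by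
        rw [hs]
        exact QuotientGroup.eq.1 ((quot_mk φ N h b g).symm.trans (hx b)).symm
    refine ⟨g * s, fun a => hs2 a trivial, ?_⟩
    exact (QuotientGroup.eq.2 (by simpa using hs1)).symm
  · rintro _ ⟨g, hg, rfl⟩ a
    exact (quot_mk φ N h a g).trans (congrArg _ (hg a))

/-- the norm of an element of a component fixed by the stabiliser of the component -/
theorem exists_norm (φ : A →* MulAut G) (hA : ∀ a : A, a ^ r = 1) (hr : ¬ r ∣ Nat.card G) {K : Subgroup G}
    (hK : IsComponent K) {x : G} (hx : x ∈ K) (hfix : ∀ a, φ a • K = K → φ a x = x) :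
    ∃ c ∈ Fx φ, (∃ y ∈ centralizer (K : Set G), c = x * y) ∧
      ∀ L : Subgroup G, IsComponent L → (∀ a, φ a • K ≠ L) → c ∈ centralizer (L : Set G) := by
  classical
  have := Fintype.ofFinite A
  have hm : ∀ a, φ a x ∈ φ a • K := fun a => smul_mem_pointwise_smul x (φ a) K hx
  have hc : ∀ a b, φ a x * φ b x = φ b x * φ a x := fun a b => by
    by_cases h : φ a • K = φ b • K
    · have : φ (b⁻¹ * a) x = x := hfix _ (by rw [map_mul, mul_smul, h, ← mul_smul, ← map_mul]; simp)
      have : φ a x = φ b x := by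
        conv_rhs => rw [← this, ← MulAut.mul_apply, ← map_mul, mul_inv_cancel_left]
      rw [this]
    · exact (((hK.smul _).le_centralizer_of_ne (hK.smul _) h) (hm a) _ (hm b)).symm
  let W : Subgroup G := closure (Set.range fun a => φ a x)
  have hW : IsMulCommutative W := Subgroup.isMulCommutative_closure (by
    rintro _ ⟨a, rfl⟩ _ ⟨b, rfl⟩; exact hc a b)
  let _ : CommGroup W := { (inferInstance : Group W) with mul_comm := fun a b => hW.is_comm.comm a b }
  let g : A → W := fun a => ⟨φ a x, subset_closure ⟨a, rfl⟩⟩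
  have hinv : ∀ a, ∀ y ∈ W, φ a y ∈ W := fun a y hy => by
    have : W.map (φ a).toMonoidHom ≤ W := by
      rw [MonoidHom.map_closure]
      refine closure_mono ?_
      rintro _ ⟨_, ⟨b, rfl⟩, rfl⟩
      exact ⟨a * b, by simp⟩
    exact this ⟨y, hy, rfl⟩
  let c0 : W := ∏ a, g a
  have h1 : ∀ b, res φ W hinv b c0 = c0 := fun b => by
    rw [map_prod]
    refine Eq.trans (Finset.prod_congr rfl fun a _ => ?_) (Equiv.prod_comp (Equiv.mulLeft b) g)
    exact Subtype.ext (by simp [res_apply, g])
  let B : Subgroup A := (MulAction.stabilizer (MulAut G) K).comap φ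
  have h2 : ∃ y : W, (y : G) ∈ centralizer (K : Set G) ∧ c0 = g 1 ^ Nat.card B * y := by
    refine ⟨∏ a with ¬ a ∈ B, g a, ?_, ?_⟩
    · refine ((centralizer (K : Set G)).subgroupOf W).prod_mem fun a ha => ?_
      exact (hK.smul _).le_centralizer_of_ne hK (Finset.mem_filter.1 ha).2 (hm a)
    · refine (Finset.prod_filter_mul_prod_filter_not Finset.univ (fun a => a ∈ B) g).symm.trans ?_
      congr 1
      rw [Finset.prod_eq_pow_card (b := g 1), Nat.card_eq_fintype_card, Fintype.card_subtype]
      intro a ha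
      exact Subtype.ext ((hfix a (Finset.mem_filter.1 ha).2).trans (by simp [g]))
  obtain ⟨y, hy, e⟩ := h2
  obtain ⟨m, hm'⟩ := exists_pow_eq_self_of_coprime (x := x) (n := Nat.card B)
    ((cop hA hr (orderOf_dvd_natCard x)).coprime_dvd_left (card_subgroup_dvd_card B))
  refine ⟨((c0 ^ m : W) : G), (Fx φ).pow_mem (fun a => congrArg Subtype.val (h1 a)) m,
    ⟨((y ^ m : W) : G), pow_mem hy m, ?_⟩, fun L hL h => pow_mem ?_ m⟩
  · rw [e, mul_pow, Subgroup.coe_mul]
    congr 1
    simpa [g] using hm'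
  · refine ((centralizer (L : Set G)).subgroupOf W).prod_mem fun a _ => ?_
    exact (hK.smul _).le_centralizer_of_ne hL (h a) (hm a)

/-- the stabiliser of a known simple subgroup acts on it as a cyclic group -/
theorem exists_beta (φ : A →* MulAut G) (hA : ∀ a : A, a ^ r = 1) (hr : ¬ r ∣ Nat.card G) {K : Subgroup G}
    [IsSimpleGroup K] (hK : IsKnownSimple' K) :
    ∃ β : MulAut K, β ^ r = 1 ∧ ∀ x ∈ KCop.fix β, ∀ a, φ a • K = K → φ a x = x := by
  let B : Subgroup A := (MulAction.stabilizer (MulAut G) K).comap φ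
  have hB : ∀ b : B, ∀ x ∈ K, (φ.comp B.subtype) b x ∈ K := fun b x hx => by
    have h : φ b • K = K := b.2
    rw [← h]
    exact smul_mem_pointwise_smul x (φ b) K hx
  let ψ := res (φ.comp B.subtype) K hB
  have hp : ∀ z ∈ ψ.range, z ^ r = 1 := by
    rintro _ ⟨b, rfl⟩
    rw [← map_pow, show b ^ r = 1 from Subtype.ext (hA b), map_one]
  have hcyc : IsCyclic ψ.range := KOut.isCyclic_of_coprime hK (fun h => hr (h.trans (card_subgroup_dvd_card K)))
    fun z => ⟨1, Subtype.ext (by rw [pow_one]; exact hp z z.2)⟩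
  obtain ⟨β, hβ⟩ := IsCyclic.exists_generator (α := ψ.range)
  refine ⟨β, hp β β.2, fun x hx a ha => ?_⟩
  obtain ⟨k, hk⟩ := hβ ⟨ψ ⟨a, ha⟩, _, rfl⟩
  have hk' : (β : MulAut K) ^ k = ψ ⟨a, ha⟩ := congrArg Subtype.val hk
  have h : zpowers (β : MulAut K) ≤ MulAction.stabilizer (MulAut K) x := zpowers_le.2 hx
  have h' : ψ ⟨a, ha⟩ x = x := hk' ▸ h ⟨k, rfl⟩
  exact congrArg Subtype.val h'

omit [Finite A] in
theorem simple_of_fitting (hF : fittingSubgroup G = ⊥) {K : Subgroup G} (hK : IsComponent K) :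
    center K = ⊥ := by
  have h := hK.center_le_fitting
  rw [hF, ← map_center_subtype, le_bot_iff, Subgroup.map_eq_bot_iff, ker_subtype, le_bot_iff] at h
  exact h

theorem exists_wit (φ : A →* MulAut G) (hA : ∀ a : A, a ^ r = 1) (hr : ¬ r ∣ Nat.card G) {K : Subgroup G}
    (hK : IsComponent K) [IsSimpleGroup K] (hk : IsKnownSimple' K) :
    ∃ β : MulAut K, β ^ r = 1 ∧ (Group.IsNilpotent (Fx φ) → Group.IsNilpotent (KCop.fix β)) ∧
      (Group.IsSolvable (Fx φ) → Group.IsSolvable (KCop.fix β)) ∧ Nat.card (KCop.fix β) ∣ Nat.card (Fx φ) := by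
  obtain ⟨β, hβ, h⟩ := exists_beta φ hA hr hk
  have hZ : center K = ⊥ := center_eq_bot_of_isSimpleGroup hK.2.not_isMulCommutative
  let D : Subgroup (Fx φ) := (normalizer (K : Set G)).subgroupOf (Fx φ)
  let g : D →* MulAut K := K.normalizerMonoidHom.comp
    (((Fx φ).subtype.comp D.subtype).codRestrict _ fun d => d.2)
  have hg : ∀ x : KCop.fix β, (MulAut.conj.comp (KCop.fix β).subtype) x ∈ g.range := fun x => by
    obtain ⟨c, hc, ⟨y, hy, e⟩, -⟩ := exists_norm φ hA hr hK (x : K).2 (h x x.2)
    refine ⟨⟨⟨c, hc⟩, ?_⟩, MulEquiv.ext fun k => Subtype.ext ?_⟩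
    · exact e ▸ mul_mem (le_normalizer (x : K).2) (centralizer_le_normalizer _ hy)
    · show c * k * c⁻¹ = ((x : K) : G) * k * ((x : K) : G)⁻¹
      rw [e, mul_assoc _ y, ← hy k k.2]
      group
  let i : KCop.fix β →* g.range := (MulAut.conj.comp (KCop.fix β).subtype).codRestrict _ hg
  have hi : Function.Injective i := by
    rw [injective_iff_map_eq_one]
    intro x hx
    have hx' : MulAut.conj (x : K) = 1 := congrArg Subtype.val hx
    have : (x : K) ∈ center K := mem_center_iff.2 fun k => by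
      have := congrArg (fun f : MulAut K => f k) hx'
      simp only [MulAut.conj_apply, MulAut.one_apply] at this
      rw [← mul_inv_eq_iff_eq_mul.1 this]
    rw [hZ] at this
    exact Subtype.ext this
  refine ⟨β, hβ, fun _ => ?_, fun _ => ?_, ?_⟩
  · have : Group.IsNilpotent g.range := nilpotent_of_surjective _ g.rangeRestrict_surjective
    exact Subgroup.isNilpotent_of_ker_le_center i (by rw [(MonoidHom.ker_eq_bot_iff i).2 hi]; exact bot_le)
  · have : Group.IsSolvable g.range := solvable_of_surjective g.rangeRestrict_surjective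
    exact solvable_of_solvable_injective hi
  · exact (card_dvd_of_injective i hi).trans ((card_dvd_of_surjective _ g.rangeRestrict_surjective).trans
      (card_subgroup_dvd_card D))

omit [Finite A] in
theorem card_quot_lt {N : Subgroup G} [N.Normal] (h : N ≠ ⊥) : Nat.card (G ⧸ N) < Nat.card G := by
  rw [← N.index_eq_card, ← N.index_mul_card]
  exact lt_mul_of_one_lt_right (Nat.pos_of_ne_zero FiniteIndex.index_ne_zero) ((one_lt_card_iff_ne_bot N).2 h)

omit [Finite A] [Finite G] [Fact r.Prime] in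
theorem not_dvd_quot (hr : ¬ r ∣ Nat.card G) (N : Subgroup G) [N.Normal] : ¬ r ∣ Nat.card (G ⧸ N) :=
  fun h => hr (h.trans (card_quotient_dvd_card N))

/-- nilpotent or odd fixed points force solvability -/
theorem isSolvable_of_fix (hA : ∀ a : A, a ^ r = 1) (n : ℕ) : ∀ (G : Type u) [Group G] [Finite G]
    (φ : A →* MulAut G), Nat.card G = n → ¬ r ∣ Nat.card G → IsKGroup G →
    Group.IsNilpotent (Fx φ) ∨ Odd (Nat.card (Fx φ)) → Group.IsSolvable G := by
  induction n using Nat.strong_induction_on with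
  | _ n ih =>
  intro G _ _ φ hn hr hG hC
  by_cases hF : fittingSubgroup G = ⊥
  · by_cases hE : layer G = ⊥
    · have : Subsingleton G := fstar_eq_bot_iff.1 ((fstar_eq_layer_of_fitting_eq_bot hF).trans hE)
      infer_instance
    obtain ⟨K, hK⟩ := hasComponent_iff_layer_ne_bot.2 hE
    have hs := hK.2.isSimpleGroup_of_center_eq_bot (simple_of_fitting hF hK)
    have hna := hK.2.not_isMulCommutative
    have hk := KG.known_of_isSimpleGroup (KG.isKGroup_subgroup hG K) hs hna
    have hr' : ¬ r ∣ Nat.card K := fun h => hr (h.trans (card_subgroup_dvd_card K))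
    obtain ⟨β, hβ, h1, -, h3⟩ := exists_wit φ hA hr hK hk
    rcases hC with hC | hC
    · exact absurd (h1 hC) (KCop.not_isNilpotent hk hna hr' hβ)
    · exact absurd ((KCop.two_dvd hk hna hr' hβ).trans h3) hC.not_two_dvd_nat
  · have := fittingSubgroup_characteristic G
    have := isNilpotent_fittingSubgroup G
    have hq := Fx_quot φ hA hr (fittingSubgroup G) (inv_char φ _)
    have : Group.IsSolvable (G ⧸ fittingSubgroup G) := by
      refine ih _ (hn ▸ card_quot_lt hF) _ (quot φ _ (inv_char φ _)) rfl (not_dvd_quot hr _)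
        (KG.isKGroup_quotient hG _) ?_
      rw [hq]
      rcases hC with hC | hC
      · exact Or.inl (nilpotent_of_surjective _ (MonoidHom.subgroupMap_surjective _ _))
      · exact Or.inr (hC.of_dvd_nat (card_dvd_of_surjective _ (MonoidHom.subgroupMap_surjective _ _)))
    exact solvable_of_ker_le_range (fittingSubgroup G).subtype (QuotientGroup.mk' (fittingSubgroup G)) (by simp)

omit [Finite A] [Finite G] [Fact r.Prime] in
theorem rankOne_congr {X Y : Type*} [Group X] [Group Y] (e : X ≃* Y) (h : IsRankOneOverDegreeRField r X) :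
    IsRankOneOverDegreeRField r Y := by
  rcases h with ⟨F, _, _, h, ⟨f⟩⟩ | ⟨F, _, _, h, ⟨f⟩⟩ | ⟨F, _, _, h, ⟨f⟩⟩ | ⟨F, _, _, m, hm, h, ⟨f⟩⟩
  · exact .inl ⟨F, _, _, h, ⟨e.symm.trans f⟩⟩
  · exact .inr (.inl ⟨F, _, _, h, ⟨e.symm.trans f⟩⟩)
  · exact .inr (.inr (.inl ⟨F, _, _, h, ⟨e.symm.trans f⟩⟩))
  · exact .inr (.inr (.inr ⟨F, _, _, m, hm, h, ⟨e.symm.trans f⟩⟩))

/-- solvable fixed points restrict the composition factors -/
theorem rankOne_of_fix (hA : ∀ a : A, a ^ r = 1) {S : Type*} [Group S] [IsSimpleGroup S]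
    (hS : ¬ IsMulCommutative S) (n : ℕ) : ∀ (G : Type u) [Group G] [Finite G]
    (φ : A →* MulAut G), Nat.card G = n → ¬ r ∣ Nat.card G → IsKGroup G → Group.IsSolvable (Fx φ) →
    ∀ H : Subgroup G, H.IsSubnormal → ∀ f : H →* S, Function.Surjective f → IsRankOneOverDegreeRField r S := by
  induction n using Nat.strong_induction_on with
  | _ n ih =>
  intro G _ _ φ hn hr hG hC H hH f hf
  have key : ∀ (N : Subgroup G) [N.Characteristic], N ≠ ⊥ → N.subgroupOf H ≤ f.ker →
      IsRankOneOverDegreeRField r S := fun N _ hN hk => by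
    have hπ := MonoidHom.subgroupMap_surjective (QuotientGroup.mk' N) H
    have hk' : ((QuotientGroup.mk' N).subgroupMap H).ker ≤ f.ker := fun x hx =>
      hk ((QuotientGroup.eq_one_iff (x : G)).1 (congrArg Subtype.val hx))
    refine ih _ (hn ▸ card_quot_lt hN) _ (quot φ N (inv_char φ _)) rfl (not_dvd_quot hr _)
      (KG.isKGroup_quotient hG _) ?_ _ (hH.map (QuotientGroup.mk'_surjective N))
      (MonoidHom.liftOfSurjective _ hπ ⟨f, hk'⟩) fun s => ?_
    · rw [Fx_quot φ hA hr]
      exact solvable_of_surjective (MonoidHom.subgroupMap_surjective _ _)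
    · obtain ⟨x, rfl⟩ := hf s
      exact ⟨_, MonoidHom.liftOfRightInverse_comp_apply _ _ _ ⟨f, hk'⟩ x⟩
  have hq := isQuasisimple_of_isSimpleGroup hS
  by_cases hF : fittingSubgroup G = ⊥
  · by_cases hE : (layer G).subgroupOf H ≤ f.ker
    · refine key _ (fun h => ?_) hE
      have : Subsingleton G := fstar_eq_bot_iff.1 ((fstar_eq_layer_of_fitting_eq_bot hF).trans h)
      have := hf.subsingleton
      exact not_nontrivial S inferInstance
    have : ∃ K : Subgroup G, IsComponent K ∧ K ≤ H ∧ ¬ K.subgroupOf H ≤ f.ker := by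
      by_contra! hc
      apply hE
      have h1 := inf_layer_eq (N := H) fun K hK => hK.le_or_commutator_eq_bot hH
      rw [center_layer_eq_inf, hF, bot_inf_eq, inf_bot_eq, sup_bot_eq] at h1
      rw [← inf_subgroupOf_left, h1, ← map_le_map_iff_of_injective H.subtype_injective,
        subgroupOf_map_subtype]
      refine inf_le_left.trans (sSup_le fun K hK => ?_)
      rw [← map_subgroupOf_eq_of_le hK.2]
      exact map_mono (hc K hK.1 hK.2)
    obtain ⟨K, hK, hle, hne⟩ := this
    have hs := hK.2.isSimpleGroup_of_center_eq_bot (simple_of_fitting hF hK)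
    have hna := hK.2.not_isMulCommutative
    have hk := KG.known_of_isSimpleGroup (KG.isKGroup_subgroup hG K) hs hna
    have hr' : ¬ r ∣ Nat.card K := fun h => hr (h.trans (card_subgroup_dvd_card K))
    obtain ⟨β, hβ, -, h2, -⟩ := exists_wit φ hA hr hK hk
    let g : K →* S := f.comp (inclusion hle)
    have hg1 : Function.Injective g := by
      refine (MonoidHom.ker_eq_bot_iff g).1 (g.normal_ker.eq_bot_or_eq_top.resolve_right fun h => hne fun x hx => ?_)
      exact (h ▸ mem_top (⟨x, hx⟩ : K) : (⟨x, hx⟩ : K) ∈ g.ker)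
    have hg2 : Function.Surjective g := by
      have := (IsSubnormal.eq_bot_or_top_of_isSimpleGroup inferInstance
        ((hK.1.subgroupOf (K := H)).map hf)).resolve_left fun h => hne ((Subgroup.map_eq_bot_iff _).1 h)
      intro s
      obtain ⟨x, hx, rfl⟩ : s ∈ (K.subgroupOf H).map f := this ▸ mem_top s
      exact ⟨⟨x, hx⟩, rfl⟩
    exact rankOne_congr (MulEquiv.ofBijective g ⟨hg1, hg2⟩) (KCop.rankOne_of_isSolvable hk hna hr' hβ (h2 hC))
  · have := fittingSubgroup_characteristic G
    refine key _ hF ?_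
    rw [← Subgroup.map_eq_bot_iff]
    refine (Normal.map inferInstance f hf).eq_bot_or_eq_top.resolve_right fun h => hq.not_isSolvable ?_
    have := isNilpotent_fittingSubgroup G
    have : Group.IsSolvable ((fittingSubgroup G).subgroupOf H) :=
      solvable_of_solvable_injective (f := (H.subtype.comp (Subgroup.subtype _)).codRestrict (fittingSubgroup G)
        fun x => x.2) fun a b e => Subtype.ext (Subtype.ext (congrArg (fun t : fittingSubgroup G => (t : G)) e))
    refine solvable_of_surjective (f := f.comp ((fittingSubgroup G).subgroupOf H).subtype) fun s => ?_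
    obtain ⟨x, hx, rfl⟩ : s ∈ ((fittingSubgroup G).subgroupOf H).map f := h ▸ mem_top s
    exact ⟨⟨x, hx⟩, rfl⟩

/-- a central element of the fixed points centralises every known simple component -/
theorem mem_centralizer_component (φ : A →* MulAut G) (hA : ∀ a : A, a ^ r = 1) (hr : ¬ r ∣ Nat.card G)
    {K : Subgroup G} (hK : IsComponent K) [IsSimpleGroup K] (hk : IsKnownSimple' K) {z : G} (hz : z ∈ Fx φ)
    (hzc : z ∈ centralizer (Fx φ : Set G)) : z ∈ centralizer (K : Set G) := by
  have hna := hK.2.not_isMulCommutative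
  have hr' : ¬ r ∣ Nat.card K := fun h => hr (h.trans (card_subgroup_dvd_card K))
  have hZ : center K = ⊥ := center_eq_bot_of_isSimpleGroup hna
  have hZ' : ∀ x : K, (x : G) ∈ centralizer (K : Set G) → x = 1 := fun x hx => by
    have : x ∈ center K := mem_center_iff.2 fun k => Subtype.ext (hx k k.2)
    rwa [hZ] at this
  obtain ⟨β, hβ, h⟩ := exists_beta φ hA hr hk
  have hco : (orderOf z).Coprime r :=
    (((Nat.Prime.coprime_iff_not_dvd Fact.out).2 hr).coprime_dvd_right (orderOf_dvd_natCard z)).symm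
  have hn : z ∈ normalizer (K : Set G) := by
    have : Nontrivial (KCop.fix β) := by
      rw [← Finite.one_lt_card_iff_nontrivial]
      exact Nat.le_of_dvd Nat.card_pos (KCop.two_dvd hk hna hr' hβ)
    obtain ⟨x, hx⟩ := exists_ne (1 : KCop.fix β)
    obtain ⟨c, hc, ⟨y, hy, e⟩, hL⟩ := exists_norm φ hA hr hK (x : K).2 (h x x.2)
    have : ∃ a, φ a • K = MulAut.conj z • K := by
      by_contra! hne
      have h1 := hL _ (hK.smul (MulAut.conj z)) hne
      refine hx (Subtype.ext (hZ' _ fun k hk => ?_))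
      have h2 := h1 _ (smul_mem_pointwise_smul k (MulAut.conj z) K hk)
      have h3 : c * z = z * c := hzc c hc
      have h4 : k * c = c * k := by
        simp only [MulAut.smul_def, MulAut.conj_apply] at h2
        calc k * c = z⁻¹ * (z * k * z⁻¹ * (z * c) * z⁻¹) * z := by group
          _ = z⁻¹ * (z * k * z⁻¹ * c) * z := by rw [← h3]; group
          _ = z⁻¹ * (c * z) * k := by rw [h2]; group
          _ = c * k := by rw [h3]; group
      rw [e, mul_assoc _ y, ← hy k hk, ← mul_assoc, ← mul_assoc] at h4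
      exact mul_right_cancel h4
    obtain ⟨a, ha⟩ := this
    have hcm : Commute (φ a) (MulAut.conj z) := MulEquiv.ext fun g => by simp [hz a]
    have h1 : ∀ m : ℕ, φ a ^ m • K = MulAut.conj z ^ m • K := fun m => by
      induction m with
      | zero => simp
      | succ m ih => rw [pow_succ', mul_smul, ih, ← mul_smul, (hcm.pow_right m).eq, mul_smul, ha, ← mul_smul,
          ← pow_succ]
    have h2 : z ^ r ∈ normalizer (K : Set G) := by
      rw [mem_normalizer_iff_conj_smul_eq, map_pow, ← h1, ← map_pow, hA, map_one, one_smul]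
    obtain ⟨m, hm⟩ := exists_pow_eq_self_of_coprime hco.symm
    exact hm ▸ pow_mem h2 m
  have h1 : K.normalizerMonoidHom ⟨z, hn⟩ = 1 := by
    refine KCop.eq_one hk hna hr' hβ (hco.coprime_dvd_left ((orderOf_map_dvd _ _).trans ?_)) fun x hx => ?_
    · rw [← orderOf_coe]
    obtain ⟨c, hc, ⟨y, hy, e⟩, -⟩ := exists_norm φ hA hr hK x.2 (h x hx)
    rw [← mul_inv_eq_one]
    refine hZ' _ fun k hk => ?_
    have h3 : c * z = z * c := hzc c hc
    have hy' : z * y * z⁻¹ ∈ centralizer (K : Set G) := fun k hk => by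
      have := hy _ (mem_normalizer_iff''.1 hn k |>.1 hk)
      calc k * (z * y * z⁻¹) = z * (z⁻¹ * k * z * y) * z⁻¹ := by group
        _ = z * y * z⁻¹ * k := by rw [this]; group
    have h4 : z * x * z⁻¹ * (x : G)⁻¹ = x * (y * (z * y * z⁻¹)⁻¹) * (x : G)⁻¹ := by
      calc z * x * z⁻¹ * (x : G)⁻¹ = z * (x * y) * z⁻¹ * (z * y * z⁻¹)⁻¹ * (x : G)⁻¹ := by group
        _ = x * y * (z * y * z⁻¹)⁻¹ * (x : G)⁻¹ := by rw [← e, ← h3]; group
        _ = _ := by group
    have h5 := mul_mem hy (inv_mem hy')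
    show k * (z * x * z⁻¹ * (x : G)⁻¹) = z * x * z⁻¹ * (x : G)⁻¹ * k
    rw [h4, h5 x x.2, mul_inv_cancel_right]
    exact h5 k hk
  intro k hk
  have : z * k * z⁻¹ = k := congrArg Subtype.val (congrArg (fun f : MulAut K => f ⟨k, hk⟩) h1)
  exact (mul_inv_eq_iff_eq_mul.1 this).symm

/-- the centre of the fixed points has solvable normal closure -/
theorem isSolvable_normalClosure (hA : ∀ a : A, a ^ r = 1) (n : ℕ) : ∀ (G : Type u) [Group G] [Finite G]
    (φ : A →* MulAut G), Nat.card G = n → ¬ r ∣ Nat.card G → IsKGroup G →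
    Group.IsSolvable (normalClosure ((Fx φ ⊓ centralizer (Fx φ : Set G) : Subgroup G) : Set G)) := by
  induction n using Nat.strong_induction_on with
  | _ n ih =>
  intro G _ _ φ hn hr hG
  by_cases hF : fittingSubgroup G = ⊥
  · have : Fx φ ⊓ centralizer (Fx φ : Set G) ≤ ⊥ := by
      rw [← hF]
      refine le_trans ?_ centralizer_fstar_le_fitting
      rw [fstar_eq_layer_of_fitting_eq_bot hF, le_centralizer_iff, layer_le_iff]
      intro K hK
      have hs := hK.2.isSimpleGroup_of_center_eq_bot (simple_of_fitting hF hK)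
      rw [le_centralizer_iff]
      exact fun z hz => mem_centralizer_component φ hA hr hK (KG.known_of_isSimpleGroup
        (KG.isKGroup_subgroup hG K) hs hK.2.not_isMulCommutative) hz.1 hz.2
    exact isSolvable_of_le (normalClosure_le_normal this) inferInstance
  · have := fittingSubgroup_characteristic G
    have := isNilpotent_fittingSubgroup G
    have h1 := ih _ (hn ▸ card_quot_lt hF) _ (quot φ _ (inv_char φ _)) rfl (not_dvd_quot hr _)
        (KG.isKGroup_quotient hG _)
    rw [Fx_quot φ hA hr] at h1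
    set M := normalClosure (((Fx φ).map (QuotientGroup.mk' (fittingSubgroup G)) ⊓ centralizer
      (((Fx φ).map (QuotientGroup.mk' (fittingSubgroup G)) : Subgroup _) : Set (G ⧸ fittingSubgroup G)) :
        Subgroup _) : Set (G ⧸ fittingSubgroup G))
    have h2 : Group.IsSolvable (M.comap (QuotientGroup.mk' (fittingSubgroup G))) := by
      refine solvable_of_ker_le_range (inclusion (H := fittingSubgroup G) fun x hx => ?_)
        ((QuotientGroup.mk' (fittingSubgroup G)).subgroupComap M) fun x hx => ?_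
      · rw [mem_comap, QuotientGroup.mk'_apply, (QuotientGroup.eq_one_iff x).2 hx]
        exact one_mem _
      · exact ⟨⟨x, (QuotientGroup.eq_one_iff _).1 (congrArg Subtype.val hx)⟩, rfl⟩
    refine isSolvable_of_le (normalClosure_le_normal fun z hz => ?_) h2
    refine mem_comap.2 (subset_normalClosure (mem_inf.2 ⟨⟨z, hz.1, rfl⟩, ?_⟩))
    rintro _ ⟨c, hc, rfl⟩
    rw [← map_mul, ← map_mul, hz.2 c hc]

section ambient

omit [Finite A] [Finite G]

variable {X : Type u} [Group X] {A G : Subgroup X}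

/-- the action of `A ≤ N(G)` on `G` -/
def act (h : A ≤ normalizer (G : Set X)) : A →* MulAut G := G.normalizerMonoidHom.comp (inclusion h)

theorem Fx_act (h : A ≤ normalizer (G : Set X)) :
    Fx (act h) = (G ⊓ centralizer (A : Set X)).subgroupOf G := by
  ext g
  rw [inf_subgroupOf_left, mem_subgroupOf, mem_centralizer_iff, mem_Fx]
  refine ⟨fun hg a ha => ?_, fun hg a => Subtype.ext ?_⟩
  · exact mul_inv_eq_iff_eq_mul.1 (congrArg Subtype.val (hg ⟨a, ha⟩))
  · exact mul_inv_eq_iff_eq_mul.2 (hg a a.2)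

/-- the fixed points in the ambient group -/
def fxEquiv (h : A ≤ normalizer (G : Set X)) : Fx (act h) ≃* (G ⊓ centralizer (A : Set X) : Subgroup X) :=
  (MulEquiv.subgroupCongr (Fx_act h)).trans (subgroupOfEquivOfLe inf_le_left)

theorem bot_or_not_dvd [Finite X] (hA : IsElementaryAbelian r A) (hcop : (Nat.card A).Coprime (Nat.card G)) :
    A = ⊥ ∨ ¬ r ∣ Nat.card G := by
  refine or_iff_not_imp_left.2 fun h => (Nat.Prime.coprime_iff_not_dvd Fact.out).1 (hcop.coprime_dvd_left ?_)
  obtain ⟨a, ha⟩ := (nontrivial_iff_exists_ne_one A).1 ((nontrivial_iff_ne_bot A).2 h)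
  rw [← orderOf_eq_prime (hA.2 a ha.1) ha.2]
  exact A.orderOf_dvd_natCard ha.1

end ambient

end CL.CopF
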