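import Cfsg.Agent.SIG.KMSymp
import Cfsg.Agent.SOLV.CoprimeGen
import Cfsg.Agent.SOLV.CoprimeSylow
import Cfsg.Agent.SOLV.Core
import Cfsg.Agent.SOLV.PGroupCyclicMax
import Cfsg.Agent.PLOC.Critical
import Cfsg.Prelude.Def_LocalEven

/-! Klinger-Mason method, part 1: dihedral-lemma type bounds. -/

set_option autoImplicit false
open Subgroup Cfsg CL
open scoped commutatorElement

namespace CL.KM
variable {G : Type*} [Group G]

/-- elementary abelian `q`-subgroup, elementwise -/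
def EA (q : ℕ) (A : Subgroup G) : Prop :=
  (∀ a ∈ A, ∀ b ∈ A, Commute a b) ∧ ∀ a ∈ A, a ^ q = 1

theorem EA.isPGroup {q : ℕ} {A : Subgroup G} (h : EA q A) : IsPGroup q A := fun a =>
  ⟨1, Subtype.ext (by simpa using h.2 a a.2)⟩

theorem EA.comm {q : ℕ} {A : Subgroup G} (h : EA q A) : IsMulCommutative A :=
  ⟨⟨fun a b => Subtype.ext (h.1 a a.2 b b.2)⟩⟩

theorem EA.mono {q : ℕ} {A B : Subgroup G} (h : EA q A) (hB : B ≤ A) : EA q B :=
  ⟨fun a ha b hb => h.1 a (hB ha) b (hB hb), fun a ha => h.2 a (hB ha)⟩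

theorem mem_cent {S : Set G} {x : G} : x ∈ centralizer S ↔ ∀ s ∈ S, Commute s x :=
  mem_centralizer_iff

theorem mem_cent1 {s x : G} : x ∈ centralizer ({s} : Set G) ↔ Commute s x := by
  simp [mem_cent]

theorem ea_closure {q : ℕ} (S : Set G) (hc : ∀ a ∈ S, ∀ b ∈ S, Commute a b)
    (hq : ∀ a ∈ S, a ^ q = 1) : EA q (closure S) := by
  have h1 : ∀ a ∈ S, ∀ b ∈ closure S, Commute a b := fun a ha b hb =>
    mem_cent1.1 ((closure_le (centralizer ({a} : Set G))).2 (fun s hs => mem_cent1.2 (hc a ha s hs)) hb)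
  have h2 : ∀ a ∈ closure S, ∀ b ∈ closure S, Commute a b := fun a ha b hb =>
    (mem_cent1.1 ((closure_le (centralizer ({b} : Set G))).2
      (fun s hs => mem_cent1.2 (h1 s hs b hb).symm) ha)).symm
  refine ⟨h2, fun a ha => ?_⟩
  induction ha using closure_induction with
  | mem x hx => exact hq x hx
  | one => simp
  | mul x y hx hy ihx ihy => rw [(h2 x hx y hy).mul_pow, ihx, ihy, one_mul]
  | inv x hx ih => rw [inv_pow, ih, inv_one]

theorem EA.sup_zpowers {q : ℕ} {A : Subgroup G} (h : EA q A) {y : G} (hy : y ^ q = 1)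
    (hc : ∀ a ∈ A, Commute a y) : EA q (A ⊔ zpowers y) := by
  have : A ⊔ zpowers y = closure (insert y (A : Set G)) := by
    rw [Set.insert_eq, Subgroup.closure_union, closure_eq, zpowers_eq_closure, sup_comm]
  rw [this]
  refine ea_closure _ ?_ ?_
  · rintro a (rfl | ha) b (rfl | hb)
    · exact Commute.refl _
    · exact (hc b hb).symm
    · exact hc a ha
    · exact h.1 a ha b hb
  · rintro a (rfl | ha)
    · exact hy
    · exact h.2 a ha

theorem conj_mem {A : Subgroup G} {g x : G} (hg : g ∈ normalizer (A : Set G)) (hx : x ∈ A) :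
    g * x * g⁻¹ ∈ A := (mem_normalizer_iff.1 hg x).1 hx

theorem mem_norm [Finite G] {A : Subgroup G} {g : G} (h : ∀ x ∈ A, g * x * g⁻¹ ∈ A) :
    g ∈ normalizer (A : Set G) := Subgroup.mem_normalizer_fintype h

theorem comm_conj {g x y : G} (h : Commute x y) : Commute (g * x * g⁻¹) (g * y * g⁻¹) := by
  simpa using h.map (MulAut.conj g)

theorem conj_mem_cent {A : Subgroup G} {g x : G} (hg : g ∈ normalizer (A : Set G))
    (hx : x ∈ centralizer (A : Set G)) : g * x * g⁻¹ ∈ centralizer (A : Set G) := by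
  refine mem_cent.2 fun s hs => ?_
  have := comm_conj (g := g) (mem_cent.1 hx _ (conj_mem (inv_mem hg) hs))
  simpa [mul_assoc] using this

theorem norm_inf_cent [Finite G] {A B : Subgroup G} {g : G} (hA : g ∈ normalizer (A : Set G))
    (hB : g ∈ normalizer (B : Set G)) :
    g ∈ normalizer ((A ⊓ centralizer (B : Set G) : Subgroup G) : Set G) :=
  mem_norm fun _ hx => ⟨conj_mem hA hx.1, conj_mem_cent hB hx.2⟩

theorem cent_le_norm {A : Subgroup G} {g : G} (h : ∀ a ∈ A, Commute a g) :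
    g ∈ normalizer (A : Set G) := centralizer_le_normalizer _ (mem_cent.2 h)

theorem commute_of_sq {a w : G} {p : ℕ} (hp : Odd p) (ha : a ^ p = 1) (h : Commute (a * a) w) :
    Commute a w := by
  obtain ⟨k, rfl⟩ := hp
  have : a = ((a * a) ^ k)⁻¹ := by
    rw [eq_inv_iff_mul_eq_one, ← sq, ← pow_mul, ← pow_succ', ha]
  rw [this]
  exact (h.pow_left k).inv_left

theorem mul_card_le_of_lt [Finite G] {p : ℕ} [hp : Fact p.Prime] {H K : Subgroup G}
    (hK : IsPGroup p K) (h : H < K) : p * Nat.card H ≤ Nat.card K := by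
  obtain ⟨n, hn⟩ := hK.exists_card_eq
  obtain ⟨m, hm⟩ := (hK.to_le h.le).exists_card_eq
  have hlt : Nat.card H < Nat.card K := by
    refine lt_of_le_of_ne (Subgroup.card_le_of_le h.le) fun he => h.ne ?_
    exact Subgroup.eq_of_le_of_card_ge h.le he.ge
  rw [hn, hm] at hlt ⊢
  rw [← pow_succ']
  exact Nat.pow_le_pow_right hp.out.pos ((Nat.pow_lt_pow_iff_right hp.out.one_lt).1 hlt)

theorem card_eq_mul {A B : Subgroup G} {q : ℕ} (hB : B ≤ A) (h : B.relIndex A = q) :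
    Nat.card A = q * Nat.card B := by
  rw [← h, relIndex, mul_comm, ← Subgroup.card_mul_index (B.subgroupOf A),
    Nat.card_congr (subgroupOfEquivOfLe hB).toEquiv]

/-- hyperplane lemma -/
theorem exists_hyp [Finite G] {q r : ℕ} [hq : Fact q.Prime] [Fact r.Prime] (hqr : q ≠ r)
    {A K : Subgroup G} (hA : EA q A) (hK : IsPGroup r K) (hAK : A ≤ normalizer (K : Set G))
    {v k : G} (hv : v ∈ A) (hk : k ∈ K) (hvk : ¬ Commute v k) :
    ∃ B : Subgroup G, B ≤ A ∧ B.relIndex A = q ∧ v ∉ B ∧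
      ∃ c ∈ K ⊓ centralizer (B : Set G), ¬ Commute v c := by
  by_contra hcon
  push Not at hcon
  have := hA.comm
  have hA0 : A ≠ ⊥ := by
    rintro rfl
    rw [mem_bot.1 hv] at hvk
    exact hvk (Commute.one_left _)
  have := coprime_le_of_forall_hyperplane A K (centralizer ({v} : Set G)) hq.out hA.2 hA0 hAK
    (IsPGroup.coprime_card_of_ne q r hqr A K hA.isPGroup hK) (fun B hB hi c hc => by
      by_cases hvB : v ∈ B
      · exact mem_cent1.2 (mem_cent.1 hc.2 v hvB)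
      · exact mem_cent1.2 (hcon B hB hi hvB c hc))
  exact hvk (mem_cent1.1 (this hk))

theorem eq_one_of_two_primes {p : ℕ} [hp : Fact p.Prime] (hp2 : p ≠ 2) {x : G} {k l : ℕ}
    (h1 : x ^ p ^ k = 1) (h2 : x ^ 2 ^ l = 1) : x = 1 := by
  have := pow_gcd_eq_one.2 ⟨h1, h2⟩
  rwa [Nat.Coprime.gcd_eq_one (Nat.Coprime.pow _ _
    ((Nat.coprime_primes hp.out Nat.prime_two).2 hp2)), pow_one] at this

theorem pg_elem {p : ℕ} {P : Subgroup G} (hP : IsPGroup p P) {x : G} (hx : x ∈ P) :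
    ∃ k, x ^ p ^ k = 1 := by
  obtain ⟨k, hk⟩ := hP ⟨x, hx⟩
  exact ⟨k, by simpa using congrArg Subtype.val hk⟩

theorem exists_pow_order {p : ℕ} {x : G} (hx : x ≠ 1) {k : ℕ} (h : x ^ p ^ k = 1) :
    ∃ j, x ^ j ≠ 1 ∧ (x ^ j) ^ p = 1 := by
  induction k with
  | zero => exact (hx (by simpa using h)).elim
  | succ k ih =>
    by_cases h' : x ^ p ^ k = 1
    · exact ih h'
    · exact ⟨p ^ k, h', by rw [← pow_mul, ← pow_succ, h]⟩

/-- the local characteristic hypothesis in ambient form -/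
theorem core_ambient [Finite G] {p : ℕ} {D : Subgroup G} (hD : IsPGroup p D)
    (h : centralizer (pCore p ↥(normalizer (D : Set G)) : Set ↥(normalizer (D : Set G))) ≤
        pCore p ↥(normalizer (D : Set G))) :
    ∃ P : Subgroup G, IsPGroup p P ∧ D ≤ P ∧ P ≤ normalizer (D : Set G) ∧
      normalizer (D : Set G) ≤ normalizer (P : Set G) ∧
      ∀ x ∈ normalizer (D : Set G), x ∈ centralizer (P : Set G) → x ∈ P := by
  refine ⟨(pCore p ↥(normalizer (D : Set G))).map (normalizer (D : Set G)).subtype,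
    isPGroup_map_pCore _, le_map_pCore le_normalizer le_rfl hD, map_subtype_le _,
    le_normalizer.trans (normalizer_le_normalizer_map_pCore _), fun x hx hc => ?_⟩
  refine ⟨⟨x, hx⟩, h (mem_cent.2 fun s hs => Subtype.ext ?_), rfl⟩
  exact mem_cent.1 hc _ ⟨s, hs, rfl⟩

/-- Thompson dihedral lemma, weak form -/
theorem exists_E [Finite G] {p : ℕ} [hp : Fact p.Prime] (hp2 : p ≠ 2)
    (hGp : IsOfLocalCharacteristic p G) {D V : Subgroup G} (hD : EA p D) (hD0 : D ≠ ⊥)
    (hV : EA 2 V) (hVD : V ≤ centralizer (D : Set G)) :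
    ∃ E : Subgroup G, EA p E ∧ D ≤ E ∧ V ≤ normalizer (E : Set G) ∧
      ∀ v ∈ V, v ∈ centralizer (E : Set G) → v = 1 := by
  obtain ⟨P, hP, hDP, -, hNP, hCP⟩ := core_ambient hD.isPGroup (hGp.2 D hD.isPGroup hD0)
  have hVN : V ≤ normalizer (D : Set G) := hVD.trans (centralizer_le_normalizer _)
  obtain ⟨E, ⟨hE, hDE, hEP, hVE⟩, hmax⟩ := Set.Finite.exists_maximal
    (s := {E : Subgroup G | EA p E ∧ D ≤ E ∧ E ≤ P ∧ V ≤ normalizer (E : Set G)})
    (Set.toFinite _) ⟨D, hD, le_rfl, hDP, hVN⟩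
  refine ⟨E, hE, hDE, hVE, fun v hv hvE => ?_⟩
  have v2 : v * v = 1 := by rw [← sq]; exact hV.2 v hv
  have vi : v⁻¹ = v := inv_eq_of_mul_eq_one_right v2
  have hC : ∀ k ∈ P ⊓ centralizer (E : Set G), Commute v k := by
    intro k hk
    by_contra hvk
    obtain ⟨H, hHV, hi, hvH, c, ⟨hc, hcH⟩, hvc⟩ := exists_hyp (Ne.symm hp2) hV
      (hP.to_le (inf_le_left : P ⊓ centralizer (E : Set G) ≤ P))
      (fun g hg => norm_inf_cent (hNP (hVN hg)) (hVE hg)) hv hk hvk
    have hvn : v ∈ normalizer (((P ⊓ centralizer (E : Set G)) ⊓ centralizer (H : Set G) :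
        Subgroup G) : Set G) :=
      norm_inf_cent (norm_inf_cent (hNP (hVN hv)) (hVE hv))
        (cent_le_norm fun a ha => hV.1 a (hHV ha) v hv)
    have hx : c⁻¹ * (v * c * v⁻¹) ∈ (P ⊓ centralizer (E : Set G)) ⊓ centralizer (H : Set G) :=
      mul_mem (inv_mem ⟨hc, hcH⟩) (conj_mem hvn ⟨hc, hcH⟩)
    have hx1 : c⁻¹ * (v * c * v⁻¹) ≠ 1 := fun h => hvc (by
      rw [inv_mul_eq_one, eq_mul_inv_iff_mul_eq] at h; exact h.symm)
    have hinv : v * (c⁻¹ * (v * c * v⁻¹)) * v⁻¹ = (c⁻¹ * (v * c * v⁻¹))⁻¹ := by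
      rw [vi]
      simp only [mul_inv_rev, inv_inv, vi, mul_assoc, v2, mul_one]
    generalize c⁻¹ * (v * c * v⁻¹) = x at hx hx1 hinv
    obtain ⟨k, hk⟩ := pg_elem hP hx.1.1
    obtain ⟨j, hj1, hjp⟩ := exists_pow_order hx1 hk
    have hy : x ^ j ∈ (P ⊓ centralizer (E : Set G)) ⊓ centralizer (H : Set G) := pow_mem hx j
    have hyi : v * x ^ j * v⁻¹ = (x ^ j)⁻¹ := by rw [← conj_pow, hinv, inv_pow]
    generalize x ^ j = y at hy hyi hj1 hjp
    have hVy : V ≤ normalizer ((zpowers y : Subgroup G) : Set G) := by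
      rw [← PCyc.sup_zpowers_eq_of_relIndex_prime Nat.prime_two hHV hi hv hvH]
      refine sup_le (fun a ha => cent_le_norm fun b hb => ?_) ((zpowers_le).2 (mem_norm ?_))
      · obtain ⟨i, rfl⟩ := mem_zpowers_iff.1 hb
        exact (mem_cent.1 hy.2 a ha).symm.zpow_left i
      · intro b hb
        obtain ⟨i, rfl⟩ := mem_zpowers_iff.1 hb
        rw [← conj_zpow, hyi]
        exact zpow_mem (inv_mem (mem_zpowers y)) i
    have hle : E ⊔ zpowers y ≤ E := hmax ⟨hE.sup_zpowers hjp (mem_cent.1 hy.1.2),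
      hDE.trans le_sup_left, sup_le hEP ((zpowers_le).2 hy.1.1),
      fun g hg => normalizer_inf_normalizer_le_normalizer_sup _ _ ⟨hVE hg, hVy hg⟩⟩ le_sup_left
    have hyE : y ∈ E := hle (mem_sup_right (mem_zpowers y))
    have : v * y * v⁻¹ = y := by rw [← (mem_cent.1 hvE y hyE).eq]; simp
    rw [this, eq_inv_iff_mul_eq_one] at hyi
    exact hj1 (eq_one_of_two_primes hp2 (k := 1) (l := 1) (by simpa using hjp)
      (by simpa [sq] using hyi))
  have hvz : EA 2 (zpowers v) := hV.mono ((zpowers_le).2 hv)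
  have := thompson_p_times_q E (zpowers v) P hE.isPGroup
    (by simpa using (IsPGroup.coprime_card_of_ne 2 p (Ne.symm hp2) (zpowers v)
      (⊤ : Subgroup (Multiplicative (ZMod p))) hvz.isPGroup
      (IsPGroup.of_card (n := 1) (by simp)))) hP
    (fun e he => mem_cent.2 fun s hs => by
      obtain ⟨i, rfl⟩ := mem_zpowers_iff.1 hs
      exact (mem_cent.1 hvE e he).symm.zpow_left i)
    (hEP.trans le_normalizer) ((zpowers_le).2 (hNP (hVN hv)))
    (fun e he => mem_cent.2 fun s hs => by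
      obtain ⟨i, rfl⟩ := mem_zpowers_iff.1 hs
      exact (hC e he).zpow_left i)
  have hvP : v ∈ P := hCP v (hVN hv) (mem_cent.2 fun s hs =>
    (mem_cent.1 (this hs) v (mem_zpowers v)).symm)
  obtain ⟨k, hk⟩ := pg_elem hP hvP
  exact eq_one_of_two_primes hp2 (l := 1) hk (by simpa [sq] using v2)

theorem step_card [Finite G] {p : ℕ} [Fact p.Prime] {E U H : Subgroup G} (hE : IsPGroup p E)
    (hHU : H ≤ U) {v c : G} (hv : v ∈ U) (hc : c ∈ E ⊓ centralizer (H : Set G))
    (hvc : ¬ Commute v c) :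
    p * Nat.card (E ⊓ centralizer (U : Set G) : Subgroup G) ≤
      Nat.card (E ⊓ centralizer (H : Set G) : Subgroup G) := by
  refine mul_card_le_of_lt (hE.to_le inf_le_left) (lt_of_le_of_ne
    (inf_le_inf_left _ (centralizer_le hHU)) fun h => hvc ?_)
  rw [← h] at hc
  exact mem_cent.1 hc.2 v hv

theorem exists_t [Finite G] {p : ℕ} [Fact p.Prime] (hp2 : p ≠ 2) {E : Subgroup G}
    (hE : IsPGroup p E) (k : ℕ) : ∀ {U : Subgroup G}, EA 2 U → U ≤ normalizer (E : Set G) →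
    (∀ v ∈ U, v ∈ centralizer (E : Set G) → v = 1) → 2 ^ k < Nat.card U →
    ∃ t ∈ U, t ≠ 1 ∧ p ^ k * Nat.card (E ⊓ centralizer (U : Set G) : Subgroup G) ≤
      Nat.card (E ⊓ centralizer ({t} : Set G) : Subgroup G) := by
  have ex : ∀ U : Subgroup G, 1 < Nat.card U → ∃ t ∈ U, t ≠ 1 := fun U h => by
    by_contra hc
    push Not at hc
    rw [(eq_bot_iff_forall U).2 hc] at h
    simp at h
  induction k with
  | zero =>
    intro U _ _ _ hk
    obtain ⟨t, ht, ht1⟩ := ex U (by simpa using hk)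
    refine ⟨t, ht, ht1, ?_⟩
    rw [pow_zero, one_mul]
    exact card_le_of_le (inf_le_inf_left _ (centralizer_le (by simpa using ht)))
  | succ k ih =>
    intro U hU hUE hf hk
    obtain ⟨v, hv, hv1⟩ := ex U (lt_of_le_of_lt (Nat.one_le_two_pow) hk)
    obtain ⟨e, he, hve⟩ : ∃ e ∈ E, ¬ Commute v e := by
      by_contra hc
      push Not at hc
      exact hv1 (hf v hv (mem_cent.2 fun s hs => (hc s hs).symm))
    obtain ⟨H, hHU, hi, -, c, hc, hvc⟩ := exists_hyp (Ne.symm hp2) hU hE hUE hv he hve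
    obtain ⟨t, ht, ht1, hle⟩ := ih (hU.mono hHU) (hHU.trans hUE) (fun v hv => hf v (hHU hv))
      (by rw [card_eq_mul hHU hi, pow_succ] at hk; omega)
    refine ⟨t, hHU ht, ht1, le_trans ?_ hle⟩
    rw [pow_succ, mul_assoc]
    exact Nat.mul_le_mul_left _ (step_card hE hHU hv hc hvc)

end CL.KM
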