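import Cfsg.Agent.SIG.KMBasic

/-! Klinger-Mason method, part 2: the symplectic-type subgroup attached to an involution. -/

set_option autoImplicit false
open Subgroup Cfsg CL
open scoped commutatorElement

namespace CL.KM
variable {G : Type*} [Group G]

theorem exists_cent_inv [Finite G] {p : ℕ} [Fact p.Prime] (hp2 : p ≠ 2)
    (hGp : IsOfLocalCharacteristic p G) {D V : Subgroup G} (hD : EA p D) (hD0 : D ≠ ⊥)
    (hV : EA 2 V) (hVD : V ≤ centralizer (D : Set G)) (k : ℕ) (hk : 2 ^ k < Nat.card V) :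
    ∃ (t : G) (A : Subgroup G), t ≠ 1 ∧ t * t = 1 ∧ EA p A ∧ (∀ a ∈ A, Commute a t) ∧
      p ^ k * Nat.card D ≤ Nat.card A := by
  obtain ⟨E, hE, hDE, hVE, hf⟩ := exists_E hp2 hGp hD hD0 hV hVD
  obtain ⟨t, ht, ht1, hle⟩ := exists_t hp2 hE.isPGroup k hV hVE hf hk
  refine ⟨t, _, ht1, by rw [← sq]; exact hV.2 t ht, hE.mono inf_le_left,
    fun a ha => (mem_cent1.1 ha.2).symm, le_trans (Nat.mul_le_mul_left _ ?_) hle⟩
  exact card_le_of_le (le_inf hDE (le_centralizer_iff.1 hVD))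

theorem card_ge_of_finset [Finite G] {V : Subgroup G} (s : Finset G) (h : ∀ x ∈ s, x ∈ V) :
    s.card ≤ Nat.card V := by
  rw [← Set.ncard_coe_finset, ← SetLike.coe_sort_coe, Nat.card_coe_set_eq]
  exact Set.ncard_le_ncard (fun x hx => h x hx) (Set.toFinite _)

theorem two_lt_card [Finite G] {V : Subgroup G} {w a : G} (hw : w ∈ V) (hw' : a * w * a⁻¹ ∈ V)
    (haw : ¬ Commute a w) : 2 < Nat.card V := by
  classical
  have h1 : w ≠ 1 := by rintro rfl; exact haw (Commute.one_right _)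
  have h2 : a * w * a⁻¹ ≠ 1 := by simpa using h1
  have h3 : w ≠ a * w * a⁻¹ := fun h => haw (by rw [eq_mul_inv_iff_mul_eq] at h; exact h.symm)
  have := card_ge_of_finset (V := V) {1, w, a * w * a⁻¹} (by
    simp only [Finset.mem_insert, Finset.mem_singleton]
    rintro x (rfl | rfl | rfl)
    exacts [one_mem _, hw, hw'])
  rw [Finset.card_eq_three.2 ⟨_, _, _, h1.symm, h2.symm, h3, rfl⟩] at this
  omega

theorem four_lt_card [Finite G] {V : Subgroup G} {p : ℕ} (hp : Odd p) {z w a : G} (hz : z ∈ V)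
    (hw : w ∈ V) (hw' : a * w * a⁻¹ ∈ V) (hz1 : z ≠ 1) (hz2 : z * z = 1) (ha : a ^ p = 1)
    (haz : Commute a z) (haw : ¬ Commute a w) : 4 < Nat.card V := by
  classical
  have zi : z⁻¹ = z := inv_eq_of_mul_eq_one_right hz2
  have haz' : a * z * a⁻¹ = z := by rw [haz.eq]; simp
  have h1 : w ≠ 1 := by rintro rfl; exact haw (Commute.one_right _)
  have h2 : w ≠ z := by rintro rfl; exact haw haz
  have h3 : w * z ≠ 1 := fun h => h2 (by rw [eq_inv_of_mul_eq_one_left h, zi])
  have h4 : w * z ≠ z := by simpa using h1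
  have h5 : w * z ≠ w := by simpa using hz1
  have h6 : a * w * a⁻¹ ≠ 1 := by simpa using h1
  have h7 : a * w * a⁻¹ ≠ z := fun h => h2 (by
    rw [← haz'] at h; simpa using h)
  have h8 : a * w * a⁻¹ ≠ w := fun h => haw (by rw [mul_inv_eq_iff_eq_mul] at h; exact h)
  have h9 : a * w * a⁻¹ ≠ w * z := fun h => haw (commute_of_sq hp ha (by
    have : (a * a) * w * (a * a)⁻¹ = w := by
      calc (a * a) * w * (a * a)⁻¹ = a * (a * w * a⁻¹) * a⁻¹ := by group
        _ = (a * w * a⁻¹) * (a * z * a⁻¹) := by (conv_lhs => rw [h]); group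
        _ = w := by rw [h, haz', mul_assoc, hz2, mul_one]
    rw [mul_inv_eq_iff_eq_mul] at this; exact this))
  have := card_ge_of_finset (V := V) {a * w * a⁻¹, w * z, w, z, 1} (by
    simp only [Finset.mem_insert, Finset.mem_singleton]
    rintro x (rfl | rfl | rfl | rfl | rfl)
    exacts [hw', mul_mem hw hz, hw, hz, one_mem _])
  rw [Finset.card_insert_of_notMem (by simp only [Finset.mem_insert, Finset.mem_singleton]; tauto),
    Finset.card_insert_of_notMem (by simp only [Finset.mem_insert, Finset.mem_singleton]; tauto),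
    Finset.card_eq_three.2 ⟨_, _, _, h2, h1, hz1, rfl⟩] at this
  omega

/-- the standing hypotheses -/
structure Hyp (G : Type*) [Group G] (p n : ℕ) : Prop where
  p2 : p ≠ 2
  locp : IsOfLocalCharacteristic p G
  loc2 : IsCharacteristicTwoType G
  big : p ^ 2 < n
  max : ∀ (t : G) (A : Subgroup G), t ≠ 1 → t * t = 1 → EA p A → (∀ a ∈ A, Commute a t) →
    Nat.card A ≤ n

/-- an involution centralising an elementary abelian subgroup of the largest order -/
structure Good (p n : ℕ) (z : G) (A : Subgroup G) : Prop where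
  ne : z ≠ 1
  sq : z * z = 1
  ea : EA p A
  comm : ∀ a ∈ A, Commute a z
  big : n ≤ Nat.card A

variable {p n : ℕ} [hp : Fact p.Prime]

theorem Hyp.odd (h : Hyp G p n) : Odd p := hp.out.odd_of_ne_two h.p2

theorem Hyp.hyp_ne_bot [Finite G] (h : Hyp G p n) {A B : Subgroup G} (hA : n ≤ Nat.card A)
    (hB : Nat.card A ≤ p ^ 2 * Nat.card B) : B ≠ ⊥ := by
  rintro rfl
  have := h.big
  simp at hB
  omega

theorem Good.inv_le [Finite G] (h : Hyp G p n) {z : G} {A V : Subgroup G} (g : Good p n z A)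
    (hV : EA 2 V) (hVz : ∀ v ∈ V, Commute v z) (hAV : A ≤ normalizer (V : Set G)) :
    ∀ v ∈ V, v = 1 ∨ v = z := by
  have hp1 := hp.out.one_lt
  have hV' : EA 2 (V ⊔ zpowers z) := hV.sup_zpowers (by rw [pow_two, g.sq]) hVz
  have hAV' : A ≤ normalizer ((V ⊔ zpowers z : Subgroup G) : Set G) := fun a ha =>
    normalizer_inf_normalizer_le_normalizer_sup _ _ ⟨hAV ha, cent_le_norm fun b hb => by
      obtain ⟨i, rfl⟩ := mem_zpowers_iff.1 hb
      exact (g.comm a ha).symm.zpow_left i⟩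
  have hz : z ∈ V ⊔ zpowers z := mem_sup_right (mem_zpowers z)
  have hA0 : 0 < Nat.card A := Nat.card_pos
  by_cases hc : ∀ a ∈ A, ∀ v ∈ V ⊔ zpowers z, Commute a v
  · intro v hv
    by_contra hne
    push Not at hne
    have h3 : 2 ^ 1 < Nat.card (V ⊔ zpowers z : Subgroup G) := by
      classical
      have := card_ge_of_finset (V := V ⊔ zpowers z) {v, z, 1} (by
        simp only [Finset.mem_insert, Finset.mem_singleton]
        rintro x (rfl | rfl | rfl)
        exacts [mem_sup_left hv, hz, one_mem _])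
      rw [Finset.card_eq_three.2 ⟨_, _, _, hne.2, hne.1, g.ne, rfl⟩] at this
      omega
    obtain ⟨t, A', h1, h2, h3, h4, h5⟩ := exists_cent_inv h.p2 h.locp g.ea
      (h.hyp_ne_bot g.big (Nat.le_mul_of_pos_left _ (by positivity))) hV'
      (fun v hv => mem_cent.2 fun a ha => hc a ha v hv) 1 h3
    have := h.max t A' h1 h2 h3 h4
    have := g.big
    rw [pow_one] at h5
    nlinarith
  · exfalso
    push Not at hc
    obtain ⟨a, ha, v, hv, hav⟩ := hc
    obtain ⟨B, hBA, hi, -, w, hw, haw⟩ := exists_hyp h.p2 g.ea hV'.isPGroup hAV' ha hv hav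
    have hcard := card_eq_mul hBA hi
    have h4 : 2 ^ 2 < Nat.card ((V ⊔ zpowers z) ⊓ centralizer (B : Set G) : Subgroup G) :=
      four_lt_card h.odd ⟨hz, mem_cent.2 fun b hb => g.comm b (hBA hb)⟩ hw
        (conj_mem (norm_inf_cent (hAV' ha) (cent_le_norm fun b hb => g.ea.1 b (hBA hb) a ha)) hw)
        g.ne g.sq (g.ea.2 a ha) (g.comm a ha) haw
    obtain ⟨t, A', h1, h2, h3, h4, h5⟩ := exists_cent_inv h.p2 h.locp (g.ea.mono hBA)
      (h.hyp_ne_bot g.big (by rw [hcard]; exact Nat.mul_le_mul_right _ (by nlinarith)))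
      (hV'.mono inf_le_left) inf_le_right 2 h4
    have := h.max t A' h1 h2 h3 h4
    have := g.big
    have : p * Nat.card A ≤ Nat.card A' := by rw [hcard, ← mul_assoc, ← pow_two]; exact h5
    nlinarith

/-- involutions of the centre -/
def omZ (R : Subgroup G) : Subgroup G where
  carrier := {x | x ∈ R ∧ x ∈ centralizer (R : Set G) ∧ x * x = 1}
  one_mem' := ⟨one_mem _, one_mem _, one_mul _⟩
  mul_mem' := fun {a b} ha hb => ⟨mul_mem ha.1 hb.1, mul_mem ha.2.1 hb.2.1, by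
    rw [(mem_cent.1 hb.2.1 a ha.1).symm.mul_mul_mul_comm, ha.2.2, hb.2.2, one_mul]⟩
  inv_mem' := fun {a} ha => ⟨inv_mem ha.1, inv_mem ha.2.1, by rw [← mul_inv_rev, ha.2.2, inv_one]⟩

omit hp in
theorem omZ_ea (R : Subgroup G) : EA 2 (omZ R) :=
  ⟨fun a ha b hb => mem_cent.1 hb.2.1 a ha.1, fun a ha => by rw [sq]; exact ha.2.2⟩

omit hp in
theorem omZ_norm [Finite G] (R : Subgroup G) {g : G} (hg : g ∈ normalizer (R : Set G)) :
    g ∈ normalizer (omZ R : Set G) :=
  mem_norm fun x hx => ⟨conj_mem hg hx.1, conj_mem_cent hg hx.2.1, by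
    rw [conj_mul, hx.2.2]; simp⟩

theorem Good.invZ [Finite G] (h : Hyp G p n) {z : G} {A R : Subgroup G} (g : Good p n z A)
    (hRz : ∀ v ∈ R, Commute v z) (hAR : A ≤ normalizer (R : Set G)) {x : G} (hx : x ∈ R)
    (hc : x ∈ centralizer (R : Set G)) (h2 : x * x = 1) : x = 1 ∨ x = z :=
  g.inv_le h (omZ_ea R) (fun v hv => hRz v hv.1) (fun _ ha => omZ_norm R (hAR ha)) x ⟨hx, hc, h2⟩

theorem Good.cent_center [Finite G] (h : Hyp G p n) {z : G} {A R : Subgroup G} (g : Good p n z A)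
    (hR : IsPGroup 2 R) (hRz : ∀ v ∈ R, Commute v z) (hAR : A ≤ normalizer (R : Set G))
    {a x : G} (ha : a ∈ A) (hx : x ∈ R) (hc : x ∈ centralizer (R : Set G)) : Commute a x := by
  obtain ⟨k, hk⟩ := pg_elem hR hx
  induction k generalizing x with
  | zero => rw [pow_zero, pow_one] at hk; rw [hk]; exact Commute.one_right _
  | succ k ih =>
    have h2 := ih (mul_mem hx hx) (mul_mem hc hc) (by rw [← pow_two, ← pow_mul, ← pow_succ', hk])
    have hx' := conj_mem (hAR ha) hx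
    have hc' := conj_mem_cent (hAR ha) hc
    have hsq : (a * x * a⁻¹ * x⁻¹) * (a * x * a⁻¹ * x⁻¹) = 1 := by
      rw [(mem_cent.1 (inv_mem hc) _ hx').symm.mul_mul_mul_comm, conj_mul, h2.eq]
      group
    rcases g.invZ h hRz hAR (mul_mem hx' (inv_mem hx)) (mul_mem hc' (inv_mem hc)) hsq with e | e
    · rw [mul_inv_eq_one, mul_inv_eq_iff_eq_mul] at e; exact e
    · rw [mul_inv_eq_iff_eq_mul] at e
      refine commute_of_sq h.odd (g.ea.2 a ha) ?_
      have haz : a * z * a⁻¹ = z := by rw [(g.comm a ha).eq]; simp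
      have : (a * a) * x * (a * a)⁻¹ = x := by
        calc (a * a) * x * (a * a)⁻¹ = a * (a * x * a⁻¹) * a⁻¹ := by group
          _ = (a * z * a⁻¹) * (a * x * a⁻¹) := by (conv_lhs => rw [e]); group
          _ = x := by rw [e, haz, ← mul_assoc, g.sq, one_mul]
      rw [mul_inv_eq_iff_eq_mul] at this; exact this

/-- the symplectic-type subgroup -/
structure St (z : G) (A K : Subgroup G) : Prop where
  pg : IsPGroup 2 K
  mem : z ∈ K
  le : ∀ x ∈ K, Commute x z
  norm : ∀ g, Commute g z → g ∈ normalizer (K : Set G)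
  comm : ∀ x ∈ K, ∀ y ∈ K, ⁅x, y⁆ = 1 ∨ ⁅x, y⁆ = z
  sq : ∀ x ∈ K, x * x = 1 ∨ x * x = z
  invZ : ∀ x ∈ K, x ∈ centralizer (K : Set G) → x * x = 1 → x = 1 ∨ x = z
  faith : ∀ B ≤ A, ⁅K, B⁆ ≤ centralizer (K : Set G) → B = ⊥

omit hp in
theorem sq_mul_eq (x y : G) : x * y * (x * y) = x * x * ⁅x⁻¹, y⁆ * (y * y) := by
  rw [commutatorElement_def]; group

theorem Good.exists_st [Finite G] (h : Hyp G p n) {z : G} {A : Subgroup G} (g : Good p n z A) :
    ∃ K : Subgroup G, St z A K := by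
  have zi : z⁻¹ = z := inv_eq_of_mul_eq_one_right g.sq
  have hzE : EA 2 (zpowers z) := by
    simpa using (show EA 2 (⊥ : Subgroup G) from
      ⟨fun a ha b _ => by rw [mem_bot.1 ha]; exact Commute.one_left _,
        fun a ha => by rw [mem_bot.1 ha, one_pow]⟩).sup_zpowers (y := z) (by rw [pow_two, g.sq])
      (fun a ha => by rw [mem_bot.1 ha]; exact Commute.one_left _)
  have hzn : ∀ x, Commute x z → x ∈ normalizer ((zpowers z : Subgroup G) : Set G) :=
    fun x hx => cent_le_norm fun b hb => by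
      obtain ⟨i, rfl⟩ := mem_zpowers_iff.1 hb
      exact hx.symm.zpow_left i
  obtain ⟨Q, hQ, hzQ, hQN, hNQ, hCQ⟩ := core_ambient hzE.isPGroup
    (h.loc2.2 _ hzE.isPGroup (by simpa using g.ne))
  have hQz : ∀ x ∈ Q, Commute x z := fun x hx => by
    rcases g.inv_le h hzE (fun v hv => hzE.1 v hv z (mem_zpowers z))
      (fun a ha => hzn a (g.comm a ha)) _ (conj_mem (hQN hx) (mem_zpowers z)) with e | e
    · exact (g.ne (by simpa using e)).elim
    · rw [mul_inv_eq_iff_eq_mul] at e; exact e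
  obtain ⟨T, hTQ, -, hNT, hcomm, hpow, hself, hfaith⟩ := PG.exists_critical_ambient hQ
  have hT : IsPGroup 2 T := hQ.to_le hTQ
  have hTz : ∀ x ∈ T, Commute x z := fun x hx => hQz x (hTQ hx)
  have hzT : z ∈ T := hself ⟨hzQ (mem_zpowers z), mem_cent.2 hTz⟩
  have hnT : ∀ x, Commute x z → x ∈ normalizer (T : Set G) := fun x hx => hNT (hNQ (hzn x hx))
  have hAT : A ≤ normalizer (T : Set G) := fun a ha => hnT a (g.comm a ha)
  have hc : ∀ x ∈ T, ∀ y ∈ T, ⁅x, y⁆ = 1 ∨ ⁅x, y⁆ = z := fun x hx y hy => by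
    have hm := hcomm (commutator_mem_commutator hx (hTQ hy))
    refine g.invZ h hTz hAT hm.1 hm.2 ?_
    have h1 : x * y * x⁻¹ = ⁅x, y⁆ * y := by rw [commutatorElement_def]; group
    have h2 : x * ⁅x, y⁆ * x⁻¹ = ⁅x, y⁆ := by rw [(mem_cent.1 hm.2 x hx).eq]; simp
    have h3 : (x * x) * y * (x * x)⁻¹ = y := by
      rw [← (mem_cent.1 (pow_two x ▸ hpow x hx) y hy).eq, mul_inv_cancel_right]
    have h4 : ⁅x, y⁆ * ⁅x, y⁆ * y = y := by
      calc ⁅x, y⁆ * ⁅x, y⁆ * y = (x * ⁅x, y⁆ * x⁻¹) * (x * y * x⁻¹) := by rw [h2, h1, mul_assoc]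
        _ = x * (⁅x, y⁆ * y) * x⁻¹ := by group
        _ = y := by rw [← h1]; (conv_rhs => rw [← h3]); group
    simpa using h4
  let K : Subgroup G :=
    { carrier := {x | x ∈ T ∧ (x * x = 1 ∨ x * x = z)}
      one_mem' := ⟨one_mem _, Or.inl (one_mul _)⟩
      mul_mem' := fun {a b} ha hb => ⟨mul_mem ha.1 hb.1, by
        rw [sq_mul_eq]
        rcases ha.2 with e1 | e1 <;> rcases hb.2 with e2 | e2 <;>
          rcases hc _ (inv_mem ha.1) _ hb.1 with e3 | e3 <;> simp [e1, e2, e3, g.sq]⟩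
      inv_mem' := fun {a} ha => ⟨inv_mem ha.1, by
        rw [← mul_inv_rev]
        rcases ha.2 with e | e <;> simp [e, zi]⟩ }
  have hKT : K ≤ T := fun x hx => hx.1
  have hK : IsPGroup 2 K := hT.to_le hKT
  have hKz : ∀ x ∈ K, Commute x z := fun x hx => hTz x hx.1
  have hnK : ∀ x, Commute x z → x ∈ normalizer (K : Set G) := fun x hx =>
    mem_norm fun y hy => ⟨conj_mem (hnT x hx) hy.1, by
      rw [conj_mul]
      rcases hy.2 with e | e
      · left; simp [e]
      · right; rw [e, hx.eq]; simp⟩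
  have hAK : A ≤ normalizer (K : Set G) := fun a ha => hnK a (g.comm a ha)
  refine ⟨K, hK, ⟨hzT, Or.inl g.sq⟩, hKz, hnK, fun x hx y hy => hc x hx.1 y hy.1,
    fun x hx => hx.2, fun x hx h1 h2 => g.invZ h hKz hAK hx h1 h2, fun B hB hKB => ?_⟩
  have hBp : IsPGroup p B := (g.ea.mono hB).isPGroup
  have cop : ∀ X : Subgroup G, IsPGroup 2 X → (Nat.card B).Coprime (Nat.card X) := fun X hX =>
    IsPGroup.coprime_card_of_ne p 2 h.p2 B X hBp hX
  have h1 : K ≤ centralizer (B : Set G) :=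
    coprime_le_centralizer_of_trivial_on_factors B K (K ⊓ centralizer (K : Set G))
      (fun b hb => norm_inf_cent (hAK (hB hb)) (hAK (hB hb))) (cop _ (hK.to_le inf_le_left))
      (fun x hx => mem_cent.2 fun b hb => g.cent_center h hK hKz hAK (hB hb) hx.1 hx.2)
      (le_inf (commutator_le.2 fun x hx b hb => by
        rw [commutatorElement_def, mul_assoc, mul_assoc, ← mul_assoc b]
        exact mul_mem hx (conj_mem (hAK (hB hb)) (inv_mem hx))) hKB)
  have h2 : ⁅T, B⁆ ≤ K := commutator_le.2 fun s hs b hb => by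
    have hs' := conj_mem (hAT (hB hb)) (inv_mem hs)
    have e : ⁅s, b⁆ = s * (b * s⁻¹ * b⁻¹) := by rw [commutatorElement_def]; group
    refine ⟨e ▸ mul_mem hs hs', ?_⟩
    have hss : s * s ∈ centralizer (T : Set G) := pow_two s ▸ hpow s hs
    have e2 : (b * s⁻¹ * b⁻¹) * (b * s⁻¹ * b⁻¹) = (s * s)⁻¹ := by
      rw [conj_mul, ← mul_inv_rev,
        (g.cent_center h hT hTz hAT (hB hb) (mul_mem hs hs) hss).inv_right.eq]
      simp
    rw [e, sq_mul_eq, e2]
    rcases hc _ (inv_mem hs) _ hs' with e3 | e3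
    · left; rw [e3]; simp
    · right; rw [e3, ← (mem_cent.1 hss z hzT).eq, mul_inv_cancel_right]
  have hsolv : Group.IsSolvable T := by
    have := hT.isNilpotent
    infer_instance
  have h3 : T ≤ centralizer (B : Set G) :=
    coprime_le_centralizer_of_commutator_le B T (hB.trans hAT) (cop _ hT) (Or.inr hsolv)
      (h2.trans h1)
  refine (eq_bot_iff_forall B).2 fun b hb => ?_
  have hbp : b ^ p = 1 := g.ea.2 b (hB hb)
  have hbQ : b ∈ Q := hCQ b (hzn b (g.comm b (hB hb))) (hfaith b (hNQ (hzn b (g.comm b (hB hb))))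
    (Nat.Coprime.coprime_dvd_left (orderOf_dvd_of_pow_eq_one hbp)
      ((Nat.coprime_primes hp.out Nat.prime_two).2 h.p2)) (le_centralizer_iff.1 h3 hb))
  obtain ⟨k, hk⟩ := pg_elem hQ hbQ
  exact eq_one_of_two_primes h.p2 (k := 1) (by simpa using hbp) hk

end CL.KM
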