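import Cfsg.Agent.SOLV.SectionAut

/-! A quadratic-action lemma for a symplectic space over the field with two elements
(used in the Klinger-Mason theorem). -/

set_option autoImplicit false
open scoped commutatorElement

namespace CL.KM

theorem quad_act {W Y : Type*} [CommGroup W] [Group Y] (φ : Y →* MulAut W) (U X : W → Prop)
    (hU : ∀ y w, U w → U (φ y w)) (hX : ∀ y w, X w → φ y w = w) (a b : Y)
    (ha : ∀ w, U w → X (φ a w * w⁻¹)) (hb : ∀ w, U w → X (φ b w * w⁻¹)) (w : W) (hw : U w) :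
    φ ⁅a, b⁆ w = w := by
  have key : ∀ u, U u → φ a (φ b u) = φ b (φ a u) := by
    intro u hu
    have h1 : φ b u = (φ b u * u⁻¹) * u := by simp
    have h2 : φ a u = (φ a u * u⁻¹) * u := by simp
    have e1 : φ a (φ b u) = (φ b u * u⁻¹) * φ a u := by
      conv_lhs => rw [h1, map_mul, hX a _ (hb u hu)]
    have e2 : φ b (φ a u) = (φ a u * u⁻¹) * φ b u := by
      conv_lhs => rw [h2, map_mul, hX b _ (ha u hu)]
    rw [e1, e2]
    simp only [mul_comm, mul_left_comm, mul_assoc]
  have h3 : φ ⁅a, b⁆ w = φ a (φ b (φ (a⁻¹ * b⁻¹) w)) := by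
    rw [commutatorElement_def]; simp [mul_assoc]
  rw [h3, key _ (hU _ _ hw)]
  simp

/-- The final contradiction of the Klinger-Mason argument, in linear form. -/
theorem symp_final {W Y : Type*} [CommGroup W] [Group Y] (φ : Y →* MulAut W)
    (o : W → W → Prop) (hrefl : ∀ x, o x x) (hsymm : ∀ x y, o x y → o y x)
    (hmul : ∀ x y w, o x (y * w) ↔ (o x y ↔ o x w)) (hnd : ∀ x, (∀ y, o x y) → x = 1)
    (hinv : ∀ y x w, o x w → o (φ y x) (φ y w)) (z : Y) (hz : z * z = 1)
    (hc : ∀ y, y * z = z * y) (W0 : W → Prop) (h01 : W0 1)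
    (h0m : ∀ x y, W0 x → W0 y → W0 (x * y)) (h0 : ∀ w, W0 w → ∀ y, φ y w = w)
    (hidx : ∀ c c', φ z c = c → φ z c' = c' → ¬ W0 c → ¬ W0 c' → W0 (c * c'))
    (hY : ∀ Y1 : Subgroup Y, (∀ a b, a ∉ Y1 → b ∉ Y1 → a * b ∈ Y1) →
      ∃ a ∈ Y1, ∃ b ∈ Y1, ⁅a, b⁆ = z) (w : W) : φ z w = w := by
  have sq : ∀ x : W, x * x = 1 := fun x => hnd _ fun y => hsymm _ _ ((hmul y x x).2 Iff.rfl)
  have hi : ∀ x : W, x⁻¹ = x := fun x => inv_eq_of_mul_eq_one_right (sq x)
  have hsy : ∀ x y, o x y ↔ o y x := fun x y => ⟨hsymm _ _, hsymm _ _⟩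
  have hmul' : ∀ x y w, o (y * w) x ↔ (o y x ↔ o w x) := fun x y w => by
    rw [hsy, hmul, hsy x y, hsy x w]
  have adj : ∀ y a b, o (φ y a) b ↔ o a (φ y⁻¹ b) := fun y a b =>
    ⟨fun h => by simpa using hinv y⁻¹ _ _ h, fun h => by simpa using hinv y _ _ h⟩
  have fix_of : ∀ y x, (∀ u, o x (φ y⁻¹ u * u)) → φ y x = x := by
    intro y x h
    have : φ y x * x = 1 := hnd _ fun u => by
      rw [hmul', adj, ← hmul]; exact h u
    rw [← hi x]
    simpa [hi] using eq_inv_of_mul_eq_one_left this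
  have zi : z⁻¹ = z := inv_eq_of_mul_eq_one_right hz
  have zz : ∀ x, φ z (φ z x) = x := fun x => by
    rw [← MulAut.mul_apply, ← map_mul, hz, map_one, MulAut.one_apply]
  have Cinv : ∀ y c, φ z c = c → φ z (φ y c) = φ y c := fun y c h => by
    rw [← MulAut.mul_apply, ← map_mul, ← hc, map_mul, MulAut.mul_apply, h]
  let U : W → Prop := fun x => ∀ w0, W0 w0 → o x w0
  let L : W → Prop := fun x => ∀ c, φ z c = c → o x c
  have hU : ∀ y x, U (φ y x * x) := fun y x w0 h => by
    rw [hmul', adj, h0 w0 h]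
  have Uinv : ∀ y x, U x → U (φ y x) := fun y x h w0 h' => by
    rw [adj, h0 w0 h']; exact h w0 h'
  have Umul : ∀ x y, U x → U y → U (x * y) := fun x y hx hy w0 h => by
    rw [hmul']; exact iff_of_true (hx w0 h) (hy w0 h)
  have Linv : ∀ y x, L x → L (φ y x) := fun y x h c h' => by
    rw [adj]; exact h _ (Cinv _ _ h')
  have Linv' : ∀ y x, L (φ y x) → L x := fun y x h => by simpa using Linv y⁻¹ _ h
  have Lmul : ∀ x y, L x → L y → L (x * y) := fun x y hx hy c h => by
    rw [hmul']; exact iff_of_true (hx c h) (hy c h)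
  have LC : ∀ x, L x → φ z x = x := fun x h => fix_of z x fun u => h _ (by
    rw [zi, map_mul, zz, mul_comm])
  have W0inv' : ∀ y x, W0 (φ y x) → W0 x := fun y x h => by
    have := h0 _ h y⁻¹
    simp only [map_inv, MulAut.inv_apply, MulEquiv.symm_apply_apply] at this
    rw [this]; exact h
  have idxL : ∀ u u', U u → U u' → ¬ L u → ¬ L u' → L (u * u') := by
    intro u u' hu hu' h1 h2 d hd
    have aux : ∀ v, U v → ¬ L v → ¬ W0 d → ¬ o v d := by
      intro v hv hl hd0 hvd
      apply hl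
      intro c hcz
      by_cases hc0 : W0 c
      · exact hv c hc0
      · have := hv _ (hidx c d hcz hd hc0 hd0)
        rw [hmul] at this
        exact this.2 hvd
    rw [hmul']
    by_cases hd0 : W0 d
    · exact iff_of_true (hu d hd0) (hu' d hd0)
    · exact iff_of_false (aux u hu h1 hd0) (aux u' hu' h2 hd0)
  -- Step 1: `z` centralises `U`
  have dL : ∀ y u, U u → L (φ y u * u) := fun y u hu => by
    by_cases h : L u
    · exact Lmul _ _ (Linv y u h) h
    · exact idxL _ _ (Uinv y u hu) hu (fun h' => h (Linv' y u h')) h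
  have dW : ∀ y u, L u → W0 (φ y u * u) := fun y u hu => by
    by_cases h : W0 u
    · rw [h0 u h, sq]; exact h01
    · exact hidx _ _ (Cinv _ _ (LC u hu)) (LC u hu) (fun h' => h (W0inv' y u h')) h
  have dmul : ∀ a b u, φ (a * b) u * u = φ a (φ b u * u) * (φ a u * u) := fun a b u => by
    rw [map_mul, MulAut.mul_apply, map_mul, mul_assoc, ← mul_assoc (φ a u), sq, one_mul]
  let Y1 : Subgroup Y :=
    { carrier := {y | ∀ u, U u → W0 (φ y u * u)}
      one_mem' := fun u _ => by simpa [sq] using h01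
      mul_mem' := fun {a b} ha hb u hu => by
        rw [dmul, h0 _ (hb u hu)]
        exact h0m _ _ (hb u hu) (ha u hu)
      inv_mem' := fun {a} ha u hu => by
        have := ha _ (Uinv a⁻¹ u hu)
        simp only [map_inv, MulAut.inv_apply, MulEquiv.apply_symm_apply] at this
        simpa [mul_comm] using this }
  have hY1 : ∀ a b, a ∉ Y1 → b ∉ Y1 → a * b ∈ Y1 := by
    intro a b ha hb u hu
    by_cases hl : L u
    · exact dW _ u hl
    have aux : ∀ y, y ∉ Y1 → ¬ W0 (φ y u * u) := by
      intro y hy h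
      apply hy
      intro v hv
      by_cases hv' : L v
      · exact dW _ v hv'
      · have h2 := dW y _ (idxL u v hu hv hl hv')
        have h3 := h0m _ _ h h2
        have : φ y u * u * (φ y (u * v) * (u * v)) = φ y v * v := by
          rw [map_mul]
          calc φ y u * u * (φ y u * φ y v * (u * v))
              = (φ y u * φ y u) * (u * u) * (φ y v * v) := by
                simp only [mul_comm, mul_left_comm, mul_assoc]
            _ = _ := by rw [sq, sq, one_mul, one_mul]
        rwa [this] at h3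
    rw [dmul]
    exact hidx _ _ (Cinv _ _ (LC _ (dL b u hu))) (LC _ (dL a u hu))
      (fun h => aux b hb (W0inv' _ _ h)) (aux a ha)
  have hUz : ∀ u, U u → φ z u = u := by
    obtain ⟨a, ha, b, hb, hab⟩ := hY Y1 hY1
    intro u hu
    rw [← hab]
    exact quad_act φ U W0 Uinv (fun y x h => h0 x h y) a b
      (fun x hx => by rw [hi]; exact ha x hx) (fun x hx => by rw [hi]; exact hb x hx) u hu
  -- Step 2: `U` is totally isotropic, the action is quadratic
  have iso : ∀ u u', U u → U u' → o u u' := by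
    intro u u' hu hu'
    by_cases h1 : L u
    · exact h1 _ (hUz _ hu')
    by_cases h2 : L u'
    · exact hsymm _ _ (h2 _ (hUz _ hu))
    have := idxL u u' hu hu' h1 h2 u' (hUz _ hu')
    rw [hmul'] at this
    exact this.2 (hrefl _)
  obtain ⟨a, -, b, -, hab⟩ := hY ⊤ (fun _ _ h _ => (h trivial).elim)
  rw [← hab]
  exact quad_act φ (fun _ => True) U (fun _ _ _ => trivial)
    (fun y x hx => fix_of y x fun u => iso _ _ hx (hU _ u)) a b
    (fun x _ => by rw [hi]; exact hU a x) (fun x _ => by rw [hi]; exact hU b x) w trivial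

end CL.KM
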